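import Cfsg.Agent.Omega.OM.Swap.Pair

/-!
# THEOREM Y (TCARD 5, D4): LEMMA C1 and step (8)

* `exists_blk_le` : a minimal parabolic `Y` over `T ≥ B` with `J(T) ≰ O₂(Y)` which moves `Ω₁(Z(T))` contains an FF-block
  over `B`;
* `no_blk` : no FF-block over `B` centralises `Ω₁(Z(S))`;
* `Line.c1` : if `Ω₁(Z(S)) ≤ R ≤ Z_J` and `B` is a Sylow group of `C_G(R)`, then `C_G(R) ≤ N_G(Z_J)`;
* `Line.end8` : (8) of THEOREM Y.
-/

set_option autoImplicit false

namespace Cfsg.Agent.Omega.OM.YThm.End8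

open Subgroup Cfsg Cfsg.Agent.ZN.ChoiceBase Cfsg.Agent.ZN.ChoiceSit
open Cfsg.Agent.ZN (jj zj bau zc zl o2)
open Cfsg.Agent.MinSimple.MinParabolic (IsMinPar)
open Cfsg.Agent.Omega.LemmaK (Block WeakNormal)
open Cfsg.Agent.Omega.LemmaK.Main (le_normalizer_bau)
open Cfsg.Agent.Omega.OM Cfsg.Agent.Omega.OM.BlkGen
open Cfsg.Agent.Omega.OM.Uni (FB Fr)
open Cfsg.Agent.Omega.OM.BlkGen (FBlk)
open scoped Pointwise

universe u

variable {G : Type u} [Group G] [Finite G]

/-- A minimal parabolic which moves `Ω₁(Z(T))` contains an FF-block over `B`. -/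
theorem exists_blk_le {T H : Subgroup G} (hFF : FFThm.Stmt.{u}) (S : Sylow 2 G) (hT : Syl T H)
    (hB : bau (S : Subgroup G) ≤ T) (hP : IsMinPar T H) (hc : H ⊓ centralizer (o2 H : Set G) ≤ o2 H)
    (hJ : ¬ jj T ≤ o2 H) (hZ : ¬ H ≤ centralizer (zc T : Set G)) :
    ∃ L V, FBlk (S : Subgroup G) L V ∧ L ≤ H := by
  have hbau : bau T = bau (S : Subgroup G) := LemmaK.Main.bau_eq S hT.2.1 hB
  have hw : WeakNormal 2 (bau T) := by
    rw [hbau]
    exact fun R hR hBR => le_normalizer_bau S hR hBR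
  obtain ⟨A, hA, hoff⟩ := exists_off hT hP hc hJ hZ
  obtain ⟨hno, hcon⟩ := hFF G T H hT hP hc ⟨A, hA.2.1.trans hT.1, hoff⟩
  have hm := SQ1.FFOne.minH_of hT hP hc
  rcases hcon with ⟨F, _, _, _, k, hk, ⟨M⟩⟩ | ⟨k, m, hk, hm2, ⟨M⟩⟩
  · have : Nonempty (Fin k) := ⟨⟨0, hk⟩⟩
    set N := (SQ1.FFOne.natKB_of hT hc hJ hk M).toFFK hm with hN
    obtain ⟨E, hE⟩ := N.toInK hm
    obtain ⟨L, hL⟩ := hE.exists_blk ⟨0, hk⟩
    have hpb := FBK.pb hm N hE hw hL
    exact ⟨L, ⁅N.N ⟨0, hk⟩, L⁆, ⟨⟨_, _, by rw [← hbau]; exact hpb.fb⟩, by rw [← hbau]; exact hpb.block hw⟩,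
      hL.LH hE⟩
  · have h := syT_of hm hJ M hk (by omega) SQ1.FFOf.cv_le SQ1.FFOf.cv_norm
    obtain ⟨ι, J, X, Y, t, r, c⟩ := h.exists_ch
    have hin := c.main h Cfsg.Agent.Omega.SQ1.SymCyc.exists_pow
    obtain ⟨j, x, y, hTr⟩ := h.exists_tr
    obtain ⟨i, -⟩ := c.ex j x y hTr
    obtain ⟨L, hL⟩ := hin.exists_blk i
    have hpb := FBS.pb hin hw hL
    exact ⟨L, ⁅h.NN (J i) 0 (X i) (Y i), L⁆,
      ⟨⟨_, _, by rw [← hbau]; exact hpb.fb⟩, by rw [← hbau]; exact hpb.block hw⟩, hL.LH hin⟩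

section line

variable {ι : Type} [Finite ι] {S : Sylow 2 G} {P : Subgroup G} {L W Z C A : ι → Subgroup G} {q : ℕ}

/-- No FF-block over `B` centralises `Ω₁(Z(S))`. -/
theorem no_blk (h : Line S P L W Z C A q) (htr : ∀ i j : ι, ∃ s ∈ (S : Subgroup G), cj s (Z i) = Z j)
    {L' V' : Subgroup G} (hb : FBlk (S : Subgroup G) L' V') (hc : L' ≤ centralizer (zc (S : Subgroup G) : Set G)) :
    False := by
  have : Fact (Nat.Prime 2) := ⟨Nat.prime_two⟩
  -- one block gives an index
  have key : ∀ {L' V' Z' : Subgroup G} {q' : ℕ}, FB (bau (S : Subgroup G)) L' V' Z' q' →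
      Block 2 (bau (S : Subgroup G)) L' V' → L' ≤ centralizer (zc (S : Subgroup G) : Set G) →
      ∃ i, Z' = Z i ∧ zc (S : Subgroup G) ≤ C i := by
    intro L' V' Z' q' h' hbl hc
    obtain ⟨-, i, hZ, -, ⟨-, h1, -⟩ | ⟨-, -, ⟨w', hw', w, hw, hne⟩, -⟩⟩ := h.uniPlus h'
    · exact ⟨i, hZ, fun z hz => (h1 z (zc_le_zj _ hz)).2 fun l hl => (mem_centralizer_iff.1 (hc hl) z hz).symm⟩
    · exfalso
      have hH := h.hyp.low P h.hyp.star
      have h1 := hbl.le_centralizer (isPGroup_o2 (centralizer (zc (S : Subgroup G) : Set G)))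
        (hc.trans (le_normalizer_o2 _))
      exact hne (mem_centralizer_iff.1 (h1 (hH (h.fr.WV i hw))) w' hw')
  obtain ⟨⟨Z', q', h'⟩, hbl⟩ := hb
  obtain ⟨i, hZ, -⟩ := key h' hbl hc
  have hall : ∀ j, zc (S : Subgroup G) ≤ C j := by
    intro j
    obtain ⟨s, hs, hsZ⟩ := htr i j
    have hsB : cj s (bau (S : Subgroup G)) = bau (S : Subgroup G) :=
      cj_eq_of_mem_normalizer (Line.S_le S hs)
    have h1 := h'.conj s
    have h2 := block_conj hbl s
    rw [hsB] at h1 h2
    obtain ⟨j', hZ', hj'⟩ := key h1 h2 (by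
      have h3 := cj_mono s hc
      rw [cj_centralizer] at h3
      have h4 : cj s (zc (S : Subgroup G)) = zc (S : Subgroup G) := by
        apply cj_eq_of_mem_normalizer
        refine (centralizer_le_normalizer _) ?_
        rw [mem_centralizer_iff]
        exact fun z hz => ((mem_zc.1 hz).2.2 s hs).symm
      rwa [h4] at h3)
    rw [hZ, hsZ] at hZ'
    have hjj : j = j' := by
      by_contra hne
      have h5 : Z j ≤ W j ⊓ C j := le_inf (h.fr.blk j).ZV (by
        rw [hZ']
        exact (h.fr.blk j').ZV.trans (h.fr.WjC j j' hne))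
      rw [h.fr.dir j] at h5
      have h6 := h.fr.cardZ j
      rw [le_bot_iff.1 h5, Subgroup.card_bot] at h6
      have h7 := (h.fr.blk j).one
      omega
    rw [hjj]
    exact hj'
  have hne := zc_ne_bot (S.isPGroup') (h.S_ne)
  apply hne
  rw [eq_bot_iff]
  intro z hz
  rw [mem_bot]
  exact h.fr.C0 z (h.fr.ZJV (zc_le_zj _ hz)) fun j => hall j hz

/-- **LEMMA C1** -/
theorem _root_.Cfsg.Agent.Omega.OM.Line.c1 (h : Line S P L W Z C A q)
    (htr : ∀ i j : ι, ∃ s ∈ (S : Subgroup G), cj s (Z i) = Z j) (hFF : FFThm.Stmt.{u}) {R : Subgroup G}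
    (hZR : zc (S : Subgroup G) ≤ R) (hR : R ≤ zj (S : Subgroup G))
    (hB : Syl (bau (S : Subgroup G)) (centralizer (R : Set G))) :
    centralizer (R : Set G) ≤ normalizer (zj (S : Subgroup G) : Set G) := by
  have hR1 : R ≠ ⊥ := fun e => zc_ne_bot (S.isPGroup') (h.S_ne) (le_bot_iff.1 (e ▸ hZR))
  have hR2 : IsPGroup 2 R := S.isPGroup'.to_le (hR.trans ((Swap.zj_le_bau _).trans (bau_le _)))
  have hcH := Swap.char2_cent h.hyp.ctx.char2 hR2 hR1
  refine MinSimple.MinParabolic.le_of_forall hB.1 (inf_le_right.trans (Dich.norm_zj _)) fun Y hY hYH => ?_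
  have hTY : Syl (bau (S : Subgroup G)) Y :=
    ⟨hY.le, hB.2.1, fun Q hQ h2 hTQ => hB.2.2 Q (hQ.trans hYH) h2 hTQ⟩
  have hjj : jj (bau (S : Subgroup G)) = jj (S : Subgroup G) := LemmaK.Main.jj_eq S hB.2.1 le_rfl
  by_cases h1 : jj (bau (S : Subgroup G)) ≤ o2 Y
  · have h2 : o2 Y ≤ bau (S : Subgroup G) := o2_le_syl hTY
    have h3 : jj (o2 Y) = jj (bau (S : Subgroup G)) := jj_eq_of_jj_le h1 h2
    have h4 : Y ≤ normalizer (jj (S : Subgroup G) : Set G) := by
      rw [← hjj, ← h3]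
      exact (le_normalizer_o2 Y).trans (normalizer_le_jj _)
    have h6 : normalizer (jj (S : Subgroup G) : Set G) ≤ normalizer (zj (S : Subgroup G) : Set G) := by
      have h7 := normalizer_le_of_cj (F := zj) zj_cj (jj (S : Subgroup G))
      have h8 : zj (jj (S : Subgroup G)) = zj (S : Subgroup G) :=
        zj_congr (jj_eq_of_jj_le le_rfl (jj_le _))
      rwa [h8] at h7
    exact h4.trans h6
  by_cases h2 : Y ≤ centralizer (zc (bau (S : Subgroup G)) : Set G)
  · rw [h.fr.zcB] at h2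
    exact h2.trans (centralizer_le_normalizer _)
  exfalso
  have h4 : o2 (centralizer (R : Set G)) ≤ o2 Y :=
    le_o2 (isPGroup_o2 _) ((o2_le_syl hB).trans hY.le) (hYH.trans (le_normalizer_o2 _))
  have hcY : Y ⊓ centralizer (o2 Y : Set G) ≤ o2 Y := by
    rintro x ⟨hx, hxc⟩
    exact h4 (hcH ⟨hYH hx, centralizer_le (by exact_mod_cast h4) hxc⟩)
  obtain ⟨L', V', hb, hLY⟩ := exists_blk_le hFF S hTY le_rfl hY hcY h1 h2
  exact no_blk h htr hb (hLY.trans (hYH.trans (centralizer_le (by exact_mod_cast hZR))))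

/-- The exceptional configuration of THEOREM Y. -/
def FourF (S : Subgroup G) (q : ℕ) : Prop :=
  q = 4 ∧ ∃ t ∈ normalizer (bau S : Set G), (∃ n : ℕ, t ^ 2 ^ n = 1) ∧
    Nat.card (zj S) = 2 * Nat.card ↥(zj S ⊓ centralizer ({t} : Set G))

/-- Field part of (8): `|F : {x | a σ(x) = x}| = 2` and `|F| ≥ 4` ⟹ `|F| = 4`. -/
theorem card_four {F : Type} [Field F] [Finite F] (h4 : 4 ≤ Nat.card F) (a : F)
    (σ : F ≃+* F) {δ : F} (hδ : ∀ x, a * σ x = x ∨ a * σ x = x + δ) (hne : ∃ x, a * σ x ≠ x) :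
    Nat.card F = 4 := by
  classical
  -- the fixed elements
  let K : AddSubgroup F :=
    { carrier := {x | a * σ x = x}
      zero_mem' := by simp
      add_mem' := fun {x y} hx hy => by
        change a * σ (x + y) = x + y
        rw [map_add, mul_add, hx, hy]
      neg_mem' := fun {x} hx => by
        change a * σ (-x) = -x
        rw [map_neg, mul_neg, hx] }
  have hK : ∀ x, x ∈ K ↔ a * σ x = x := fun x => Iff.rfl
  obtain ⟨x₀, hx₀⟩ := hne
  -- `|F| ≤ 2 |K|`
  have h1 : Nat.card F ≤ 2 * Nat.card K := by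
    have hsub : (Set.univ : Set F) ⊆ (K : Set F) ∪ (fun k => k + x₀) '' (K : Set F) := by
      intro x _
      rcases hδ x with h | h
      · exact Or.inl h
      · right
        refine ⟨x - x₀, ?_, sub_add_cancel x x₀⟩
        have h0 := (hδ x₀).resolve_left hx₀
        change a * σ (x - x₀) = x - x₀
        rw [map_sub, mul_sub, h, h0]
        ring
    have e1 := Set.ncard_le_ncard hsub (Set.toFinite _)
    have e2 := Set.ncard_union_le (K : Set F) ((fun k => k + x₀) '' (K : Set F))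
    have e3 := Set.ncard_image_le (f := fun k => k + x₀) (Set.toFinite (K : Set F))
    have e4 : (K : Set F).ncard = Nat.card K := (Nat.card_coe_set_eq _).symm
    rw [Set.ncard_univ] at e1
    rw [e4] at e2 e3
    omega
  have h2 : 2 ≤ Nat.card K := by omega
  -- a nonzero fixed element
  obtain ⟨y, hy, hy0⟩ : ∃ y ∈ K, y ≠ 0 := by
    by_contra hc
    push Not at hc
    have : K = ⊥ := (AddSubgroup.eq_bot_iff_forall K).2 hc
    rw [this, AddSubgroup.card_bot] at h2
    omega
  -- the fixed field of `σ`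
  let F₀ : Subfield F :=
    { carrier := {x | σ x = x}
      mul_mem' := fun {x y} hx hy => by change σ (x * y) = x * y; rw [map_mul, hx, hy]
      one_mem' := map_one σ
      add_mem' := fun {x y} hx hy => by change σ (x + y) = x + y; rw [map_add, hx, hy]
      zero_mem' := map_zero σ
      neg_mem' := fun {x} hx => by change σ (-x) = -x; rw [map_neg, hx]
      inv_mem' := fun x hx => by change σ x⁻¹ = x⁻¹; rw [map_inv₀, hx] }
  have hy' := (hK y).1 hy
  have hσy : σ y ≠ 0 := by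
    rw [Ne, map_eq_zero]; exact hy0
  have ha : a = y / σ y := by rw [eq_div_iff hσy]; exact hy'
  have h3 : Nat.card K ≤ Nat.card F₀ := by
    refine Nat.card_le_card_of_injective (fun x : K => (⟨(x : F) / y, ?_⟩ : F₀)) ?_
    · change σ ((x : F) / y) = (x : F) / y
      have hx := (hK x).1 x.2
      rw [map_div₀, div_eq_div_iff hσy hy0]
      rw [ha, div_mul_eq_mul_div, div_eq_iff hσy] at hx
      rw [mul_comm (σ (x : F)) y, hx]
    · intro x x' hxx
      have : (x : F) / y = (x' : F) / y := congrArg Subtype.val hxx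
      exact Subtype.ext ((div_left_inj' hy0).1 this)
  have h4' : F₀ ≠ ⊤ := by
    intro e
    have hs : ∀ x, σ x = x := fun x => by
      have : x ∈ F₀ := by rw [e]; exact Subfield.mem_top x
      exact this
    apply hx₀
    rw [hs] at hy' ⊢
    have ha1 : a = 1 := by
      have : a * y = 1 * y := by rw [hy', one_mul]
      exact mul_right_cancel₀ hy0 this
    rw [ha1, one_mul]
  -- `|F₀|² ≤ |F|`
  have h5 : Nat.card F₀ * Nat.card F₀ ≤ Nat.card F := by
    have hfin : Module.Finite F₀ F := Module.Finite.of_finite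
    have e1 := Module.natCard_eq_pow_finrank (K := F₀) (V := F)
    have e2 : 1 < Module.finrank F₀ F := by
      by_contra hc
      have e3 : 0 < Module.finrank F₀ F := Module.finrank_pos
      have e4 : Module.finrank F₀ F = 1 := by omega
      rw [e4, pow_one] at e1
      apply h4'
      have e5 : (F₀ : Set F) = Set.univ := by
        apply Set.eq_of_subset_of_ncard_le (Set.subset_univ _) _ (Set.toFinite _)
        rw [Set.ncard_univ, e1]
        exact (Nat.card_coe_set_eq (F₀ : Set F)).le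
      exact SetLike.coe_injective (by rw [e5]; rfl)
    rw [e1]
    have e6 : 0 < Nat.card F₀ := Nat.card_pos
    calc Nat.card F₀ * Nat.card F₀ = Nat.card F₀ ^ 2 := (pow_two _).symm
      _ ≤ Nat.card F₀ ^ Module.finrank F₀ F := Nat.pow_le_pow_right e6 e2
  have h6 : Nat.card F₀ ≤ 2 := by
    have e1 : 0 < Nat.card F₀ := Nat.card_pos
    have e2 : Nat.card F₀ * Nat.card F₀ ≤ Nat.card F₀ * 2 := by
      calc Nat.card F₀ * Nat.card F₀ ≤ Nat.card F := h5
        _ ≤ 2 * Nat.card K := h1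
        _ ≤ 2 * Nat.card F₀ := Nat.mul_le_mul_left _ h3
        _ = Nat.card F₀ * 2 := mul_comm _ _
    exact Nat.le_of_mul_le_mul_left e2 e1
  omega

/-- (8) -/
theorem _root_.Cfsg.Agent.Omega.OM.Line.end8 (h : Line S P L W Z C A q)
    (htr : ∀ i j : ι, ∃ s ∈ (S : Subgroup G), cj s (Z i) = Z j) (hFF : FFThm.Stmt.{u}) (hq : 4 ≤ q)
    {F : Type} [Field F] [Finite F] (hF : Nat.card F = q) {k : ℕ} (e : G → Fin k → F)
    (emul : ∀ z ∈ zj (S : Subgroup G), ∀ w ∈ zj (S : Subgroup G), e (z * w) = e z + e w)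
    (esurj : ∀ x : Fin k → F, ∃ z ∈ zj (S : Subgroup G), e z = x)
    (einj : ∀ z ∈ zj (S : Subgroup G), e z = 0 → z = 1)
    (hsem : ∀ t ∈ normalizer (bau (S : Subgroup G) : Set G), ∃ (π : Equiv.Perm (Fin k)) (a : Fin k → F)
      (σ : Fin k → F ≃+* F), ∀ z ∈ zj (S : Subgroup G), ∀ i, e (t * z * t⁻¹) (π i) = a i * σ i (e z i))
    {R : Subgroup G} (hZR : zc (S : Subgroup G) ≤ R) (hR : R ≤ zj (S : Subgroup G))
    (hcR : Nat.card (zj (S : Subgroup G)) ≤ 2 * Nat.card R) {g : G} (hg : g ∈ centralizer (R : Set G))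
    (hgn : g ∉ normalizer (zj (S : Subgroup G) : Set G)) : FourF (S : Subgroup G) q := by
  classical
  have : Fact (Nat.Prime 2) := ⟨Nat.prime_two⟩
  have hBR : bau (S : Subgroup G) ≤ centralizer (R : Set G) :=
    (Dich.bau_le_cent _).trans (centralizer_le (by exact_mod_cast hR))
  obtain ⟨T, hT, hBT⟩ := exists_syl (S.isPGroup'.to_le (bau_le _)) hBR
  -- `T` moves `Z_J`
  obtain ⟨t, ht, z₀, hz₀, hne⟩ : ∃ t ∈ T, ∃ z ∈ zj (S : Subgroup G), t * z ≠ z * t := by
    by_contra hc
    push Not at hc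
    have h1 : T ≤ centralizer (zj (S : Subgroup G) : Set G) := fun t ht =>
      mem_centralizer_iff.2 fun z hz => (hc t ht z hz).symm
    have h2 := (Dich.syl S).2.2 T h1 hT.2.1 hBT
    rw [h2] at hT
    exact hgn (h.c1 htr hFF hZR hR hT hg)
  have htB : t ∈ normalizer (bau (S : Subgroup G) : Set G) := Dich.two_le S hT.2.1 hBT ht
  have htZ : ∀ z ∈ zj (S : Subgroup G), t * z * t⁻¹ ∈ zj (S : Subgroup G) := fun z hz =>
    (mem_normalizer_iff.1 (Dich.norm_zj _ htB) z).1 hz
  have htR : ∀ r ∈ R, t * r = r * t := fun r hr => (mem_centralizer_iff.1 (hT.1 ht) r hr).symm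
  obtain ⟨n, hn⟩ := hT.2.1 ⟨t, ht⟩
  have htn : t ^ 2 ^ n = 1 := congrArg Subtype.val hn
  have hz₀R : z₀ ∉ R := fun hr => hne (htR _ hr)
  -- `Z_J = R ∪ R z₀`
  have hcov : ∀ z ∈ zj (S : Subgroup G), z ∈ R ∨ ∃ r ∈ R, z = r * z₀ := by
    intro z hz
    by_contra hc
    push Not at hc
    obtain ⟨hzR, hzR'⟩ := hc
    have hinj : Function.Injective fun x : Fin 3 × R => (⟨(x.2 : G) * ![1, z₀, z] x.1,
        mul_mem (hR x.2.2) (by
          obtain ⟨i, r⟩ := x
          fin_cases i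
          · exact one_mem _
          · exact hz₀
          · exact hz)⟩ : zj (S : Subgroup G)) := by
      rintro ⟨i, r⟩ ⟨j, r'⟩ hxy
      have h1 : (r : G) * ![1, z₀, z] i = (r' : G) * ![1, z₀, z] j := congrArg Subtype.val hxy
      have h2 : ((r' : G)⁻¹ * (r : G)) ∈ R := mul_mem (inv_mem r'.2) r.2
      have h2' : ((r : G)⁻¹ * (r' : G)) ∈ R := mul_mem (inv_mem r.2) r'.2
      have h3 : ∀ (u v : G) (s s' : G), s * u = s' * v → v = (s'⁻¹ * s) * u := by
        intro u v s s' hs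
        rw [mul_assoc, hs]; group
      fin_cases i <;> fin_cases j
      · simp only [Fin.zero_eta, Matrix.cons_val_zero, mul_one] at h1
        exact Prod.ext rfl (Subtype.ext h1)
      · exfalso
        have h4 : z₀ = ((r' : G)⁻¹ * (r : G)) * 1 := h3 _ _ r r' h1
        rw [mul_one] at h4
        exact hz₀R (h4 ▸ h2)
      · exfalso
        have h4 : z = ((r' : G)⁻¹ * (r : G)) * 1 := h3 _ _ r r' h1
        rw [mul_one] at h4
        exact hzR (h4 ▸ h2)
      · exfalso
        have h4 : z₀ = ((r : G)⁻¹ * (r' : G)) * 1 := h3 _ _ r' r h1.symm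
        rw [mul_one] at h4
        exact hz₀R (h4 ▸ h2')
      · exact Prod.ext rfl (Subtype.ext (mul_right_cancel h1))
      · exfalso
        exact hzR' _ h2 (h3 z₀ z r r' h1)
      · exfalso
        have h4 : z = ((r : G)⁻¹ * (r' : G)) * 1 := h3 _ _ r' r h1.symm
        rw [mul_one] at h4
        exact hzR (h4 ▸ h2')
      · exfalso
        exact hzR' _ h2' (h3 z₀ z r' r h1.symm)
      · exact Prod.ext rfl (Subtype.ext (mul_right_cancel h1))
    have h5 := Nat.card_le_card_of_injective _ hinj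
    rw [Nat.card_prod, Nat.card_eq_fintype_card, Fintype.card_fin] at h5
    have h6 : 0 < Nat.card R := Nat.card_pos
    omega
  -- the commutator
  set d : G := t * z₀ * t⁻¹ * z₀⁻¹ with hd
  have hcomm : ∀ z ∈ zj (S : Subgroup G), t * z * t⁻¹ = z ∨ t * z * t⁻¹ = d * z := by
    intro z hz
    rcases hcov z hz with hr | ⟨r, hr, rfl⟩
    · left
      rw [htR z hr, mul_inv_cancel_right]
    · right
      have h1 : d * r = r * d := by
        have h2 : ∀ x ∈ zj (S : Subgroup G), ∀ y ∈ zj (S : Subgroup G), x * y = y * x := fun x hx y hy =>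
          h.fr.Vc (h.fr.ZJV hx) (h.fr.ZJV hy)
        exact h2 _ (mul_mem (htZ _ hz₀) (inv_mem hz₀)) _ (hR hr)
      calc t * (r * z₀) * t⁻¹ = (t * r) * z₀ * t⁻¹ := by group
        _ = r * d * z₀ := by rw [htR r hr, hd]; group
        _ = d * (r * z₀) := by rw [← h1]; group
  have hdZ : d ∈ zj (S : Subgroup G) := mul_mem (htZ _ hz₀) (inv_mem hz₀)
  have hd1 : d ≠ 1 := by
    intro e1
    apply hne
    rw [hd, mul_inv_eq_one, mul_inv_eq_iff_eq_mul] at e1
    exact e1
  have hed : e d ≠ 0 := fun e1 => hd1 (einj d hdZ e1)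
  obtain ⟨π, a, σ, hs⟩ := hsem t htB
  have hcomm' : ∀ z ∈ zj (S : Subgroup G), e (t * z * t⁻¹) = e z ∨ e (t * z * t⁻¹) = e d + e z := by
    intro z hz
    rcases hcomm z hz with h1 | h1
    · left; rw [h1]
    · right; rw [h1, emul d hdZ z hz]
  have h0 : ∀ i, σ i 0 = 0 := fun i => map_zero _
  have ha : ∀ i, a i ≠ 0 := by
    intro i hai
    obtain ⟨z, hz, hez⟩ := esurj (Pi.single i 1)
    have h1 : e (t * z * t⁻¹) = 0 := by
      funext j
      obtain ⟨j, rfl⟩ := π.surjective j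
      rw [hs z hz j, hez]
      by_cases hji : j = i
      · subst hji; rw [hai, zero_mul]; rfl
      · rw [Pi.single_eq_of_ne hji, h0, mul_zero]; rfl
    have h2 := einj _ (htZ z hz) h1
    have h3 : z = 1 := by
      have : z = t⁻¹ * (t * z * t⁻¹) * t := by group
      rw [this, h2]; group
    have h4 : e (1 : G) = 0 := by
      have := emul 1 (one_mem _) 1 (one_mem _)
      rw [mul_one] at this
      exact left_eq_add.1 this
    rw [h3, h4] at hez
    have := congrFun hez i
    rw [Pi.single_eq_same] at this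
    exact zero_ne_one this
  have hF4 : 4 ≤ Nat.card F := by rw [hF]; exact hq
  -- `π = 1`
  have hπ : ∀ i, π i = i := by
    intro i
    by_contra hπi
    have hsub : (Set.univ : Set F) ⊆ {0, (a i)⁻¹ * e d (π i)} := by
      intro x _
      -- x = σ i y
      obtain ⟨y, rfl⟩ := (σ i).surjective x
      obtain ⟨z, hz, hez⟩ := esurj (Pi.single i y)
      have h1 := hs z hz i
      have h2 : e z (π i) = 0 := by rw [hez, Pi.single_eq_of_ne hπi]
      rw [hez, Pi.single_eq_same] at h1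
      rw [Set.mem_insert_iff, Set.mem_singleton_iff]
      rcases hcomm' z hz with h3 | h3
      · left
        have h4 := congrFun h3 (π i)
        rw [h1, h2] at h4
        exact (mul_eq_zero.1 h4).resolve_left (ha i)
      · right
        have h4 := congrFun h3 (π i)
        rw [h1, Pi.add_apply, h2, add_zero] at h4
        rw [← h4, inv_mul_cancel_left₀ (ha i)]
    have e1 := Set.ncard_le_ncard hsub (Set.toFinite _)
    rw [Set.ncard_univ] at e1
    have e2 := Set.ncard_insert_le (0 : F) {(a i)⁻¹ * e d (π i)}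
    rw [Set.ncard_singleton] at e2
    omega
  -- one index
  obtain ⟨i, hi⟩ : ∃ i, e d i ≠ 0 := by
    by_contra hc
    push Not at hc
    exact hed (funext hc)
  have hfour : Nat.card F = 4 := by
    refine card_four hF4 (a i) (σ i) (δ := e d i) (fun x => ?_) ?_
    · obtain ⟨z, hz, hez⟩ := esurj (Pi.single i x)
      have h1 := hs z hz i
      rw [hπ i, hez, Pi.single_eq_same] at h1
      rcases hcomm' z hz with h3 | h3
      · left
        have h4 := congrFun h3 i
        rw [h1, hez, Pi.single_eq_same] at h4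
        exact h4
      · right
        have h4 := congrFun h3 i
        rw [h1, Pi.add_apply, hez, Pi.single_eq_same] at h4
        rw [h4, add_comm]
    · refine ⟨e z₀ i, fun h1 => ?_⟩
      have h2 := hs z₀ hz₀ i
      rw [hπ i, h1] at h2
      have h3 : e (t * z₀ * t⁻¹) = e d + e z₀ := by
        rw [← emul d hdZ z₀ hz₀, hd]
        congr 1
        group
      rw [h3, Pi.add_apply] at h2
      exact hi (left_eq_add.1 (by rw [add_comm]; exact h2.symm))
  refine ⟨by rw [← hF, hfour], t, htB, ⟨n, htn⟩, ?_⟩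
  -- the index
  have hRC : R ≤ zj (S : Subgroup G) ⊓ centralizer ({t} : Set G) :=
    le_inf hR fun r hr => mem_centralizer_singleton_iff.2 (htR r hr).symm
  have hlt : zj (S : Subgroup G) ⊓ centralizer ({t} : Set G) ≠ zj (S : Subgroup G) := by
    intro e1
    have h1 : z₀ ∈ zj (S : Subgroup G) ⊓ centralizer ({t} : Set G) := by rw [e1]; exact hz₀
    exact hne (mem_centralizer_singleton_iff.1 h1.2).symm
  obtain ⟨m, hm⟩ := Subgroup.card_dvd_of_le
    (inf_le_left : zj (S : Subgroup G) ⊓ centralizer ({t} : Set G) ≤ zj (S : Subgroup G))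
  have hle : Nat.card R ≤ Nat.card ↥(zj (S : Subgroup G) ⊓ centralizer ({t} : Set G)) := Subgroup.card_le_of_le hRC
  have hpos : 0 < Nat.card ↥(zj (S : Subgroup G) ⊓ centralizer ({t} : Set G)) := Nat.card_pos
  have hm1 : m ≠ 1 := by
    rintro rfl
    exact hlt (Subgroup.eq_of_le_of_card_ge inf_le_left (by rw [hm, mul_one]))
  have hm0 : m ≠ 0 := by
    rintro rfl
    rw [mul_zero] at hm
    have : 0 < Nat.card (zj (S : Subgroup G)) := Nat.card_pos
    omega
  have hm2 : m ≤ 2 := by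
    by_contra hc
    have h1 : 3 ≤ m := by omega
    have h2 : Nat.card ↥(zj (S : Subgroup G) ⊓ centralizer ({t} : Set G)) * 3 ≤ Nat.card (zj (S : Subgroup G)) := by
      rw [hm]; exact Nat.mul_le_mul_left _ h1
    omega
  have hm3 : m = 2 := by omega
  rw [hm, hm3, mul_comm]

end line

end Cfsg.Agent.Omega.OM.YThm.End8
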