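import Cfsg.Agent.Omega.OM.YThm.PlugA
import Cfsg.Agent.Omega.OM.YThm.End8

/-!
# THEOREM Y, plug: transitivity and step (8) for the data `Dt`

* `Dt.tr` : `S` is transitive on the `Z i`;
* `Dt.end8` : (8) for `Dt`.
-/

set_option autoImplicit false

namespace Cfsg.Agent.Omega.OM.YThm.Plug

open Subgroup Cfsg Cfsg.Agent.ZN.ChoiceBase Cfsg.Agent.ZN.ChoiceSit
open Cfsg.Agent.ZN (jj zj bau zc zl o2)
open Cfsg.Agent.Omega.FFThm (NatK SymK ActsSL)
open Cfsg.Agent.Omega.FrameFF (cv)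
open Cfsg.Agent.Omega.OM.YThm.End8 (FourF)
open scoped Pointwise

universe u

variable {G : Type u} [Group G] [Finite G] {S : Sylow 2 G} {P : Subgroup G} {F : Type} [Field F] [Finite F]
  [CharP F 2] {k : ℕ} {N : NatK F (S : Subgroup G) P (zl (S : Subgroup G) P) (cv (S : Subgroup G) P) k}
  {L W Z C A : Fin k → Subgroup G} (D : Dt S P N L W Z C A)

include D

/-- `S` is transitive on the `Z i`. -/
theorem Dt.tr (i j : Fin k) : ∃ s ∈ (S : Subgroup G), cj s (Z i) = Z j := by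
  obtain ⟨t, ht, h1⟩ := N.trans i j
  obtain ⟨-, h2⟩ := D.line.norm (Line.S_le S ht)
  obtain ⟨j', h3, -⟩ := h2 i
  have c := D.cd
  obtain ⟨z, hz, hze⟩ := c.surj (sg i 1 0)
  have hzZ : z ∈ Z i := (D.mem_Z i z).2 ⟨(D.mem_W i z).2 ⟨hz, fun l hl => by rw [hze, sg_ne hl]⟩,
    by rw [hze, sg_same]; rfl⟩
  have h4 : t * z * t⁻¹ ∈ Z j' := by
    rw [← h3]; exact ⟨z, hzZ, rfl⟩
  have h5 : N.e (t * z * t⁻¹) j ≠ 0 := by
    rw [Ne, h1 z hz, hze, sg_same]
    intro h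
    exact one_ne_zero (congrFun h 0)
  have h6 : j = j' := by
    by_contra hne
    exact h5 (((D.mem_W j' _).1 ((D.mem_Z j' _).1 h4).1).2 j hne)
  exact ⟨t, ht, by rw [h3, h6]⟩

/-- (8) -/
theorem Dt.end8 (hFF : FFThm.Stmt.{u}) (hq : 4 ≤ Nat.card F) {R : Subgroup G}
    (hZR : zc (S : Subgroup G) ≤ R) (hR : R ≤ zj (S : Subgroup G))
    (hcR : Nat.card (zj (S : Subgroup G)) ≤ 2 * Nat.card R) {g : G} (hg : g ∈ centralizer (R : Set G))
    (hgn : g ∉ normalizer (zj (S : Subgroup G) : Set G)) : FourF (S : Subgroup G) (Nat.card F) := by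
  have c := D.cd
  refine D.line.end8 D.tr hFF hq rfl (k := k) (fun z i => N.e z i 0) ?_ ?_ ?_ ?_ hZR hR hcR hg hgn
  · intro z hz w hw
    funext i
    show N.e (z * w) i 0 = N.e z i 0 + N.e w i 0
    rw [c.mul z (c.ZV hz) w (c.ZV hw)]
    rfl
  · intro x
    obtain ⟨v, hv, hve⟩ := c.surj fun i => ![x i, 0]
    refine ⟨v, (c.memZ v hv).2 fun i => by rw [hve]; rfl, ?_⟩
    funext i
    rw [hve]
    rfl
  · intro z hz h0
    refine c.inj z (c.ZV hz) ?_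
    funext i l
    fin_cases l
    · exact congrFun h0 i
    · exact (c.memZ z (c.ZV hz)).1 hz i
  · intro t ht
    obtain ⟨π, σ, cc, d, hS, -⟩ := c.semi (D.nm ht)
    exact ⟨π, cc, σ, hS.zero⟩

end Cfsg.Agent.Omega.OM.YThm.Plug
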