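import Cfsg.Agent.Omega.OM.YThm.PlugC
import Cfsg.Agent.Omega.OM.YThm.End8D

/-!
# THEOREM Y (TCARD 5 #19947), stage `-1`

`HypJ S P`, `V_P` natural with `k ≥ 2` blocks over `F`, `|F| ≥ 4`: `C_G(Ω₁(Z(S))) ≤ N_G(Z_J)`, or `(4F)`:
`|F| = 4` and some 2-element of `N_G(B)` centralises a hyperplane of `Z_J`.
-/

set_option autoImplicit false

namespace Cfsg.Agent.Omega.OM.YThm.Plug

open Subgroup Cfsg Cfsg.Agent.ZN.ChoiceBase Cfsg.Agent.ZN.ChoiceSit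
open Cfsg.Agent.ZN (jj zj bau zc zl o2)
open Cfsg.Agent.Omega.FFThm (NatK)
open Cfsg.Agent.Omega.FrameFF (cv)
open Cfsg.Agent.Omega.FrameNOFF (CZ)
open Cfsg.Agent.Omega.NO3S (HypJ Hyp WW)
open Cfsg.Agent.Omega.OM.YThm.End8 (FourF)

universe u

variable {G : Type u} [Group G] [Finite G] {S : Sylow 2 G} {P : Subgroup G} {F : Type} [Field F] [Finite F]
  [CharP F 2] {k : ℕ}

/-- **THEOREM Y** over the frame. -/
theorem Dt.thmY {N : NatK F (S : Subgroup G) P (zl (S : Subgroup G) P) (cv (S : Subgroup G) P) k}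
    {L W Z C A : Fin k → Subgroup G} (D : Dt S P N L W Z C A) (hFF : FFThm.Stmt.{u}) (hq : 4 ≤ Nat.card F) :
    CZ (S : Subgroup G) ≤ normalizer (zj (S : Subgroup G) : Set G) ∨ FourF (S : Subgroup G) (Nat.card F) := by
  rcases D.main hq with h | ⟨R, h1, h2, h3, g, h4, h5⟩
  · exact Or.inl h
  · exact Or.inr (D.end8 hFF hq h1 h2 h3 h4 h5)

/-- **THEOREM Y.** -/
theorem thmY (h : HypJ S P) (hFF : FFThm.Stmt.{u}) (hk : 2 ≤ k) (hq : 4 ≤ Nat.card F)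
    (N : NatK F (S : Subgroup G) P (zl (S : Subgroup G) P) (cv (S : Subgroup G) P) k) :
    CZ (S : Subgroup G) ≤ normalizer (zj (S : Subgroup G) : Set G) ∨ FourF (S : Subgroup G) (Nat.card F) := by
  obtain ⟨L, W, Z, C, A, D⟩ := exists_dt h hk N
  exact D.thmY hFF hq

end Cfsg.Agent.Omega.OM.YThm.Plug
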