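import Cfsg.Agent.Omega.OM.YThm.Basic

/-!
# THEOREM Y, part C (helper566): the end

* `EndC.core`, `EndC.end_pair` : general form with a second group `ZJ ≥ Z` and `|A : kA| ≤ α` (for the `(4F)` case);
* `LD.end_of` : from the minimal subgroup `L` with `|A| = 2 |kA|` (part B) we get a hyperplane `R` of `Z` and an
  element which centralises `R` and moves `Z`.
-/

set_option autoImplicit false

namespace Cfsg.Agent.Omega.OM.YThm.EndC

open Subgroup Cfsg.Agent.ZN Cfsg.Agent.ZN.ChoiceBase Cfsg.Agent.ZN.ChoiceSit Cfsg.Agent.Omega.OM.YThm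
open scoped Pointwise

section Card

variable {N : Type*} [AddCommGroup N] [Finite N]

omit [Finite N] in
theorem card_relIndex {X Y : AddSubgroup N} (h : X ≤ Y) : Nat.card X * X.relIndex Y = Nat.card Y := by
  have := AddSubgroup.relIndex_mul_relIndex ⊥ X Y bot_le h
  rwa [AddSubgroup.relIndex_bot_left, AddSubgroup.relIndex_bot_left] at this

/-- `|X| |C| ≤ |Y| |X ∩ C|` for `X, C ≤ Y` -/
theorem card_mul_le {X Y C : AddSubgroup N} (hX : X ≤ Y) (hC : C ≤ Y) :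
    Nat.card X * Nat.card C ≤ Nat.card Y * Nat.card (X ⊓ C : AddSubgroup N) := by
  have h1 := card_relIndex hC
  have h2 := card_relIndex (inf_le_left : X ⊓ C ≤ X)
  have h3 : (X ⊓ C).relIndex X = C.relIndex X := AddSubgroup.inf_relIndex_left X C
  have h4 : C.relIndex X ≤ C.relIndex Y := by
    refine AddSubgroup.relIndex_le_of_le_right hX ?_
    intro h0
    rw [h0, mul_zero] at h1
    exact Nat.card_pos.ne' h1.symm
  rw [h3] at h2
  rw [← h2, ← h1]
  calc Nat.card (X ⊓ C : AddSubgroup N) * C.relIndex X * Nat.card C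
      ≤ Nat.card (X ⊓ C : AddSubgroup N) * C.relIndex Y * Nat.card C :=
        Nat.mul_le_mul_right _ (Nat.mul_le_mul_left _ h4)
    _ = Nat.card C * C.relIndex Y * Nat.card (X ⊓ C : AddSubgroup N) := by ring

/-- a proper subgroup of index at most 2 has index 2 -/
theorem card_eq_two_mul {X Y : AddSubgroup N} (h : X ≤ Y) (hne : X ≠ Y) (h2 : Nat.card Y ≤ 2 * Nat.card X) :
    Nat.card Y = 2 * Nat.card X := by
  have h1 := card_relIndex h
  have h3 : 0 < Nat.card X := Nat.card_pos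
  have h4 : X.relIndex Y ≠ 1 := fun h5 => hne (le_antisymm h (AddSubgroup.relIndex_eq_one.1 h5))
  have h5 : X.relIndex Y ≠ 0 := by
    intro h0
    rw [h0, mul_zero] at h1
    exact Nat.card_pos.ne' h1.symm
  have h6 : X.relIndex Y ≤ 2 := by
    rw [← h1, mul_comm] at h2
    exact Nat.le_of_mul_le_mul_right h2 h3
  have h7 : X.relIndex Y = 2 := by omega
  rw [← h1, h7, mul_comm]

end Card

variable {H : Type*} [Group H] {M : Type*} [AddCommGroup M] [DistribMulAction H M]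

theorem mem_smul {g : H} {X : AddSubgroup M} {x : M} : x ∈ g • X ↔ g⁻¹ • x ∈ X :=
  AddSubgroup.mem_pointwise_smul_iff_inv_smul_mem

theorem smul_mem {g : H} {X : AddSubgroup M} {x : M} : g • x ∈ g • X ↔ x ∈ X :=
  AddSubgroup.smul_mem_pointwise_smul_iff

theorem card_smul (g : H) (X : AddSubgroup M) : Nat.card (g • X : AddSubgroup M) = Nat.card X := by
  refine (Nat.card_congr (Equiv.ofBijective (fun x : X => (⟨g • (x : M), smul_mem.2 x.2⟩ : (g • X : AddSubgroup M)))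
    ⟨?_, ?_⟩)).symm
  · intro x y h
    have h1 : g • (x : M) = g • (y : M) := congrArg Subtype.val h
    exact Subtype.ext (smul_left_cancel g h1)
  · intro y
    exact ⟨⟨g⁻¹ • (y : M), mem_smul.1 y.2⟩, Subtype.ext (smul_inv_smul g (y : M))⟩

theorem fx_le (X : AddSubgroup M) (A : Subgroup H) : fx X A ≤ X := fun _ hx => hx.1

theorem ct_le (A : Subgroup H) (X : AddSubgroup M) : ct A X ≤ A := fun _ ha => ha.1

theorem kA_le (A L : Subgroup H) (Z₁ : AddSubgroup M) : kA A L Z₁ ≤ A := fun _ ha => ha.1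

/-- `C_{gX}(gE) = g C_X(E)` -/
theorem fx_smul (g : H) (X : AddSubgroup M) (E : Subgroup H) : fx (g • X) (cj g E) = g • fx X E := by
  ext x
  rw [mem_fx, mem_smul, mem_smul, mem_fx]
  constructor
  · rintro ⟨h1, h2⟩
    refine ⟨h1, fun a ha => ?_⟩
    have h3 := h2 (g * a * g⁻¹) (mem_cj.2 (by
      have : g⁻¹ * (g * a * g⁻¹) * g = a := by group
      rw [this]; exact ha))
    rw [mul_smul, mul_smul] at h3
    exact smul_left_cancel g (by rw [h3, smul_inv_smul])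
  · rintro ⟨h1, h2⟩
    refine ⟨h1, fun a ha => ?_⟩
    have h3 := h2 _ (mem_cj.1 ha)
    rw [mul_smul, mul_smul, smul_inv_smul] at h3
    exact smul_left_cancel _ h3

/-- `C_{gE}(gX) = g C_E(X)` -/
theorem ct_cj (g : H) (X : AddSubgroup M) (E : Subgroup H) : ct (cj g E) (g • X) = cj g (ct E X) := by
  ext a
  rw [mem_ct, mem_cj, mem_cj, mem_ct]
  constructor
  · rintro ⟨h1, h2⟩
    refine ⟨h1, fun x hx => ?_⟩
    have h3 := h2 (g • x) (smul_mem.2 hx)
    rw [mul_smul, mul_smul, h3, inv_smul_smul]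
  · rintro ⟨h1, h2⟩
    refine ⟨h1, fun x hx => ?_⟩
    have h3 := h2 _ (mem_smul.1 hx)
    rw [mul_smul, mul_smul, smul_inv_smul] at h3
    exact smul_left_cancel _ h3

theorem El.mono {A B : Subgroup H} (h : El M A) (hB : B ≤ A) : El M B :=
  ⟨h.pg.to_le hB, fun a ha b hb => h.comm a (hB ha) b (hB hb), fun a ha => h.sq a (hB ha)⟩

theorem El.cj {A : Subgroup H} (h : El M A) (g : H) : El M (ChoiceBase.cj g A) := by
  refine ⟨h.pg.map _, fun a ha b hb x => ?_, fun a ha x => ?_⟩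
  · have h1 := h.comm _ (mem_cj.1 ha) _ (mem_cj.1 hb) (g⁻¹ • x)
    simp only [mul_smul, smul_inv_smul] at h1
    exact smul_left_cancel _ h1
  · have h1 := h.sq _ (mem_cj.1 ha) (g⁻¹ • x)
    simp only [mul_smul, smul_inv_smul] at h1
    exact smul_left_cancel _ h1

/-- LEMMA V for the conjugates -/
theorem lemV' {S : Subgroup H} {Z V : AddSubgroup M}
    (lemV : ∀ E : Subgroup H, E ≤ S → El M E →
      Nat.card E * Nat.card Z * Nat.card (fx V E) ≤ Nat.card (ct E V) * Nat.card (fx Z E) * Nat.card V)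
    {g : H} {E : Subgroup H} (hE : E ≤ cj g S) (el : El M E) :
    Nat.card E * Nat.card (g • Z : AddSubgroup M) * Nat.card (fx (g • V) E) ≤
      Nat.card (ct E (g • V)) * Nat.card (fx (g • Z) E) * Nat.card (g • V : AddSubgroup M) := by
  have h1 := lemV (cj g⁻¹ E) (by
    have := cj_mono g⁻¹ hE
    rwa [cj_inv_cj] at this) (El.cj el g⁻¹)
  have e1 : E = cj g (cj g⁻¹ E) := (cj_cj_inv g E).symm
  have e2 : fx (g • V) E = g • fx V (cj g⁻¹ E) := by
    rw [← fx_smul, ← e1]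
  have e3 : fx (g • Z) E = g • fx Z (cj g⁻¹ E) := by
    rw [← fx_smul, ← e1]
  have e4 : ct E (g • V) = cj g (ct (cj g⁻¹ E) V) := by
    rw [← ct_cj, ← e1]
  rw [e2, e3, e4, card_smul, card_smul, card_smul, card_smul, card_cj]
  rwa [card_cj] at h1

/-- the sum of the `a • V`, `a ∈ A` -/
def orb (A : Subgroup H) (V : AddSubgroup M) : AddSubgroup M := ⨆ a : A, (a : H) • V

theorem le_orb (A : Subgroup H) (V : AddSubgroup M) : V ≤ orb A V := by
  have := le_iSup (fun a : A => (a : H) • V) 1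
  simpa [orb] using this

theorem smul_le_orb {A : Subgroup H} {V : AddSubgroup M} {a : H} (ha : a ∈ A) : a • V ≤ orb A V :=
  le_iSup (fun a : A => (a : H) • V) ⟨a, ha⟩

theorem orb_le {A : Subgroup H} {V X : AddSubgroup M} (h : ∀ a ∈ A, a • V ≤ X) : orb A V ≤ X :=
  iSup_le fun a => h a a.2

theorem orb_smul {A : Subgroup H} {V : AddSubgroup M} {a : H} (ha : a ∈ A) {x : M} (hx : x ∈ orb A V) :
    a • x ∈ orb A V := by
  have h1 : orb A V ≤ a⁻¹ • orb A V := by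
    refine orb_le fun b hb x hx => ?_
    rw [mem_smul, inv_inv]
    refine smul_le_orb (A.mul_mem ha hb) ?_
    rw [mem_smul]
    rw [mem_smul] at hx
    rw [mul_inv_rev, mul_smul, inv_smul_smul]
    exact hx
  have h2 := h1 hx
  rwa [mem_smul, inv_inv] at h2

section Fin

variable [Finite H]

/-- the Frattini argument: `K₀ ∩ T` is normal in `L` -/
theorem cj_inf_eq {𝒜 : Set (Subgroup H)} {S : Subgroup H} {Z : AddSubgroup M} {A J₀ L : Subgroup H}
    {Z₁ : AddSubgroup M} (d : LD 𝒜 S Z A J₀ L Z₁) {T : Subgroup H} (hT : Syl T L) (hA : A ≤ T) (hJ : J₀ ≤ T)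
    {l : H} (hl : l ∈ L) : cj l (kA L L Z₁ ⊓ T) = kA L L Z₁ ⊓ T := by
  have hK : ∀ l ∈ L, ∀ k ∈ kA L L Z₁, l⁻¹ * k * l ∈ kA L L Z₁ := by
    intro l hl k hk
    refine ⟨L.mul_mem (L.mul_mem (L.inv_mem hl) hk.1) hl, fun x hx => ?_⟩
    rw [mul_smul, mul_smul, ← mul_smul l x, hk.2 _ (L.mul_mem hl hx), mul_smul, inv_smul_smul]
  have hKc : ∀ l ∈ L, cj l (kA L L Z₁) = kA L L Z₁ := by
    intro l hl
    refine le_antisymm (fun k hk => ?_) (fun k hk => mem_cj.2 (hK l hl k hk))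
    have h1 := hK _ (L.inv_mem hl) _ (mem_cj.1 hk)
    have e : l⁻¹⁻¹ * (l⁻¹ * k * l) * l⁻¹ = k := by group
    rwa [e] at h1
  have hsyl : ∀ Q : Subgroup H, Q ≤ kA L L Z₁ → IsPGroup 2 Q → Nat.card Q ≤ Nat.card (kA L L Z₁ ⊓ T : Subgroup H) := by
    intro Q hQ h2
    obtain ⟨T', hT', hQT⟩ := exists_syl h2 (hQ.trans (kA_le _ _ _))
    obtain ⟨x, hx, rfl⟩ := syl_conj hT hT'
    have h3 : Q ≤ cj x (kA L L Z₁ ⊓ T) := by
      rw [cj_inf, hKc x hx]
      exact le_inf hQ hQT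
    have h4 := Nat.card_le_card_of_injective _ (Subgroup.inclusion_injective h3)
    rwa [card_cj] at h4
  have hS : ∀ x ∈ L, Syl (cj x (kA L L Z₁ ⊓ T)) (kA L L Z₁) := by
    intro x hx
    refine ⟨?_, ?_, ?_⟩
    · rw [cj_inf, hKc x hx]
      exact inf_le_left
    · exact (hT.2.1.to_le inf_le_right).map _
    · intro Q hQ h2 hle
      refine (Subgroup.eq_of_le_of_card_ge hle ?_).symm
      rw [card_cj]
      exact hsyl Q hQ h2
  -- `X = N_L(K₀ ∩ T)`
  set X : Subgroup H := L ⊓ normalizer ((kA L L Z₁ ⊓ T : Subgroup H) : Set H) with hX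
  have hTX : T ≤ X := by
    intro t ht
    refine mem_inf.2 ⟨hT.1 ht, ?_⟩
    rw [mem_normalizer_iff_cj, cj_inf, hKc t (hT.1 ht)]
    congr 1
    exact cj_eq_of_mem_normalizer (le_normalizer ht)
  have hXL : X = L := by
    by_contra hne
    have hlt : X < L := lt_of_le_of_ne inf_le_left hne
    have h1 := d.max X (hA.trans hTX) (hJ.trans hTX) hlt
    obtain ⟨y, hy, hy1⟩ := d.ne
    apply hy1
    have h2 := hS y hy
    have h3 := hS 1 L.one_mem
    rw [cj_one] at h3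
    obtain ⟨k, hk, hk1⟩ := syl_conj h3 h2
    have h4 : k⁻¹ * y ∈ X := by
      refine mem_inf.2 ⟨L.mul_mem (L.inv_mem hk.1) hy, ?_⟩
      rw [mem_normalizer_iff_cj, ← cj_cj, ← hk1, cj_inv_cj]
    have h5 := h1 _ h4
    have h6 : y • Z₁ = k • (k⁻¹ * y) • Z₁ := by
      rw [← mul_smul, mul_inv_cancel_left]
    rw [h6, h5]
    have h7 := hk.2 1 L.one_mem
    rwa [one_smul] at h7
  have h8 : l ∈ X := by rw [hXL]; exact hl
  exact cj_eq_of_mem_normalizer h8.2

variable [Finite M]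

/-- **THEOREM Y, the end**, general form: a second group `ZJ ≥ Z` (`ZJ = Z` for THEOREM Y itself), `|A : kA| ≤ α`. -/
theorem core {𝒜 : Set (Subgroup H)} {S : Subgroup H} {ι : Type*} [Fintype ι] {Zi : ι → AddSubgroup M}
    {Z ZJ V : AddSubgroup M} (h : YS0 𝒜 S Zi Z) {A J₀ L : Subgroup H} {Z₁ : AddSubgroup M}
    (d : LD 𝒜 S Z A J₀ L Z₁) (hZJ : Z ≤ ZJ) (ZV : ZJ ≤ V)
    (cenJ : ∀ A ∈ 𝒜, A ≤ S → ∀ a ∈ A, ∀ z ∈ ZJ, a • z = z)
    (lemV : ∀ E : Subgroup H, E ≤ S → El M E →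
      Nat.card E * Nat.card ZJ * Nat.card (fx V E) ≤ Nat.card (ct E V) * Nat.card (fx ZJ E) * Nat.card V)
    (hJJ : ∀ g : H, J₀ ≤ cj g S → ∀ y ∈ L, g • Z = y • Z₁ → ∀ j ∈ J₀, ∀ z ∈ g • ZJ, j • z = z)
    {α : ℕ} (hcard : Nat.card A ≤ α * Nat.card (kA A L Z₁)) :
    ∃ g : H, A ≤ cj g S ∧ J₀ ≤ cj g S ∧ g • Z = Z₁ ∧ ∀ y ∈ L, y • Z₁ ≠ Z₁ →
      Nat.card ((y * g) • ZJ : AddSubgroup M) ≤ α * Nat.card (fx ((y * g) • ZJ) L) := by
  have elA := h.el A d.mem
  -- a Sylow group of `L`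
  have hAJ : IsPGroup 2 (A ⊔ J₀ : Subgroup H) := by
    refine IsPGroup.to_sup_of_normal_right' elA.pg d.J2 fun a ha => ?_
    rw [mem_normalizer_iff_cj]
    exact d.JN a (d.AL ha)
  obtain ⟨T, hT, hAT⟩ := exists_syl hAJ (sup_le d.AL d.JL)
  have hA : A ≤ T := le_sup_left.trans hAT
  have hJT : J₀ ≤ T := le_sup_right.trans hAT
  obtain ⟨g, hTg, hgZ⟩ := d.syl T hA hJT hT.1 hT.2.1
  refine ⟨g, hA.trans hTg, hJT.trans hTg, hgZ, fun y hy hy1 => ?_⟩
  -- `K := kA`, `E = C_A(points)`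
  set K := kA A L Z₁ with hK
  have hKA : K ≤ A := kA_le _ _ _
  have hKin : K ≤ cj (y * g) S := by
    have h1 : K ≤ kA L L Z₁ ⊓ T := fun k hk => ⟨⟨d.AL hk.1, hk.2⟩, hA hk.1⟩
    rw [← cj_inf_eq d hT hA hJT hy] at h1
    refine h1.trans ((cj_mono y (inf_le_right.trans hTg)).trans ?_)
    rw [cj_cj]
  have elK : El M K := El.mono elA hKA
  have hV := lemV' lemV hKin elK
  set Z' : AddSubgroup M := (y * g) • ZJ with hZ'
  set V' : AddSubgroup M := (y * g) • V with hV'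
  have hZ'' : y • Z₁ ≤ Z' := by
    rw [← hgZ, ← mul_smul]
    intro x hx
    rw [hZ', mem_smul]
    exact hZJ (mem_smul.1 hx)
  have hZV : Z' ≤ V' := by
    intro x hx
    rw [hV', mem_smul]
    exact ZV (mem_smul.1 hx)
  -- fixed points of `A` on `Z'`
  have hfix : ∀ x ∈ fx Z' A, ∀ l ∈ L, l • x = x := by
    intro x hx l hl
    have h1 := d.gen y hy hy1
    rw [← h1] at hl
    have h2 : A ⊔ cj y A ⊔ J₀ ≤ MulAction.stabilizer H x := by
      refine sup_le (sup_le (fun a ha => hx.2 a ha) fun a ha => ?_) fun j hj => ?_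
      · rw [MulAction.mem_stabilizer_iff]
        have h3 : (y * g)⁻¹ • x ∈ ZJ := mem_smul.1 hx.1
        have h4 : (y * g)⁻¹ * a * (y * g) ∈ cj g⁻¹ A := by
          rw [mem_cj, inv_inv]
          have := mem_cj.1 ha
          have e : g * ((y * g)⁻¹ * a * (y * g)) * g⁻¹ = y⁻¹ * a * y := by group
          rwa [e]
        have h5 := cenJ _ (h.cjA A d.mem g⁻¹) (by
          have := cj_mono g⁻¹ (hA.trans hTg)
          rwa [cj_inv_cj] at this) _ h4 _ h3
        rw [mul_smul, mul_smul, smul_inv_smul] at h5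
        exact smul_left_cancel _ h5
      · rw [MulAction.mem_stabilizer_iff]
        refine hJJ (y * g) ?_ y hy ?_ j hj x hx.1
        · have h3 := cj_mono y (hJT.trans hTg)
          rwa [d.JN y hy, cj_cj] at h3
        · rw [mul_smul, hgZ]
    exact MulAction.mem_stabilizer_iff.1 (h2 hl)
  have hfx : fx Z' A = fx Z' L :=
    le_antisymm (fun x hx => ⟨hx.1, hfix x hx⟩) (fun x hx => ⟨hx.1, fun a ha => hx.2 a (d.AL ha)⟩)
  -- the module `Y`
  set Y := orb A V' with hY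
  have hVY : V' ≤ Y := le_orb A V'
  have hff := h.ff A d.mem Y fun a ha x hx => orb_smul ha hx
  have hct : ct A Y = ct K V' := by
    ext a
    rw [mem_ct, mem_ct]
    constructor
    · rintro ⟨ha, h1⟩
      refine ⟨?_, fun x hx => h1 x (hVY hx)⟩
      refine d.ti ha hy hy1 ?_
      ext x
      rw [mem_smul]
      have h3 : ∀ x ∈ y • Z₁, a • x = x := fun x hx => h1 x (hVY (hZV (hZ'' hx)))
      constructor
      · intro hx
        have := h3 _ hx
        rw [smul_inv_smul] at this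
        rw [this]; exact hx
      · intro hx
        have := h3 _ hx
        rw [← inv_smul_eq_iff.2 this.symm] at hx
        exact hx
    · rintro ⟨ha, h1⟩
      refine ⟨hKA ha, ?_⟩
      have h2 : Y ≤ fx Y (zpowers a) := by
        rw [hY]
        refine orb_le fun b hb x hx => ?_
        rw [mem_fx]
        refine ⟨smul_le_orb hb hx, ?_⟩
        have h3 : zpowers a ≤ MulAction.stabilizer H x := by
          rw [zpowers_le, MulAction.mem_stabilizer_iff]
          have h4 := h1 _ (mem_smul.1 hx)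
          have h5 := elA.comm a (hKA ha) b hb (b⁻¹ • x)
          rw [h4, smul_inv_smul] at h5
          exact h5
        exact fun c hc => MulAction.mem_stabilizer_iff.1 (h3 hc)
      exact fun x hx => (h2 hx).2 a (mem_zpowers a)
  rw [hct] at hff
  -- index inequalities
  have h4 : Nat.card V' * Nat.card (fx Y A) ≤ Nat.card Y * Nat.card (fx V' A) := by
    have h1 := card_mul_le hVY (fx_le Y A)
    have h2 : (V' ⊓ fx Y A : AddSubgroup M) = fx V' A := by
      ext x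
      exact ⟨fun hx => ⟨hx.1, hx.2.2⟩, fun hx => ⟨hx.1, hVY hx.1, hx.2⟩⟩
    rwa [h2] at h1
  have h5 : Nat.card (fx Z' K) * Nat.card (fx V' A) ≤ Nat.card (fx V' K) * Nat.card (fx Z' A) := by
    have h1 := card_mul_le (X := fx Z' K) (Y := fx V' K) (C := fx V' A)
      (fun x hx => ⟨hZV hx.1, hx.2⟩) (fun x hx => ⟨hx.1, fun a ha => hx.2 a (hKA ha)⟩)
    have h2 : (fx Z' K ⊓ fx V' A : AddSubgroup M) = fx Z' A := by
      ext x
      exact ⟨fun hx => ⟨hx.1.1, hx.2.2⟩, fun hx => ⟨⟨hx.1, fun a ha => hx.2 a (hKA ha)⟩, hZV hx.1, hx.2⟩⟩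
    rwa [h2] at h1
  rw [← hfx]
  have p1 : 0 < Nat.card K := Nat.card_pos
  have p2 : 0 < Nat.card (fx V' K) := Nat.card_pos
  have p3 : 0 < Nat.card (fx Y A) := Nat.card_pos
  have q1 : Nat.card K * Nat.card Z' * Nat.card (fx V' K) * Nat.card (fx Y A) ≤
      α * Nat.card K * Nat.card (fx Y A) * (Nat.card (fx V' K) * Nat.card (fx Z' A)) := by
    calc Nat.card K * Nat.card Z' * Nat.card (fx V' K) * Nat.card (fx Y A)
        ≤ Nat.card (ct K V') * Nat.card (fx Z' K) * Nat.card V' * Nat.card (fx Y A) :=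
          Nat.mul_le_mul_right _ hV
      _ = Nat.card (ct K V') * Nat.card (fx Z' K) * (Nat.card V' * Nat.card (fx Y A)) := by ring
      _ ≤ Nat.card (ct K V') * Nat.card (fx Z' K) * (Nat.card Y * Nat.card (fx V' A)) :=
          Nat.mul_le_mul_left _ h4
      _ = Nat.card Y * Nat.card (ct K V') * (Nat.card (fx Z' K) * Nat.card (fx V' A)) := by ring
      _ ≤ Nat.card A * Nat.card (fx Y A) * (Nat.card (fx V' K) * Nat.card (fx Z' A)) :=
          Nat.mul_le_mul hff h5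
      _ ≤ α * Nat.card K * Nat.card (fx Y A) * (Nat.card (fx V' K) * Nat.card (fx Z' A)) :=
          Nat.mul_le_mul_right _ (Nat.mul_le_mul_right _ hcard)
  have q2 : (Nat.card K * Nat.card (fx V' K) * Nat.card (fx Y A)) * Nat.card Z' ≤
      (Nat.card K * Nat.card (fx V' K) * Nat.card (fx Y A)) * (α * Nat.card (fx Z' A)) := by
    calc _ = Nat.card K * Nat.card Z' * Nat.card (fx V' K) * Nat.card (fx Y A) := by ring
      _ ≤ _ := q1
      _ = _ := by ring
  exact Nat.le_of_mul_le_mul_left q2 (Nat.mul_pos (Nat.mul_pos p1 p2) p3)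

/-- **THEOREM Y, the end**, with a second group `ZJ ≥ Z`, conclusion for `Z` and `ZJ`. -/
theorem end_pair {𝒜 : Set (Subgroup H)} {S : Subgroup H} {ι : Type*} [Fintype ι] {Zi : ι → AddSubgroup M}
    {Z ZJ V : AddSubgroup M} (h : YS0 𝒜 S Zi Z) {A J₀ L : Subgroup H} {Z₁ : AddSubgroup M}
    (d : LD 𝒜 S Z A J₀ L Z₁) (hZJ : Z ≤ ZJ) (ZV : ZJ ≤ V)
    (cenJ : ∀ A ∈ 𝒜, A ≤ S → ∀ a ∈ A, ∀ z ∈ ZJ, a • z = z)
    (lemV : ∀ E : Subgroup H, E ≤ S → El M E →
      Nat.card E * Nat.card ZJ * Nat.card (fx V E) ≤ Nat.card (ct E V) * Nat.card (fx ZJ E) * Nat.card V)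
    (hJJ : ∀ g : H, J₀ ≤ cj g S → ∀ y ∈ L, g • Z = y • Z₁ → ∀ j ∈ J₀, ∀ z ∈ g • ZJ, j • z = z)
    {α : ℕ} (hcard : Nat.card A ≤ α * Nat.card (kA A L Z₁)) :
    ∃ R : AddSubgroup M, R ≤ ZJ ∧ Nat.card ZJ ≤ α * Nat.card R ∧ ∃ g : H, (∀ r ∈ R, g • r = r) ∧ g • Z ≠ Z := by
  obtain ⟨g, -, -, hgZ, hg⟩ := core h d hZJ ZV cenJ lemV hJJ hcard
  obtain ⟨y, hy, hy1⟩ := d.ne
  have h1 := hg y hy hy1
  refine ⟨(y * g)⁻¹ • fx ((y * g) • ZJ) L, ?_, ?_, (y * g)⁻¹ * y⁻¹ * (y * g), ?_, ?_⟩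
  · intro x hx
    rw [mem_smul, inv_inv] at hx
    have := hx.1
    rwa [smul_mem] at this
  · rwa [card_smul] at h1 ⊢
  · intro r hr
    rw [mem_smul, inv_inv] at hr
    rw [mul_smul, mul_smul, hr.2 _ (L.inv_mem hy), inv_smul_smul]
  · intro h2
    apply hy1
    rw [mul_smul, mul_smul, inv_smul_eq_iff, mul_smul, hgZ, inv_smul_smul] at h2
    exact h2.symm

/-- **THEOREM Y, the end** -/
theorem end_of {𝒜 : Set (Subgroup H)} {S : Subgroup H} {ι : Type*} [Fintype ι] {Zi : ι → AddSubgroup M}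
    {Z V : AddSubgroup M} (h : YS 𝒜 S Zi Z V) {A J₀ L : Subgroup H} {Z₁ : AddSubgroup M}
    (d : LD 𝒜 S Z A J₀ L Z₁) (hcard : Nat.card A = 2 * Nat.card (kA A L Z₁)) :
    ∃ R : AddSubgroup M, R ≤ Z ∧ Nat.card Z = 2 * Nat.card R ∧ ∃ g : H, (∀ r ∈ R, g • r = r) ∧ g • Z ≠ Z := by
  obtain ⟨R, hR, h2, g, hg, hgZ⟩ := end_pair h.toYS0 d le_rfl h.ZV h.cen h.lemV (by
    intro g _ y hy hgy j hj z hz
    rw [hgy] at hz
    have h1 := d.cenJ j hj y hy _ (mem_smul.1 hz)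
    rwa [smul_inv_smul] at h1) hcard.le
  refine ⟨R, hR, card_eq_two_mul hR ?_ h2, g, hg, hgZ⟩
  rintro rfl
  apply hgZ
  ext x
  rw [mem_smul]
  constructor
  · intro hx
    have := hg _ hx
    rw [smul_inv_smul] at this
    rw [this]; exact hx
  · intro hx
    rw [inv_smul_eq_iff.2 (hg _ hx).symm]
    exact hx

end Fin

end Cfsg.Agent.Omega.OM.YThm.EndC

namespace Cfsg.Agent.Omega.OM.YThm

open Subgroup Cfsg.Agent.ZN Cfsg.Agent.ZN.ChoiceBase Cfsg.Agent.ZN.ChoiceSit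
open scoped Pointwise

/-- **THEOREM Y, part C**: the end, from `|A| = 2 |kA|`. -/
theorem LD.end_of {H : Type*} [Group H] [Finite H] {M : Type*} [AddCommGroup M] [Finite M] [DistribMulAction H M]
    {𝒜 : Set (Subgroup H)} {S : Subgroup H} {ι : Type*} [Fintype ι] {Zi : ι → AddSubgroup M} {Z V : AddSubgroup M}
    {A J₀ L : Subgroup H} {Z₁ : AddSubgroup M} (d : LD 𝒜 S Z A J₀ L Z₁) (h : YS 𝒜 S Zi Z V)
    (hcard : Nat.card A = 2 * Nat.card (kA A L Z₁)) :
    ∃ R : AddSubgroup M, R ≤ Z ∧ Nat.card Z = 2 * Nat.card R ∧ ∃ g : H, (∀ r ∈ R, g • r = r) ∧ g • Z ≠ Z :=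
  EndC.end_of h d hcard

end Cfsg.Agent.Omega.OM.YThm
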