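import Cfsg.Agent.Omega.OM.YThm.Def
import Cfsg.Agent.Omega.FF.Basic

/-!
# THEOREM Y (TCARD 5), part B2 (i): the sum over the points

`sum_mem` : if `|A : kA| ≥ 4`, `z ∈ Z₁` and `l • z - z ∈ R = C_{Z₁}(L)` for all `l ∈ L₀`, then `z ∈ R`.
`exists_odd` : if `|A : kA| ≥ 4`, then an element of odd order of `L₀` acts nontrivially on `Z₁`.
Only (b5) = (ti) is used (as a hypothesis).
-/

set_option autoImplicit false

namespace Cfsg.Agent.Omega.OM.YThm.Sum

open Subgroup Cfsg.Agent.ZN Cfsg.Agent.ZN.ChoiceBase Cfsg.Agent.ZN.ChoiceSit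
open Cfsg.Agent.Omega.OM.YThm
open scoped Pointwise

/-- sum over free orbits of a four-group -/
theorem sum_klein {X N : Type*} [AddCommMonoid N] (a b : X → X) (f : X → N)
    (hab : ∀ x, a (b x) = b (a x)) : ∀ (n : ℕ) (s : Finset X), s.card ≤ n →
    (∀ x ∈ s, a x ∈ s) → (∀ x ∈ s, b x ∈ s) → (∀ x ∈ s, a (a x) = x) → (∀ x ∈ s, b (b x) = x) →
    (∀ x ∈ s, a x ≠ x ∧ b x ≠ x ∧ a x ≠ b x) →
    (∀ x ∈ s, f x + f (a x) + f (b x) + f (a (b x)) = 0) → ∑ x ∈ s, f x = 0 := by
  classical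
  intro n
  induction n with
  | zero =>
    intro s hs _ _ _ _ _ _
    rw [Finset.card_eq_zero.1 (Nat.le_zero.1 hs), Finset.sum_empty]
  | succ n ih =>
    intro s hs ha hb haa hbb hne h0
    rcases s.eq_empty_or_nonempty with rfl | ⟨x, hx⟩
    · rfl
    · obtain ⟨h1, h2, h3⟩ := hne x hx
      have hax := ha x hx
      have hbx := hb x hx
      have habx := ha _ hbx
      have h4 : a (b x) ≠ x := by
        intro e
        apply h3
        have := congrArg a e
        rw [haa _ hbx] at this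
        exact this.symm
      have h5 : a (b x) ≠ a x := by
        intro e
        have := congrArg a e
        rw [haa _ hbx, haa _ hx] at this
        exact h2 this
      have h6 : a (b x) ≠ b x := (hne _ hbx).1
      let t : Finset X := {x, a x, b x, a (b x)}
      have ht : t ⊆ s := by
        intro y hy
        simp only [t, Finset.mem_insert, Finset.mem_singleton] at hy
        rcases hy with rfl | rfl | rfl | rfl <;> assumption
      have hta : ∀ y, y ∈ s → a y ∈ t → y ∈ t := by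
        intro y hy hyt
        simp only [t, Finset.mem_insert, Finset.mem_singleton] at hyt ⊢
        rcases hyt with e | e | e | e
        · right; left; rw [← e, haa y hy]
        · left; have := congrArg a e; rwa [haa y hy, haa x hx] at this
        · right; right; right; rw [← e, haa y hy]
        · right; right; left; have := congrArg a e; rwa [haa y hy, haa _ hbx] at this
      have htb : ∀ y, y ∈ s → b y ∈ t → y ∈ t := by
        intro y hy hyt
        simp only [t, Finset.mem_insert, Finset.mem_singleton] at hyt ⊢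
        rcases hyt with e | e | e | e
        · right; right; left; rw [← e, hbb y hy]
        · right; right; right; have := congrArg b e; rw [hbb y hy] at this; rw [this, hab]
        · left; have := congrArg b e; rwa [hbb y hy, hbb x hx] at this
        · right; left
          have := congrArg b e
          rw [hbb y hy, hab, hbb _ hax] at this
          exact this
      have hcard : t.card ≤ s.card := Finset.card_le_card ht
      have hsum : ∑ y ∈ t, f y = 0 := by
        have e : ∑ y ∈ t, f y = f x + (f (a x) + (f (b x) + f (a (b x)))) := by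
          rw [Finset.sum_insert, Finset.sum_insert, Finset.sum_insert, Finset.sum_singleton]
          · simpa using h6.symm
          · simp only [Finset.mem_insert, Finset.mem_singleton, not_or]
            exact ⟨h3, h5.symm⟩
          · simp only [Finset.mem_insert, Finset.mem_singleton, not_or]
            exact ⟨h1.symm, h2.symm, h4.symm⟩
        rw [e, ← h0 x hx]
        simp only [add_assoc]
      rw [← Finset.sum_sdiff ht, hsum, add_zero]
      apply ih
      · have : (s \ t).card < s.card := by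
          apply Finset.card_lt_card
          refine ⟨Finset.sdiff_subset, fun h => ?_⟩
          have := h hx
          rw [Finset.mem_sdiff] at this
          exact this.2 (by simp [t])
        omega
      · intro y hy
        rw [Finset.mem_sdiff] at hy ⊢
        exact ⟨ha y hy.1, fun h => hy.2 (hta y hy.1 h)⟩
      · intro y hy
        rw [Finset.mem_sdiff] at hy ⊢
        exact ⟨hb y hy.1, fun h => hy.2 (htb y hy.1 h)⟩
      · exact fun y hy => haa y (Finset.mem_sdiff.1 hy).1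
      · exact fun y hy => hbb y (Finset.mem_sdiff.1 hy).1
      · exact fun y hy => hne y (Finset.mem_sdiff.1 hy).1
      · exact fun y hy => h0 y (Finset.mem_sdiff.1 hy).1

variable {H : Type*} [Group H] {M : Type*} [AddCommGroup M] [DistribMulAction H M]

section

variable {𝒜 : Set (Subgroup H)} {S : Subgroup H}
  {Z : AddSubgroup M} {A J₀ L : Subgroup H} {Z₁ : AddSubgroup M}

/-- `u` fixed by `A`, `J₀` and modulo `C(L)` by `L` ⟹ `u` fixed by `L` -/
theorem fix_of_mod (d : LD 𝒜 S Z A J₀ L Z₁) {u : M} (hA : ∀ a ∈ A, a • u = u) (hJ : ∀ j ∈ J₀, j • u = u)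
    (hd : ∀ l ∈ L, ∀ m ∈ L, m • (l • u - u) = l • u - u) : ∀ l ∈ L, l • u = u := by
  obtain ⟨x, hx, hxZ⟩ := d.ne
  have hmul : ∀ l ∈ L, ∀ m ∈ L, (l * m) • u - u = (l • u - u) + (m • u - u) := by
    intro l hl m hm
    have h1 := hd m hm l hl
    rw [smul_sub, ← mul_smul] at h1
    have : (l * m) • u = m • u - u + l • u := by rw [← h1]; abel
    rw [this]; abel
  let K : Subgroup H :=
    { carrier := {l | l ∈ L ∧ l • u = u}
      one_mem' := ⟨L.one_mem, one_smul H u⟩
      mul_mem' := fun {a b} ha hb => ⟨L.mul_mem ha.1 hb.1, by rw [mul_smul, hb.2, ha.2]⟩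
      inv_mem' := fun {a} ha => ⟨L.inv_mem ha.1, by rw [inv_smul_eq_iff, ha.2]⟩ }
  have h1 : A ⊔ cj x A ⊔ J₀ ≤ K := by
    refine sup_le (sup_le (fun a ha => ⟨d.AL ha, hA a ha⟩) ?_) (fun j hj => ⟨d.JL hj, hJ j hj⟩)
    intro b hb
    have hb' : x⁻¹ * b * x ∈ A := mem_cj.1 hb
    have hxi := L.inv_mem hx
    have haL := d.AL hb'
    have hbL : b ∈ L := by
      have : b = x * (x⁻¹ * b * x) * x⁻¹ := by group
      rw [this]
      exact L.mul_mem (L.mul_mem hx haL) hxi
    refine ⟨hbL, ?_⟩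
    have e1 : (1 : H) • u - u = (x • u - u) + (x⁻¹ • u - u) := by
      rw [← hmul x hx _ hxi, mul_inv_cancel]
    have e2 : b • u - u = (x • u - u) + ((x⁻¹ * b * x) • u - u) + (x⁻¹ • u - u) := by
      rw [← hmul x hx _ haL, ← hmul _ (L.mul_mem hx haL) _ hxi]
      congr 2
      group
    rw [hA _ hb', sub_self, add_zero, ← e1, one_smul, sub_self] at e2
    exact sub_eq_zero.1 e2
  rw [d.gen x hx hxZ] at h1
  exact fun l hl => (h1 hl).2

/-- elements `a, b` of `A` which generate a four-group modulo `kA` -/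
theorem exists_pair [Finite H] (h4 : 4 * Nat.card (kA A L Z₁) ≤ Nat.card A) :
    ∃ a ∈ A, ∃ b ∈ A, a ∉ kA A L Z₁ ∧ b ∉ kA A L Z₁ ∧ b⁻¹ * a ∉ kA A L Z₁ := by
  classical
  set K := kA A L Z₁ with hK
  have hpos : 0 < Nat.card K := Nat.card_pos
  obtain ⟨a, ha, haK⟩ : ∃ a ∈ A, a ∉ K := by
    by_contra hc
    push Not at hc
    have := Subgroup.card_le_of_le (show A ≤ K from hc)
    omega
  refine ⟨a, ha, ?_⟩
  by_contra hc
  push Not at hc
  have hsub : (A : Set H) ⊆ (K : Set H) ∪ (fun k => a * k) '' (K : Set H) := by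
    intro b hb
    by_cases hbK : b ∈ K
    · exact Or.inl hbK
    · right
      have := hc b hb haK hbK
      refine ⟨a⁻¹ * b, ?_, by group⟩
      have h1 := K.inv_mem this
      rwa [mul_inv_rev, inv_inv] at h1
  have h1 := Set.ncard_le_ncard hsub (Set.toFinite _)
  have h2 := Set.ncard_union_le (K : Set H) ((fun k => a * k) '' (K : Set H))
  have h3 := Set.ncard_image_le (f := fun k => a * k) (Set.toFinite (K : Set H))
  have h5 : (A : Set H).ncard = Nat.card A := (Nat.card_coe_set_eq _).symm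
  have h6 : (K : Set H).ncard = Nat.card K := (Nat.card_coe_set_eq _).symm
  rw [h5] at h1
  rw [h6] at h2 h3
  omega

theorem smul_smul_eq {a b : H} (hc : ∀ x : M, a • b • x = b • a • x) (p : AddSubgroup M) :
    a • b • p = b • a • p := by
  rw [← mul_smul, ← mul_smul]
  ext x
  simp only [AddSubgroup.mem_smul_pointwise_iff_exists, mul_smul]
  constructor
  · rintro ⟨_, ⟨s, hs, rfl⟩, rfl⟩; exact ⟨_, ⟨s, hs, rfl⟩, (hc s).symm⟩
  · rintro ⟨_, ⟨s, hs, rfl⟩, rfl⟩; exact ⟨_, ⟨s, hs, rfl⟩, hc s⟩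

theorem smul_sq_eq {a : H} (hc : ∀ x : M, a • a • x = x) (p : AddSubgroup M) : a • a • p = p := by
  rw [← mul_smul]
  ext x
  simp only [AddSubgroup.mem_smul_pointwise_iff_exists, mul_smul]
  constructor
  · rintro ⟨_, ⟨s, hs, rfl⟩, rfl⟩; rwa [hc]
  · intro hx; exact ⟨_, ⟨x, hx, rfl⟩, hc x⟩

/-- (b7) -/
theorem sum_mem [Finite H] [Finite M] (two : ∀ x : M, x + x = 0) (el : El M A) (d : LD 𝒜 S Z A J₀ L Z₁)
    (ti : ∀ a ∈ A, ∀ x ∈ L, x • Z₁ ≠ Z₁ → a • x • Z₁ = x • Z₁ → a ∈ kA A L Z₁)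
    (h4 : 4 * Nat.card (kA A L Z₁) ≤ Nat.card A) {z : M} (hz : z ∈ Z₁)
    (hl : ∀ l ∈ L, l • Z₁ = Z₁ → l • z - z ∈ fx Z₁ L) : z ∈ fx Z₁ L := by
  classical
  obtain ⟨a, ha, b, hb, haK, hbK, habK⟩ := exists_pair h4
  set R := fx Z₁ L with hR
  have hRL : ∀ l ∈ L, ∀ r ∈ R, l • r = r := fun l hl r hr => hr.2 l hl
  let c : AddSubgroup M → H := fun p => if hp : ∃ l ∈ L, l • Z₁ = p then hp.choose else 1
  have hc : ∀ l ∈ L, c (l • Z₁) ∈ L ∧ c (l • Z₁) • Z₁ = l • Z₁ := by
    intro l hl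
    have hp : ∃ m ∈ L, m • Z₁ = l • Z₁ := ⟨l, hl, rfl⟩
    have e : c (l • Z₁) = hp.choose := dif_pos hp
    rw [e]; exact hp.choose_spec
  let f : AddSubgroup M → M ⧸ R := fun p => QuotientAddGroup.mk (c p • z)
  -- Fact 1
  have hf : ∀ l ∈ L, f (l • Z₁) = QuotientAddGroup.mk (l • z) := by
    intro l hlL
    obtain ⟨h1, h2⟩ := hc l hlL
    set m := c (l • Z₁) with hm
    have h3 : (m⁻¹ * l) • Z₁ = Z₁ := by rw [mul_smul, ← h2, inv_smul_smul]
    have h5 := hl _ (L.mul_mem (L.inv_mem h1) hlL) h3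
    have h6 := hRL m h1 _ h5
    rw [smul_sub, ← mul_smul, mul_inv_cancel_left] at h6
    change QuotientAddGroup.mk (m • z) = QuotientAddGroup.mk (l • z)
    rw [QuotientAddGroup.eq, neg_add_eq_sub, h6]
    exact h5
  let s : Finset (AddSubgroup M) := (Set.toFinite {p : AddSubgroup M | ∃ l ∈ L, l • Z₁ = p}).toFinset
  have hs : ∀ p, p ∈ s ↔ ∃ l ∈ L, l • Z₁ = p := fun p => Set.Finite.mem_toFinset _
  have hZs : Z₁ ∈ s := (hs _).2 ⟨1, L.one_mem, one_smul H _⟩
  have hst : ∀ g ∈ L, ∀ p ∈ s, g • p ∈ s := by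
    intro g hg p hp
    obtain ⟨l, hlL, rfl⟩ := (hs p).1 hp
    exact (hs _).2 ⟨g * l, L.mul_mem hg hlL, by rw [mul_smul]⟩
  have hAZ : ∀ a ∈ A, a • Z₁ = Z₁ := by
    intro a ha
    ext x
    rw [AddSubgroup.mem_smul_pointwise_iff_exists]
    constructor
    · rintro ⟨y, hy, rfl⟩; rwa [d.cen a ha y hy]
    · intro hx; exact ⟨x, hx, d.cen a ha x hx⟩
  -- the sum over the points other than Z₁
  have h0 : ∑ p ∈ s.erase Z₁, f p = 0 := by
    refine sum_klein (fun p => a • p) (fun p => b • p) f ?_ (s.erase Z₁).card (s.erase Z₁) le_rfl ?_ ?_ ?_ ?_ ?_ ?_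
    · exact fun p => smul_smul_eq (fun x => el.comm a ha b hb x) p
    · intro p hp
      rw [Finset.mem_erase] at hp ⊢
      refine ⟨fun e => hp.1 ?_, hst a (d.AL ha) p hp.2⟩
      rw [← hAZ a ha] at e
      exact smul_left_cancel a e
    · intro p hp
      rw [Finset.mem_erase] at hp ⊢
      refine ⟨fun e => hp.1 ?_, hst b (d.AL hb) p hp.2⟩
      rw [← hAZ b hb] at e
      exact smul_left_cancel b e
    · exact fun p _ => smul_sq_eq (fun x => el.sq a ha x) p
    · exact fun p _ => smul_sq_eq (fun x => el.sq b hb x) p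
    · intro p hp
      rw [Finset.mem_erase] at hp
      obtain ⟨x, hx, rfl⟩ := (hs p).1 hp.2
      refine ⟨fun e => haK (ti a ha x hx hp.1 e), fun e => hbK (ti b hb x hx hp.1 e), fun e => habK ?_⟩
      refine ti _ (A.mul_mem (A.inv_mem hb) ha) x hx hp.1 ?_
      have e' : a • x • Z₁ = b • x • Z₁ := e
      rw [mul_smul, e', inv_smul_smul]
    · intro p hp
      rw [Finset.mem_erase] at hp
      obtain ⟨x, hx, rfl⟩ := (hs p).1 hp.2
      have e1 : f (a • x • Z₁) = QuotientAddGroup.mk (a • x • z) := by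
        rw [← mul_smul, hf _ (L.mul_mem (d.AL ha) hx), mul_smul]
      have e2 : f (b • x • Z₁) = QuotientAddGroup.mk (b • x • z) := by
        rw [← mul_smul, hf _ (L.mul_mem (d.AL hb) hx), mul_smul]
      have e3 : f (a • b • x • Z₁) = QuotientAddGroup.mk (a • b • x • z) := by
        rw [← mul_smul b x, ← mul_smul, hf _ (L.mul_mem (d.AL ha) (L.mul_mem (d.AL hb) hx)), mul_smul, mul_smul]
      have e4 := d.quad a ha b hb x hx z hz
      rw [smul_sub] at e4
      have e5 : a • b • x • z = a • x • z + b • x • z - x • z := by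
        have : a • b • x • z = (a • b • x • z - a • x • z) + a • x • z := by abel
        rw [this, e4]; abel
      show f (x • Z₁) + f (a • x • Z₁) + f (b • x • Z₁) + f (a • b • x • Z₁) = 0
      rw [hf x hx, e1, e2, e3, ← QuotientAddGroup.mk_add, ← QuotientAddGroup.mk_add, ← QuotientAddGroup.mk_add, e5]
      have e6 : x • z + a • x • z + b • x • z + (a • x • z + b • x • z - x • z) = 0 := by
        have : x • z + a • x • z + b • x • z + (a • x • z + b • x • z - x • z) =
            (a • x • z + a • x • z) + (b • x • z + b • x • z) := by abel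
        rw [this, two, two, add_zero]
      rw [e6, QuotientAddGroup.mk_zero]
  have hfZ : f Z₁ = QuotientAddGroup.mk z := by
    have := hf 1 L.one_mem
    rwa [one_smul, one_smul] at this
  have hsum : ∑ p ∈ s, f p = QuotientAddGroup.mk z := by
    rw [← Finset.add_sum_erase s f hZs, h0, add_zero, hfZ]
  let σ : M := ∑ p ∈ s, c p • z
  have hmk : ∀ (g : H), (QuotientAddGroup.mk (g • σ) : M ⧸ R) = ∑ p ∈ s, QuotientAddGroup.mk (g • c p • z) := by
    intro g
    rw [show g • σ = ∑ p ∈ s, g • c p • z from Finset.smul_sum]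
    exact map_sum (QuotientAddGroup.mk' R) _ _
  have hσ : ∀ g ∈ L, (QuotientAddGroup.mk (g • σ) : M ⧸ R) = QuotientAddGroup.mk z := by
    intro g hg
    rw [hmk, ← hsum]
    refine Finset.sum_bij (fun p _ => g • p) (fun p hp => hst g hg p hp) (fun p _ q _ e => smul_left_cancel g e) ?_ ?_
    · intro p hp
      exact ⟨g⁻¹ • p, hst _ (L.inv_mem hg) p hp, smul_inv_smul g p⟩
    · intro p hp
      obtain ⟨l, hlL, rfl⟩ := (hs p).1 hp
      obtain ⟨h1, h2⟩ := hc l hlL
      rw [← mul_smul, ← h2, ← mul_smul, hf _ (L.mul_mem hg h1)]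
      rw [h2]
  have hz1 : σ - z ∈ R := by
    have := hσ 1 L.one_mem
    rw [one_smul] at this
    have := QuotientAddGroup.eq.1 this.symm
    rwa [neg_add_eq_sub] at this
  have hz2 : ∀ g ∈ L, g • z - z ∈ R := by
    intro g hg
    have h1 := hRL g hg _ hz1
    have h2 := QuotientAddGroup.eq.1 (hσ g hg).symm
    rw [neg_add_eq_sub] at h2
    rw [smul_sub] at h1
    have : g • z - z = (g • σ - z) - (σ - z) := by rw [← h1]; abel
    rw [this]
    exact R.sub_mem h2 hz1
  refine ⟨hz, fix_of_mod d (fun a ha => d.cen a ha z hz) (fun j hj => ?_) ?_⟩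
  · have := d.cenJ j hj 1 L.one_mem z hz
    rwa [one_smul] at this
  · exact fun l hl m hm => hRL m hm _ (hz2 l hl)

/-- if all elements of odd order of `L₀` act trivially on `Z₁`, then `L₀` has a fixed vector in `Z₁ / R` -/
theorem exists_mod {L : Subgroup H} {Z₁ : AddSubgroup M} [Finite H] [Finite M] (two : ∀ x : M, x + x = 0)
    (hne : ∃ z ∈ Z₁, z ∉ fx Z₁ L)
    (hodd : ∀ l ∈ L, l • Z₁ = Z₁ → Odd (orderOf l) → ∀ z ∈ Z₁, l • z = z) :
    ∃ z ∈ Z₁, z ∉ fx Z₁ L ∧ ∀ l ∈ L, l • Z₁ = Z₁ → l • z - z ∈ fx Z₁ L := by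
  let L₀ : Subgroup H :=
    { carrier := {l | l ∈ L ∧ l • Z₁ = Z₁}
      one_mem' := ⟨L.one_mem, one_smul H _⟩
      mul_mem' := fun {a b} ha hb => ⟨L.mul_mem ha.1 hb.1, by rw [mul_smul, hb.2, ha.2]⟩
      inv_mem' := fun {a} ha => ⟨L.inv_mem ha.1, by rw [inv_smul_eq_iff, ha.2]⟩ }
  have hst : ∀ l ∈ L₀, ∀ z ∈ Z₁, l • z ∈ Z₁ := by
    intro l hl z hz
    rw [← hl.2]
    exact AddSubgroup.smul_mem_pointwise_smul _ _ _ hz
  let ρ₀ : L₀ →* AddMonoid.End Z₁ :=
    { toFun := fun l =>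
        { toFun := fun z => ⟨(l : H) • (z : M), hst l l.2 z z.2⟩
          map_zero' := Subtype.ext (smul_zero _)
          map_add' := fun x y => Subtype.ext (smul_add _ _ _) }
      map_one' := by ext z; exact one_smul H _
      map_mul' := fun x y => by ext z; exact mul_smul _ _ _ }
  let ρ : L₀ →* (AddMonoid.End Z₁)ˣ := ρ₀.toHomUnits
  have hT : IsPGroup 2 ρ.range := by
    rintro ⟨_, l, rfl⟩
    obtain ⟨k, m, hm, e⟩ := Nat.exists_eq_two_pow_mul_odd (orderOf_pos (l : H)).ne'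
    refine ⟨k, Subtype.ext ?_⟩
    change (ρ l) ^ 2 ^ k = 1
    rw [← map_pow]
    refine Units.ext (AddMonoidHom.ext fun z => Subtype.ext ?_)
    change ((l ^ 2 ^ k : L₀) : H) • (z : M) = z
    have ho : orderOf ((l : H) ^ 2 ^ k) = m := by
      rw [orderOf_pow_of_dvd (pow_ne_zero _ two_ne_zero) (by rw [e]; exact dvd_mul_right _ _), e,
        Nat.mul_div_cancel_left _ (pow_pos two_pos _)]
    have h1 := hodd ((l : H) ^ 2 ^ k) (L₀.pow_mem l.2 _).1 (L₀.pow_mem l.2 _).2 (by rw [ho]; exact hm) z z.2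
    simpa using h1
  have hfix := Cfsg.Agent.Omega.FF.Basic.exists_fixed (T := ρ.range) (V := Z₁) hT (H := ⊤)
    (K := (fx Z₁ L).addSubgroupOf Z₁) (fun v => Subtype.ext (two v)) ?_ (fun _ _ _ _ => AddSubgroup.mem_top _) le_top ?_
  · obtain ⟨v, -, hv, hv2⟩ := hfix
    refine ⟨v, v.2, fun hc => hv (by rwa [AddSubgroup.mem_addSubgroupOf]), fun l hl hlZ => ?_⟩
    have := hv2 (ρ ⟨l, hl, hlZ⟩) ⟨_, rfl⟩
    rw [AddSubgroup.mem_addSubgroupOf] at this
    exact this
  · rintro _ ⟨l, rfl⟩ v hv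
    rw [AddSubgroup.mem_addSubgroupOf] at hv ⊢
    have : ((ρ l • v : Z₁) : M) = v := by
      change (l : H) • (v : M) = v
      exact hv.2 l l.2.1
    rw [this]; exact hv
  · intro hle
    obtain ⟨z, hz, hz'⟩ := hne
    have := hle (AddSubgroup.mem_top (⟨z, hz⟩ : Z₁))
    rw [AddSubgroup.mem_addSubgroupOf] at this
    exact hz' this

/-- `Z₁` is not centralised by `L` -/
theorem exists_not_fx (d : LD 𝒜 S Z A J₀ L Z₁) : ∃ z ∈ Z₁, z ∉ fx Z₁ L := by
  obtain ⟨x, hx, hne⟩ := d.ne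
  by_contra hc
  push Not at hc
  apply hne
  ext y
  rw [AddSubgroup.mem_smul_pointwise_iff_exists]
  constructor
  · rintro ⟨z, hz, rfl⟩; rwa [(hc z hz).2 x hx]
  · intro hy; exact ⟨y, hy, (hc y hy).2 x hx⟩

/-- if `|A : kA| ≥ 4`, then an odd element of `L₀` acts nontrivially on `Z₁` -/
theorem exists_odd [Finite H] [Finite M] (two : ∀ x : M, x + x = 0) (el : El M A) (d : LD 𝒜 S Z A J₀ L Z₁)
    (ti : ∀ a ∈ A, ∀ x ∈ L, x • Z₁ ≠ Z₁ → a • x • Z₁ = x • Z₁ → a ∈ kA A L Z₁)
    (h4 : 4 * Nat.card (kA A L Z₁) ≤ Nat.card A) :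
    ∃ l ∈ L, l • Z₁ = Z₁ ∧ Odd (orderOf l) ∧ ∃ z ∈ Z₁, l • z ≠ z := by
  by_contra hc
  push Not at hc
  obtain ⟨z, hz, hzR, hl⟩ := exists_mod two (exists_not_fx d) hc
  exact hzR (sum_mem two el d ti h4 hz hl)

end

end Cfsg.Agent.Omega.OM.YThm.Sum
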