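import Cfsg.Agent.Omega.OM.YThm.TwoCore

/-!
# THEOREM Y, part B2: the decomposition `Z₁ = ⊕ Y i` and transitivity on `C_X(A)/C_X(L)` (b8)
-/

set_option autoImplicit false

namespace Cfsg.Agent.Omega.OM.YThm.Two

open Subgroup Cfsg.Agent.ZN Cfsg.Agent.ZN.ChoiceBase Cfsg.Agent.ZN.ChoiceSit
open scoped Pointwise

variable {H : Type*} [Group H] {M : Type*} [AddCommGroup M] [DistribMulAction H M]

theorem card_mul_relIndex' {K K' : AddSubgroup M} (h : K ≤ K') :
    Nat.card K * K.relIndex K' = Nat.card K' := by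
  rw [← AddSubgroup.relIndex_bot_left, ← AddSubgroup.relIndex_bot_left,
    AddSubgroup.relIndex_mul_relIndex _ _ _ bot_le h]

theorem card_sup_mul_inf (P Q : AddSubgroup M) :
    Nat.card (P ⊔ Q : AddSubgroup M) * Nat.card (P ⊓ Q : AddSubgroup M) = Nat.card P * Nat.card Q := by
  have h1 := card_mul_relIndex' (K := Q) (K' := P ⊔ Q) le_sup_right
  have h2 := card_mul_relIndex' (K := P ⊓ Q) (K' := P) inf_le_left
  rw [AddSubgroup.relIndex_sup_right] at h1
  rw [AddSubgroup.inf_relIndex_left] at h2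
  rw [← h1, ← h2]
  ring

/-- The decomposition of `Z₁`. -/
structure Dcm {ι : Type*} [Fintype ι] (Z₁ : AddSubgroup M) (H' : Type*) [Group H'] [DistribMulAction H' M]
    (Y : ι → AddSubgroup M) : Prop where
  le : ∀ i, Y i ≤ Z₁
  dec : ∀ z ∈ Z₁, ∃ f : ι → M, (∀ i, f i ∈ Y i) ∧ z = ∑ i, f i
  uni : ∀ f : ι → M, (∀ i, f i ∈ Y i) → ∑ i, f i = 0 → ∀ i, f i = 0
  nz : ∀ i, ∃ x ∈ Y i, x ≠ 0
  prm : ∀ g : H', g • Z₁ = Z₁ → ∀ i, ∃ j, g • Y i = Y j
  odd : ∀ g : H', g • Z₁ = Z₁ → Odd (orderOf g) → ∀ i, g • Y i = Y i → ∀ z ∈ Y i, g • z = z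

namespace Dcm

variable {ι : Type*} [Fintype ι] {Z₁ : AddSubgroup M} {Y : ι → AddSubgroup M}

theorem eq_zero (D : Dcm Z₁ H Y) {i j : ι} (hij : i ≠ j) {x : M} (hi : x ∈ Y i) (hj : x ∈ Y j) : x = 0 := by
  classical
  have h := D.uni (fun k => if k = i then x else if k = j then -x else 0) (fun k => by
    by_cases h1 : k = i
    · subst h1; simpa using hi
    · by_cases h2 : k = j
      · subst h2; simpa [h1] using hj
      · simp [h1, h2]) (by
    have e : (fun k => if k = i then x else if k = j then -x else 0) =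
        fun k => (if k = i then x else 0) + (if k = j then -x else 0) := by
      funext k
      by_cases h1 : k = i
      · subst h1; simp [hij]
      · simp [h1]
    rw [e, Finset.sum_add_distrib]
    simp) i
  simpa using h

theorem exists_ne₂ {i : ι} (h4 : 4 ≤ Nat.card (Y i)) (x : M) : ∃ x' ∈ Y i, x' ≠ 0 ∧ x' ≠ x := by
  classical
  by_contra hc
  push Not at hc
  have h1 : ∀ y : Y i, (y : M) = 0 ∨ (y : M) = x := by
    intro y
    by_cases h : (y : M) = 0
    · exact Or.inl h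
    · exact Or.inr (hc y y.2 h)
  have h2 : Nat.card (Y i) ≤ Nat.card Bool := by
    refine Nat.card_le_card_of_injective (fun y : Y i => decide ((y : M) = 0)) ?_
    intro y y' h
    have h' : ((y : M) = 0) ↔ ((y' : M) = 0) := by simpa using h
    ext
    rcases h1 y with e | e <;> rcases h1 y' with e' | e'
    · rw [e, e']
    · rw [e, h'.1 e]
    · rw [e', h'.2 e']
    · rw [e, e']
  have h3 : Nat.card Bool = 2 := by simp
  omega

theorem Y_inj (D : Dcm Z₁ H Y) {i j : ι} (h : Y i = Y j) : i = j := by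
  by_contra hij
  obtain ⟨x, hx, hx0⟩ := D.nz i
  exact hx0 (D.eq_zero hij hx (h ▸ hx))

/-- the permutation induced by an element of the stabiliser of `Z₁` -/
theorem exists_perm (D : Dcm Z₁ H Y) {h : H} (hh : h • Z₁ = Z₁) : ∃ σ : Equiv.Perm ι, ∀ i, h • Y i = Y (σ i) := by
  choose f hf using D.prm h hh
  have hinj : Function.Injective f := by
    intro i j hij
    have h1 : h • Y i = h • Y j := by rw [hf, hf, hij]
    exact D.Y_inj (smul_left_cancel h h1)
  exact ⟨Equiv.ofBijective f (Finite.injective_iff_bijective.1 hinj), hf⟩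

theorem perm_pow (_D : Dcm Z₁ H Y) {h : H} {σ : Equiv.Perm ι} (hσ : ∀ i, h • Y i = Y (σ i)) (n : ℕ) (i : ι) :
    h ^ n • Y i = Y ((σ ^ n) i) := by
  induction n generalizing i with
  | zero => simp
  | succ n ih => rw [pow_succ', mul_smul, ih, hσ, pow_succ', Equiv.Perm.mul_apply]

/-- an element of odd order induces no 2-cycle -/
theorem no_swap (D : Dcm Z₁ H Y) {h : H} {σ : Equiv.Perm ι} (hσ : ∀ i, h • Y i = Y (σ i)) (ho : Odd (orderOf h))
    {i j : ι} (h1 : σ i = j) (h2 : σ j = i) : i = j := by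
  have h3 : (σ ^ orderOf h) i = i := by
    have := D.perm_pow hσ (orderOf h) i
    rw [pow_orderOf_eq_one, one_smul] at this
    exact (D.Y_inj this).symm
  obtain ⟨k, hk⟩ := ho
  have h4 : ∀ m, (σ ^ (2 * m)) i = i := by
    intro m
    induction m with
    | zero => simp
    | succ m ih =>
      have e : 2 * (m + 1) = 2 + 2 * m := by ring
      rw [e, pow_add, Equiv.Perm.mul_apply, ih, pow_two, Equiv.Perm.mul_apply, h1, h2]
  rw [hk, pow_succ', Equiv.Perm.mul_apply, h4, h1] at h3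
  exact h3.symm

/-- components of a fixed vector -/
theorem comp (D : Dcm Z₁ H Y) {h : H} {σ : Equiv.Perm ι} (hσ : ∀ i, h • Y i = Y (σ i)) (f : ι → M)
    (hf : ∀ i, f i ∈ Y i) (hr : h • ∑ i, f i = ∑ i, f i) (i : ι) : h • f i = f (σ i) := by
  have h1 := D.uni (fun j => h • f (σ.symm j) - f j) (fun j => by
    refine sub_mem ?_ (hf j)
    have := AddSubgroup.smul_mem_pointwise_smul _ h _ (hf (σ.symm j))
    rwa [hσ, Equiv.apply_symm_apply] at this) (by
    rw [Finset.sum_sub_distrib, Equiv.sum_comp σ.symm (fun j => h • f j), ← Finset.smul_sum, hr, sub_self]) (σ i)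
  simp only [Equiv.symm_apply_apply] at h1
  exact sub_eq_zero.1 h1

theorem comp_ne (D : Dcm Z₁ H Y) {h : H} {σ : Equiv.Perm ι} (hσ : ∀ i, h • Y i = Y (σ i)) (f : ι → M)
    (hf : ∀ i, f i ∈ Y i) (hr : h • ∑ i, f i = ∑ i, f i) {i : ι} (hi : f i ≠ 0) : f (σ i) ≠ 0 := by
  rw [← D.comp hσ f hf hr i]
  intro e
  apply hi
  rwa [smul_eq_zero_iff_eq] at e

/-- the vector `x_i - y_j` (`i ≠ j`, one of them nonzero) is not fixed by `h` odd with `σ i ≠ i` -/
theorem pair (D : Dcm Z₁ H Y) {h : H} {σ : Equiv.Perm ι} (hσ : ∀ i, h • Y i = Y (σ i)) (ho : Odd (orderOf h))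
    {i j : ι} (hi : σ i ≠ i) {x y : M} (hx : x ∈ Y i) (hy : y ∈ Y j) (hr : h • (x + y) = x + y)
    (hij : i ≠ j) : x = 0 := by
  classical
  by_contra hx0
  let f : ι → M := fun k => (if k = i then x else 0) + (if k = j then y else 0)
  have hf : ∀ k, f k ∈ Y k := by
    intro k
    refine add_mem ?_ ?_
    · by_cases h1 : k = i
      · subst h1; simpa using hx
      · simp [h1]
    · by_cases h1 : k = j
      · subst h1; simpa using hy
      · simp [h1]
  have hs : ∑ k, f k = x + y := by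
    simp only [f, Finset.sum_add_distrib]
    simp
  rw [← hs] at hr
  have hfi : f i ≠ 0 := by simpa [f, hij] using hx0
  have h1 := D.comp_ne hσ f hf hr hfi
  have h2 : σ i = j := by
    by_contra h2
    exact h1 (by simp [f, hi, h2])
  rw [h2] at h1
  have h3 := D.comp_ne hσ f hf hr h1
  have h4 : σ j = i ∨ σ j = j := by
    by_contra h4
    push Not at h4
    exact h3 (by simp [f, h4.1, h4.2])
  rcases h4 with h4 | h4
  · exact hij (D.no_swap hσ ho h2 h4)
  · exact hij (σ.injective (h2.trans h4.symm))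

/-- a nonzero vector of one component is not fixed by `h` with `σ i ≠ i` -/
theorem single (D : Dcm Z₁ H Y) {h : H} {σ : Equiv.Perm ι} (hσ : ∀ i, h • Y i = Y (σ i))
    {i : ι} (hi : σ i ≠ i) {x : M} (hx : x ∈ Y i) (hr : h • x = x) : x = 0 := by
  refine D.eq_zero hi ?_ hx
  have := AddSubgroup.smul_mem_pointwise_smul _ h _ hx
  rwa [hσ, hr] at this

/-- three components: `x_i + y_j + w_l` fixed by `h` odd, `σ i = j ≠ i`, `x, y ≠ 0` ==> `l = σ j` -/
theorem triple (D : Dcm Z₁ H Y) {h : H} {σ : Equiv.Perm ι} (hσ : ∀ i, h • Y i = Y (σ i)) (ho : Odd (orderOf h))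
    {i j l : ι} (hi : σ i = j) (hij : i ≠ j) {x y w : M} (hx : x ∈ Y i) (hy : y ∈ Y j) (hw : w ∈ Y l)
    (hx0 : x ≠ 0) (hy0 : y ≠ 0) (hr : h • (x + y + w) = x + y + w) : l = σ j := by
  classical
  have hsj : σ j ≠ j := fun e => hij (σ.injective (hi.trans e.symm))
  have hsi : σ j ≠ i := fun e => hij (D.no_swap hσ ho hi e)
  let f : ι → M := fun k => (if k = i then x else 0) + (if k = j then y else 0) + (if k = l then w else 0)
  have hf : ∀ k, f k ∈ Y k := by
    intro k
    refine add_mem (add_mem ?_ ?_) ?_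
    · by_cases h1 : k = i
      · subst h1; simpa using hx
      · simp [h1]
    · by_cases h1 : k = j
      · subst h1; simpa using hy
      · simp [h1]
    · by_cases h1 : k = l
      · subst h1; simpa using hw
      · simp [h1]
  have hs : ∑ k, f k = x + y + w := by
    simp only [f, Finset.sum_add_distrib]
    simp
  rw [← hs] at hr
  by_contra hl
  have h0 : f (σ j) = 0 := by simp [f, hsi, hsj, Ne.symm hl]
  have hfj : f j = 0 := by
    by_contra hc
    exact D.comp_ne hσ f hf hr hc h0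
  have hfi : f i = 0 := by
    by_contra hc
    have := D.comp_ne hσ f hf hr hc
    rw [hi] at this
    exact this hfj
  -- `f i = x + [i = l] w`, `f j = y + [j = l] w`
  by_cases h1 : j = l
  · have h2 : i ≠ l := fun e => hij (e.trans h1.symm)
    exact hx0 (by simpa [f, hij, h2] using hfi)
  · exact hy0 (by simpa [f, hij.symm, h1] using hfj)

end Dcm

namespace Core

variable {A L : Subgroup H} {Z₁ U : AddSubgroup M}

/-- Transitivity of `L₀` on the nonzero elements of `C_X(A)/C_X(L)`. -/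
theorem trans [Finite H] [Finite M] (c : Core A L Z₁ U) {X : AddSubgroup M} (hXU : X ≤ U)
    (hX : ∀ l ∈ L, ∀ x ∈ X, l • x ∈ X) (hk : ∀ b ∈ kA A L Z₁, ∀ x ∈ X, b • x = x)
    (ff : Nat.card X * Nat.card (ct A X) ≤ Nat.card A * Nat.card (fx X A))
    {v v' : M} (hv : v ∈ fx X A) (hv' : v' ∈ fx X A) (hvL : v ∉ fx X L) (hvL' : v' ∉ fx X L) :
    ∃ g ∈ L, g • Z₁ = Z₁ ∧ g • v - v' ∈ fx X L := by
  classical
  have hLA : fx X L ≤ fx X A := fun x hx => ⟨hx.1, fun a ha => hx.2 a (c.AL ha)⟩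
  obtain ⟨d, hd, hdne⟩ := c.ne
  -- `C_X(A) ∩ C_X(A^d) = C_X(L)`
  have hint : ∀ {x : H}, x ∈ L → x • Z₁ ≠ Z₁ → fx X A ⊓ fx X (cj x A) = fx X L := by
    intro x hx hxne
    apply le_antisymm
    · rintro y ⟨h1, h2⟩
      refine ⟨h1.1, c.fixA y (hXU h1.1) x hx hxne h1.2 fun a ha => h2.2 _ ?_⟩
      rw [mem_cj]
      have e : x⁻¹ * (x * a * x⁻¹) * x = a := by group
      rwa [e]
    · intro y hy
      refine ⟨hLA hy, hy.1, fun a ha => hy.2 a ?_⟩
      rw [mem_cj] at ha
      have e : x * (x⁻¹ * a * x) * x⁻¹ = a := by group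
      rw [← e]
      exact L.mul_mem (L.mul_mem hx (c.AL ha)) (L.inv_mem hx)
  have hmemcj : ∀ {x : H}, x ∈ L → ∀ {y : M}, y ∈ fx X A → x • y ∈ fx X (cj x A) := by
    intro x hx y hy
    refine ⟨hX x hx y hy.1, fun a ha => ?_⟩
    rw [mem_cj] at ha
    have := hy.2 _ ha
    rw [mul_smul, mul_smul, inv_smul_eq_iff] at this
    exact this
  have hcard : ∀ {x : H}, x ∈ L → Nat.card (fx X A) ≤ Nat.card (fx X (cj x A)) := by
    intro x hx
    refine Nat.card_le_card_of_injective (fun y : fx X A => (⟨x • (y : M), hmemcj hx y.2⟩ : fx X (cj x A))) ?_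
    intro y y' h
    have : x • (y : M) = x • (y' : M) := congrArg Subtype.val h
    ext
    exact smul_left_cancel x this
  -- the count
  have hq : Nat.card (fx X A) * Nat.card (kA A L Z₁) ≤ Nat.card A * Nat.card (fx X L) := by
    have h1 : Nat.card (kA A L Z₁) ≤ Nat.card (ct A X) :=
      Subgroup.card_le_of_le fun b hb => ⟨hb.1, hk b hb⟩
    have h2 : Nat.card (fx X A ⊔ fx X (cj d A) : AddSubgroup M) * Nat.card (fx X L) =
        Nat.card (fx X A) * Nat.card (fx X (cj d A)) := by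
      rw [← hint hd hdne]
      exact card_sup_mul_inf _ _
    have h3 : Nat.card (fx X A ⊔ fx X (cj d A) : AddSubgroup M) ≤ Nat.card X :=
      AddSubgroup.card_le_of_le (sup_le (fun y hy => hy.1) fun y hy => hy.1)
    have h4 := hcard hd
    have hpos : 0 < Nat.card (fx X A) := Nat.card_pos
    have h5 : Nat.card (fx X A) * (Nat.card (fx X A) * Nat.card (kA A L Z₁)) ≤
        Nat.card (fx X A) * (Nat.card A * Nat.card (fx X L)) := by
      calc Nat.card (fx X A) * (Nat.card (fx X A) * Nat.card (kA A L Z₁))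
          ≤ Nat.card (fx X A) * (Nat.card (fx X (cj d A)) * Nat.card (kA A L Z₁)) :=
            Nat.mul_le_mul_left _ (Nat.mul_le_mul_right _ h4)
        _ = Nat.card (fx X A ⊔ fx X (cj d A) : AddSubgroup M) * Nat.card (fx X L) * Nat.card (kA A L Z₁) := by
            rw [h2]; ring
        _ ≤ Nat.card X * Nat.card (fx X L) * Nat.card (ct A X) :=
            Nat.mul_le_mul (Nat.mul_le_mul_right _ h3) h1
        _ = Nat.card X * Nat.card (ct A X) * Nat.card (fx X L) := by ring
        _ ≤ Nat.card A * Nat.card (fx X A) * Nat.card (fx X L) := Nat.mul_le_mul_right _ ff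
        _ = Nat.card (fx X A) * (Nat.card A * Nat.card (fx X L)) := by ring
    exact Nat.le_of_mul_le_mul_left h5 hpos
  -- surjectivity
  have hsurj : ∀ {x : H}, x ∈ L → x • Z₁ ≠ Z₁ → ∀ w ∈ fx X (cj x A), w ∉ fx X L → ∀ u ∈ fx X A,
      ∃ a ∈ A, a • w - w - u ∈ fx X L := by
    intro x hx hxne w hw hwL u hu
    have hwU := hXU hw.1
    have hhom : ∀ a ∈ A, ∀ b ∈ A, (a * b) • w - w = (a • w - w) + (b • w - w) := by
      intro a ha b hb
      have h1 := c.quad a ha b hb w hwU
      rw [smul_sub] at h1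
      have h2 : (a * b) • w = a • w + (b • w - w) := by rw [mul_smul, ← h1]; abel
      rw [h2]
      abel
    let ψ : A →* Multiplicative (M ⧸ fx X L) :=
      { toFun := fun a => Multiplicative.ofAdd (((a : H) • w - w : M) : M ⧸ fx X L)
        map_one' := by simp
        map_mul' := fun a b => by
          rw [← ofAdd_add, ← QuotientAddGroup.mk_add]
          congr 2
          exact hhom a a.2 b b.2 }
    have hker : ψ.ker = (kA A L Z₁).subgroupOf A := by
      ext a
      rw [MonoidHom.mem_ker, Subgroup.mem_subgroupOf]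
      have h1 : ψ a = 1 ↔ ((a : H) • w - w : M) ∈ fx X L := by
        rw [← QuotientAddGroup.eq_zero_iff]
        exact Iff.rfl
      rw [h1]
      constructor
      · intro h
        by_contra hak
        have h2 := c.inj a a.2 hak w hwU h.2
        have h3 : w ∈ fx X A ⊓ fx X (cj x A) := ⟨⟨hw.1, h2⟩, hw⟩
        rw [hint hx hxne] at h3
        exact hwL h3
      · intro h
        rw [hk _ h w hw.1, sub_self]
        exact zero_mem _
    let T : AddSubgroup (M ⧸ fx X L) := (fx X A).map (QuotientAddGroup.mk' (fx X L))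
    have hT : Nat.card (fx X L) * Nat.card T = Nat.card (fx X A) := by
      rw [← card_mul_relIndex' hLA]
      congr 1
      have h1 := AddSubgroup.relIndex_ker (QuotientAddGroup.mk' (fx X L)) (K := fx X A)
      rw [QuotientAddGroup.ker_mk'] at h1
      exact h1.symm
    have hr : Nat.card (kA A L Z₁) * Nat.card ψ.range = Nat.card A := by
      have h1 : (kA A L Z₁) ≤ A := fun b hb => hb.1
      rw [← Subgroup.index_ker, hker, ← Subgroup.card_mul_index ((kA A L Z₁).subgroupOf A),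
        Nat.card_congr (Subgroup.subgroupOfEquivOfLe h1).toEquiv]
    have hle : ∀ y ∈ ψ.range, Multiplicative.toAdd y ∈ T := by
      rintro y ⟨a, rfl⟩
      exact ⟨(a : H) • w - w, ⟨sub_mem (hX _ (c.AL a.2) w hw.1) hw.1, fun b hb => c.quad b hb a a.2 w hwU⟩, rfl⟩
    have hcardle : Nat.card T ≤ Nat.card ψ.range := by
      have hp1 : 0 < Nat.card (kA A L Z₁) := Nat.card_pos
      have hp2 : 0 < Nat.card (fx X L) := Nat.card_pos
      have h1 : (Nat.card (kA A L Z₁) * Nat.card (fx X L)) * Nat.card T ≤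
          (Nat.card (kA A L Z₁) * Nat.card (fx X L)) * Nat.card ψ.range := by
        calc (Nat.card (kA A L Z₁) * Nat.card (fx X L)) * Nat.card T
            = (Nat.card (fx X L) * Nat.card T) * Nat.card (kA A L Z₁) := by ring
          _ = Nat.card (fx X A) * Nat.card (kA A L Z₁) := by rw [hT]
          _ ≤ Nat.card A * Nat.card (fx X L) := hq
          _ = (Nat.card (kA A L Z₁) * Nat.card ψ.range) * Nat.card (fx X L) := by rw [hr]
          _ = _ := by ring
      exact Nat.le_of_mul_le_mul_left h1 (Nat.mul_pos hp1 hp2)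
    have hinj : Function.Injective (fun y : ψ.range => (⟨Multiplicative.toAdd (y : Multiplicative (M ⧸ fx X L)),
        hle y y.2⟩ : T)) := by
      intro y y' h
      have : Multiplicative.toAdd (y : Multiplicative (M ⧸ fx X L)) =
          Multiplicative.toAdd (y' : Multiplicative (M ⧸ fx X L)) := congrArg (fun t : T => (t : M ⧸ fx X L)) h
      exact Subtype.ext (Multiplicative.toAdd.injective this)
    have hbij : Function.Bijective (fun y : ψ.range => (⟨Multiplicative.toAdd (y : Multiplicative (M ⧸ fx X L)),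
        hle y y.2⟩ : T)) :=
      (Nat.bijective_iff_injective_and_card _).2 ⟨hinj, le_antisymm (Nat.card_le_card_of_injective _ hinj) hcardle⟩
    obtain ⟨⟨y, a, rfl⟩, hy⟩ := hbij.2 ⟨((u : M) : M ⧸ fx X L), u, hu, rfl⟩
    refine ⟨a, a.2, ?_⟩
    have h1 : (((a : H) • w - w : M) : M ⧸ fx X L) = ((u : M) : M ⧸ fx X L) := congrArg Subtype.val hy
    rw [QuotientAddGroup.eq_iff_sub_mem] at h1
    exact h1
  -- transitivity
  have hRfix : ∀ {r : M}, r ∈ fx X L → ∀ l ∈ L, l • r = r := fun hr => hr.2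
  have hRmem : ∀ {l : H}, l ∈ L → ∀ {y : M}, l • y ∈ fx X L → y ∈ fx X L := by
    intro l hl y hy
    have h1 := hRfix hy l⁻¹ (L.inv_mem hl)
    rw [inv_smul_smul] at h1
    rw [h1]
    exact hy
  -- `w := d • v'`
  have hw : d • v' ∈ fx X (cj d A) := hmemcj hd hv'
  have hwL : d • v' ∉ fx X L := fun h => hvL' (hRmem hd h)
  obtain ⟨a, ha, ha'⟩ := hsurj hd hdne _ hw hwL v hv
  -- symmetric version
  have hdi : d⁻¹ • Z₁ ≠ Z₁ := by
    intro h
    rw [inv_smul_eq_iff] at h
    exact hdne h.symm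
  have hw2 : d⁻¹ • v ∈ fx X (cj d⁻¹ A) := hmemcj (L.inv_mem hd) hv
  have hw2L : d⁻¹ • v ∉ fx X L := fun h => hvL (hRmem (L.inv_mem hd) h)
  obtain ⟨a₁, ha₁, ha₁'⟩ := hsurj (L.inv_mem hd) hdi _ hw2 hw2L v' hv'
  -- `(d a₁) d⁻¹ v ≡ v + d v'` and `a d v' ≡ v + d v'`
  have e1 : (d * a₁ * d⁻¹) • v - v - d • v' ∈ fx X L := by
    have h1 := hRfix ha₁' d hd
    have h2 : (d * a₁ * d⁻¹) • v - v - d • v' = d • (a₁ • d⁻¹ • v - d⁻¹ • v - v') := by
      rw [smul_sub, smul_sub, smul_inv_smul, mul_smul, mul_smul]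
    rw [h2, h1]
    exact ha₁'
  have hda : d * a₁ * d⁻¹ ∈ L := L.mul_mem (L.mul_mem hd (c.AL ha₁)) (L.inv_mem hd)
  have haL := c.AL ha
  -- so `(a d)⁻¹ (d a₁ d⁻¹) v ≡ v'`
  have e2 : (d * a₁ * d⁻¹) • v - a • d • v' ∈ fx X L := by
    have h1 := sub_mem e1 ha'
    have h2 : (d * a₁ * d⁻¹) • v - v - d • v' - (a • d • v' - d • v' - v) =
        (d * a₁ * d⁻¹) • v - a • d • v' := by abel
    rwa [h2] at h1
  have hg : (a * d)⁻¹ * (d * a₁ * d⁻¹) ∈ L := L.mul_mem (L.inv_mem (L.mul_mem haL hd)) hda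
  have e3 : ((a * d)⁻¹ * (d * a₁ * d⁻¹)) • v - v' ∈ fx X L := by
    apply hRmem (L.mul_mem haL hd)
    have h2 : (a * d) • (((a * d)⁻¹ * (d * a₁ * d⁻¹)) • v - v') = (d * a₁ * d⁻¹) • v - a • d • v' := by
      rw [smul_sub, ← mul_smul, mul_inv_cancel_left, mul_smul a d v']
    rw [h2]
    exact e2
  refine ⟨_, hg, ?_, e3⟩
  by_contra hgne
  set g := (a * d)⁻¹ * (d * a₁ * d⁻¹) with hgdef
  have h1 : g • v ∈ fx X A := by
    have := add_mem (hLA e3) hv'
    rwa [sub_add_cancel] at this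
  have h2 : g • v ∈ fx X A ⊓ fx X (cj g A) := ⟨h1, hmemcj hg hv⟩
  rw [hint hg hgne] at h2
  exact hvL (hRmem hg h2)

end Core

end Cfsg.Agent.Omega.OM.YThm.Two
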