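import Cfsg.Agent.Omega.OM.YThm.Basic
import Cfsg.Agent.Omega.OM.YThm.Sum
import Cfsg.Agent.Omega.OM.YThm.TwoDec

/-!
# THEOREM Y, part B2: (b8) and `|A : kA| = 2`

* `core` : the facts (b1)-(b6) as `Core`; `exists_dcm` : the decomposition of `Z₁`;
* `Core.kA_fix` : `kA` centralises `l • Y i` if an odd element of `L₀` moves `Y i`;
* `Core.mod_step` : every element of `C_X(A)` is congruent to an element of some `Y l` modulo `C_X(L)`;
* `YS.card_eq`.
-/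

set_option autoImplicit false

namespace Cfsg.Agent.Omega.OM.YThm.Two

open Subgroup Cfsg.Agent.ZN Cfsg.Agent.ZN.ChoiceBase Cfsg.Agent.ZN.ChoiceSit
open scoped Pointwise

variable {H : Type*} [Group H] {M : Type*} [AddCommGroup M] [DistribMulAction H M]

/-- an element of odd order of `L₀` moves `Y i` -/
def Mv (L : Subgroup H) (Z₁ : AddSubgroup M) {ι : Type*} (Y : ι → AddSubgroup M) (i : ι) : Prop :=
  ∃ h ∈ L, h • Z₁ = Z₁ ∧ Odd (orderOf h) ∧ h • Y i ≠ Y i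

/-- the submodule generated by the moved components -/
def XX (L : Subgroup H) (Z₁ : AddSubgroup M) {ι : Type*} (Y : ι → AddSubgroup M) : AddSubgroup M :=
  AddSubgroup.closure {u | ∃ l ∈ L, ∃ i, Mv L Z₁ Y i ∧ ∃ y ∈ Y i, u = l • y}

section

variable {A L : Subgroup H} {Z₁ U : AddSubgroup M} {ι : Type*} [Fintype ι] {Y : ι → AddSubgroup M}

omit [Fintype ι] in
theorem Mv.smul {i j : ι} (hi : Mv L Z₁ Y i) {l : H} (hl : l ∈ L) (hlZ : l • Z₁ = Z₁) (hij : l • Y i = Y j) :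
    Mv L Z₁ Y j := by
  obtain ⟨h, hh, hhZ, ho, hne⟩ := hi
  have hlZ' : l⁻¹ • Z₁ = Z₁ := by rw [inv_smul_eq_iff, hlZ]
  have hj : l⁻¹ • Y j = Y i := by rw [← hij, inv_smul_smul]
  refine ⟨l * h * l⁻¹, L.mul_mem (L.mul_mem hl hh) (L.inv_mem hl), ?_, ?_, ?_⟩
  · rw [mul_smul, mul_smul, hlZ', hhZ, hlZ]
  · have : orderOf (l * h * l⁻¹) = orderOf h := by
      have := orderOf_injective (MulAut.conj l).toMonoidHom (MulAut.conj l).injective h
      simpa using this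
    rw [this]
    exact ho
  · intro e
    apply hne
    rw [mul_smul, mul_smul, hj, ← hij] at e
    exact smul_left_cancel l e

omit [Fintype ι] in
theorem XX_smul {l : H} (hl : l ∈ L) {x : M} (hx : x ∈ XX L Z₁ Y) : l • x ∈ XX L Z₁ Y := by
  refine AddSubgroup.closure_induction (p := fun x _ => l • x ∈ XX L Z₁ Y) ?_ ?_ ?_ ?_ hx
  · rintro _ ⟨m, hm, i, hi, y, hy, rfl⟩
    exact AddSubgroup.subset_closure ⟨l * m, L.mul_mem hl hm, i, hi, y, hy, (mul_smul _ _ _).symm⟩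
  · rw [smul_zero]; exact zero_mem _
  · intro x y _ _ h1 h2
    rw [smul_add]; exact add_mem h1 h2
  · intro x _ h1
    rw [smul_neg]; exact neg_mem h1

omit [Fintype ι] in
theorem mem_XX {i : ι} (hi : Mv L Z₁ Y i) {y : M} (hy : y ∈ Y i) : y ∈ XX L Z₁ Y :=
  AddSubgroup.subset_closure ⟨1, L.one_mem, i, hi, y, hy, (one_smul H y).symm⟩

namespace Core

theorem XX_le (c : Core A L Z₁ U) (D : Dcm Z₁ H Y) : XX L Z₁ Y ≤ U := by
  rw [XX, AddSubgroup.closure_le]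
  rintro _ ⟨l, hl, i, _, y, hy, rfl⟩
  exact c.pt l hl y (D.le i hy)

theorem kA_fix (c : Core A L Z₁ U) (D : Dcm Z₁ H Y) {i : ι} (hi : Mv L Z₁ Y i) {b : H} (hb : b ∈ kA A L Z₁)
    {l : H} (hl : l ∈ L) {y : M} (hy : y ∈ Y i) : b • l • y = l • y := by
  obtain ⟨h, hh, hhZ, ho, hne⟩ := hi
  have hr := c.sub b hb l hl y (D.le i hy)
  set b₀ := l⁻¹ * b * l with hb₀
  have hb₀Z : b₀ • Z₁ = Z₁ := by
    rw [hb₀, mul_smul, mul_smul, hb.2 l hl, inv_smul_smul]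
  have hrl : b₀ • y - y = b • l • y - l • y := by
    have h1 := hr.2 l⁻¹ (L.inv_mem hl)
    rw [smul_sub, inv_smul_smul] at h1
    rw [hb₀, mul_smul, mul_smul]
    exact h1
  rw [← hrl] at hr
  obtain ⟨σ, hσ⟩ := D.exists_perm hhZ
  have hσi : σ i ≠ i := fun e => hne (by rw [hσ, e])
  obtain ⟨j, hj⟩ := D.prm b₀ hb₀Z i
  have hby : b₀ • y ∈ Y j := by
    rw [← hj]
    exact AddSubgroup.smul_mem_pointwise_smul _ _ _ hy
  have hz : b₀ • y - y = 0 := by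
    by_cases hij : i = j
    · subst hij
      exact D.single hσ hσi (sub_mem hby hy) (hr.2 h hh)
    · have h1 : h • (-y + b₀ • y) = -y + b₀ • y := by
        have := hr.2 h hh
        rwa [sub_eq_neg_add] at this
      have h2 := D.pair hσ ho hσi (neg_mem hy) hby h1 hij
      rw [neg_eq_zero] at h2
      rw [h2, smul_zero, sub_zero]
  rw [hrl] at hz
  exact sub_eq_zero.1 hz

theorem kA_fix_XX (c : Core A L Z₁ U) (D : Dcm Z₁ H Y) {b : H} (hb : b ∈ kA A L Z₁) {x : M}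
    (hx : x ∈ XX L Z₁ Y) : b • x = x := by
  refine AddSubgroup.closure_induction (p := fun x _ => b • x = x) ?_ ?_ ?_ ?_ hx
  · rintro _ ⟨m, hm, i, hi, y, hy, rfl⟩
    exact c.kA_fix D hi hb hm hy
  · rw [smul_zero]
  · intro x y _ _ h1 h2
    rw [smul_add, h1, h2]
  · intro x _ h1
    rw [smul_neg, h1]

theorem mem_fxA (c : Core A L Z₁ U) (D : Dcm Z₁ H Y) {i : ι} (hi : Mv L Z₁ Y i) {y : M} (hy : y ∈ Y i) :
    y ∈ fx (XX L Z₁ Y) A := ⟨mem_XX hi hy, fun a ha => c.cen a ha y (D.le i hy)⟩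

/-- every element of `C_X(A)` is congruent to an element of some moved `Y l` modulo `C_X(L)` -/
theorem mod_step [Finite H] [Finite M] (c : Core A L Z₁ U) (D : Dcm Z₁ H Y)
    (ff : ∀ X : AddSubgroup M, (∀ a ∈ A, ∀ x ∈ X, a • x ∈ X) →
      Nat.card X * Nat.card (ct A X) ≤ Nat.card A * Nat.card (fx X A))
    {i : ι} (hi : Mv L Z₁ Y i) {v : M} (hv : v ∈ fx (XX L Z₁ Y) A) :
    ∃ l : ι, Mv L Z₁ Y l ∧ ∃ w ∈ Y l, v - w ∈ fx (XX L Z₁ Y) L := by
  by_cases hvL : v ∈ fx (XX L Z₁ Y) L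
  · exact ⟨i, hi, 0, zero_mem _, by rwa [sub_zero]⟩
  · obtain ⟨h, hh, hhZ, ho, hne⟩ := id hi
    obtain ⟨σ, hσ⟩ := D.exists_perm hhZ
    have hσi : σ i ≠ i := fun e => hne (by rw [hσ, e])
    obtain ⟨y, hy, hy0⟩ := D.nz i
    have hyL : y ∉ fx (XX L Z₁ Y) L := fun hc => hy0 (D.single hσ hσi hy (hc.2 h hh))
    obtain ⟨g, hg, hgZ, hgv⟩ := c.trans (c.XX_le D) (fun l hl x hx => XX_smul hl hx)
      (fun b hb x hx => c.kA_fix_XX D hb hx) (ff _ fun a ha x hx => XX_smul (c.AL ha) hx)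
      (c.mem_fxA D hi hy) hv hyL hvL
    obtain ⟨j, hj⟩ := D.prm g hgZ i
    refine ⟨j, hi.smul hg hgZ hj, g • y, ?_, ?_⟩
    · rw [← hj]
      exact AddSubgroup.smul_mem_pointwise_smul _ _ _ hy
    · have := neg_mem hgv
      rwa [neg_sub] at this

/-- (b8), the end: no `Y i` of order `≥ 4` is moved -/
theorem false_of_mv [Finite H] [Finite M] (c : Core A L Z₁ U) (D : Dcm Z₁ H Y)
    (ff : ∀ X : AddSubgroup M, (∀ a ∈ A, ∀ x ∈ X, a • x ∈ X) →
      Nat.card X * Nat.card (ct A X) ≤ Nat.card A * Nat.card (fx X A))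
    {i : ι} (h4 : 4 ≤ Nat.card (Y i)) (hi : Mv L Z₁ Y i) : False := by
  obtain ⟨h, hh, hhZ, ho, hne⟩ := id hi
  obtain ⟨σ, hσ⟩ := D.exists_perm hhZ
  have hσi : σ i ≠ i := fun e => hne (by rw [hσ, e])
  have hMj : Mv L Z₁ Y (σ i) := hi.smul hh hhZ (hσ i)
  obtain ⟨x, hx, hx0⟩ := D.nz i
  obtain ⟨y, hy, hy0⟩ := D.nz (σ i)
  obtain ⟨x', hx', hx'0, hx'x⟩ := Dcm.exists_ne₂ h4 x
  have key : ∀ x ∈ Y i, x ≠ 0 → ∃ w ∈ Y (σ (σ i)), x + y - w ∈ fx (XX L Z₁ Y) L := by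
    intro x hx hx0
    obtain ⟨l, _, w, hw, hr⟩ := c.mod_step D ff hi (add_mem (c.mem_fxA D hi hx) (c.mem_fxA D hMj hy))
    have h1 : h • (x + y + -w) = x + y + -w := by
      have := hr.2 h hh
      rwa [sub_eq_add_neg] at this
    have h2 := D.triple hσ ho rfl hσi.symm hx hy (neg_mem hw) hx0 hy0 h1
    subst h2
    exact ⟨w, hw, hr⟩
  obtain ⟨w, hw, hr⟩ := key x hx hx0
  obtain ⟨w', hw', hr'⟩ := key x' hx' hx'0
  have h1 := (sub_mem hr hr').2 h hh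
  have e : x + y - w - (x' + y - w') = (x - x') + (w' - w) := by abel
  rw [e] at h1
  have h2 := D.pair hσ ho hσi (sub_mem hx hx') (sub_mem hw' hw) h1 (fun e => hσi (D.no_swap hσ ho rfl e.symm).symm)
  exact hx'x (sub_eq_zero.1 h2).symm

end Core

end

/-! ### the plug -/

variable {𝒜 : Set (Subgroup H)} {S : Subgroup H} {Z : AddSubgroup M} {A J₀ L : Subgroup H} {Z₁ : AddSubgroup M}
  {ι : Type*} [Fintype ι] {Zi : ι → AddSubgroup M}

theorem core (h : YS0 𝒜 S Zi Z) (d : LD 𝒜 S Z A J₀ L Z₁) : Core A L Z₁ (UU L Z₁) where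
  two := h.two
  el := h.el A d.mem
  AL := d.AL
  cen := d.cen
  ne := d.ne
  pt := fun _ hl _ hz => smul_mem_UU hl hz
  fixA := fun _ hu _ hx hx' h1 h2 => d.fix1 hx hx' hu h1 h2
  ker := fun _ hu h1 h2 => d.ker hu (fun l hl => ⟨hl, sub_mem (smul_UU hl hu) hu, fun m hm => h2 l hl m hm⟩)
    L.one_mem (fun b hb => by rw [one_mul, inv_one, mul_one]; exact h1 b hb)
  inj := fun _ ha hk _ hu h1 => d.fix_all ha hk hu (d.comm_zero ha hk hu h1)
  ti := fun _ ha _ hx hx' h1 => d.ti ha hx hx' h1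
  sub := fun _ hb l hl _ hz => d.kA_mem hb hl (AddSubgroup.smul_mem_pointwise_smul _ l _ hz)
  quad := fun _ ha _ hb _ hu => d.quadU ha hb hu

theorem exists_smul_eq [Finite H] (h : YS0 𝒜 S Zi Z) (d : LD 𝒜 S Z A J₀ L Z₁) : ∃ g : H, g • Z = Z₁ := by
  have h1 : A ≤ normalizer (J₀ : Set H) := fun a ha => mem_normalizer_iff_cj.2 (d.JN a (d.AL ha))
  have h2 : IsPGroup 2 (A ⊔ J₀ : Subgroup H) := (h.el A d.mem).pg.to_sup_of_normal_right' d.J2 h1
  obtain ⟨g, -, hg⟩ := d.syl (A ⊔ J₀) le_sup_left le_sup_right (sup_le d.AL d.JL) h2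
  exact ⟨g, hg⟩

theorem dcm (h : YS0 𝒜 S Zi Z) (hnz : ∀ i, ∃ x ∈ Zi i, x ≠ 0) {g : H} (hg : g • Z = Z₁) :
    Dcm Z₁ H (fun i => g • Zi i) where
  le := fun i => by
    rw [← hg, AddSubgroup.pointwise_smul_le_pointwise_smul_iff]
    exact h.ZiZ i
  dec := fun z hz => by
    rw [← hg, AddSubgroup.mem_pointwise_smul_iff_inv_smul_mem] at hz
    obtain ⟨f, hf, e⟩ := h.dec _ hz
    refine ⟨fun i => g • f i, fun i => AddSubgroup.smul_mem_pointwise_smul _ _ _ (hf i), ?_⟩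
    rw [← Finset.smul_sum, ← e, smul_inv_smul]
  uni := fun f hf hs i => by
    have h1 := h.uni (fun i => g⁻¹ • f i) (fun i => by
      rw [← AddSubgroup.mem_pointwise_smul_iff_inv_smul_mem]; exact hf i) (by
      rw [← Finset.smul_sum, hs, smul_zero]) i
    exact (smul_eq_zero_iff_eq _).1 h1
  nz := fun i => by
    obtain ⟨x, hx, hx0⟩ := hnz i
    exact ⟨g • x, AddSubgroup.smul_mem_pointwise_smul _ _ _ hx, fun e => hx0 ((smul_eq_zero_iff_eq _).1 e)⟩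
  prm := fun k hk i => by
    have h1 : (g⁻¹ * k * g) • Z = Z := by rw [mul_smul, mul_smul, hg, hk, ← hg, inv_smul_smul]
    obtain ⟨j, hj⟩ := h.prm _ h1 i
    refine ⟨j, ?_⟩
    rw [← hj, mul_smul, mul_smul, smul_inv_smul]
  odd := fun k hk ho i hi z hz => by
    have h1 : (g⁻¹ * k * g) • Z = Z := by rw [mul_smul, mul_smul, hg, hk, ← hg, inv_smul_smul]
    have h2 : Odd (orderOf (g⁻¹ * k * g)) := by
      have e : orderOf (g⁻¹ * k * g) = orderOf k := by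
        have := orderOf_injective (MulAut.conj g⁻¹).toMonoidHom (MulAut.conj g⁻¹).injective k
        simpa using this
      rw [e]
      exact ho
    have h3 : (g⁻¹ * k * g) • Zi i = Zi i := by rw [mul_smul, mul_smul, hi, inv_smul_smul]
    rw [AddSubgroup.mem_pointwise_smul_iff_inv_smul_mem] at hz
    have h4 := h.odd _ h1 h2 i h3 _ hz
    rw [mul_smul, mul_smul, smul_inv_smul] at h4
    exact smul_left_cancel _ h4

/-- if `|A : kA| ≥ 4` then some component of `Z₁` is moved by an odd element of `L₀` -/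
theorem exists_mv [Finite H] [Finite M] (h : YS0 𝒜 S Zi Z) (hnz : ∀ i, ∃ x ∈ Zi i, x ≠ 0)
    (d : LD 𝒜 S Z A J₀ L Z₁) {g : H} (hg : g • Z = Z₁) (h4 : 4 * Nat.card (kA A L Z₁) ≤ Nat.card A) :
    ∃ i, Mv L Z₁ (fun i => g • Zi i) i := by
  obtain ⟨l, hl, hlZ, ho, z, hz, hne⟩ := Sum.exists_odd h.two (h.el A d.mem) d
    (fun a ha x hx hx' e => d.ti ha hx hx' e) h4
  by_contra hc
  push Not at hc
  apply hne
  have D := dcm h hnz hg
  obtain ⟨f, hf, rfl⟩ := D.dec z hz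
  rw [Finset.smul_sum]
  refine Finset.sum_congr rfl fun i _ => ?_
  refine D.odd l hlZ ho i ?_ _ (hf i)
  by_contra hm
  exact hc i ⟨l, hl, hlZ, ho, hm⟩

end Cfsg.Agent.Omega.OM.YThm.Two

namespace Cfsg.Agent.Omega.OM.YThm

open Subgroup Cfsg.Agent.ZN Cfsg.Agent.ZN.ChoiceBase Cfsg.Agent.ZN.ChoiceSit
open scoped Pointwise

variable {H : Type*} [Group H] {M : Type*} [AddCommGroup M] [DistribMulAction H M]
  {𝒜 : Set (Subgroup H)} {S : Subgroup H} {Z V : AddSubgroup M} {A J₀ L : Subgroup H} {Z₁ : AddSubgroup M}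
  {ι : Type*} [Fintype ι] {Zi : ι → AddSubgroup M}

/-- **(B)** -/
theorem YS.card_eq [Finite H] [Finite M] (h : YS 𝒜 S Zi Z V) (d : LD 𝒜 S Z A J₀ L Z₁) :
    Nat.card A = 2 * Nat.card (kA A L Z₁) := by
  by_contra hne
  have hle : kA A L Z₁ ≤ A := fun b hb => hb.1
  have h1 : Nat.card (kA A L Z₁) * (kA A L Z₁).relIndex A = Nat.card A := by
    rw [← Subgroup.relIndex_bot_left, ← Subgroup.relIndex_bot_left,
      Subgroup.relIndex_mul_relIndex _ _ _ bot_le hle]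
  obtain ⟨n, hn⟩ : ∃ n, (kA A L Z₁).relIndex A = 2 ^ n := (h.el A d.mem).pg.index _
  rw [hn] at h1
  have hnz : ∀ i, ∃ x ∈ Zi i, x ≠ 0 := fun i => by
    obtain ⟨x, hx, hx0, -⟩ := Two.Dcm.exists_ne₂ (h.four i) (0 : M)
    exact ⟨x, hx, hx0⟩
  rcases n with _ | _ | n
  · rw [pow_zero, mul_one] at h1
    exact d.not_le_kA (Subgroup.eq_of_le_of_card_ge hle h1.ge).ge
  · apply hne
    rw [← h1]
    ring
  · have h4 : 4 * Nat.card (kA A L Z₁) ≤ Nat.card A := by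
      rw [← h1, pow_add, mul_comm 4]
      refine Nat.mul_le_mul_left _ ?_
      have : 1 ≤ 2 ^ n := Nat.one_le_two_pow
      omega
    obtain ⟨g, hg⟩ := Two.exists_smul_eq h.toYS0 d
    obtain ⟨i, hi⟩ := Two.exists_mv h.toYS0 hnz d hg h4
    have h5 : 4 ≤ Nat.card (g • Zi i : AddSubgroup M) := by
      refine (h.four i).trans (Nat.card_le_card_of_injective
        (fun y : Zi i => (⟨g • (y : M), AddSubgroup.smul_mem_pointwise_smul _ _ _ y.2⟩ : (g • Zi i : AddSubgroup M)))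
        fun y y' e => ?_)
      have e' : g • (y : M) = g • (y' : M) := congrArg Subtype.val e
      exact Subtype.ext (smul_left_cancel g e')
    exact (Two.core h.toYS0 d).false_of_mv (Two.dcm h.toYS0 hnz hg) (h.ff A d.mem) h5 hi

end Cfsg.Agent.Omega.OM.YThm
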