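import Cfsg.Agent.Omega.OM.YThm.Min
import Cfsg.Agent.Omega.OM.YThm.Two
import Cfsg.Agent.Omega.OM.YThm.End

/-!
# THEOREM Y: the companion for the case `(4F)`

`Z = η = ∏ ⟨z i⟩`, `ZJ ≥ Z` (`YX`).  If `|A : kA| ≥ 4` then `|A : kA| = 4`, an odd element `h` of `L₀` is a 3-cycle on
three of the `z i`, and it normalises `ZJ^g = C(L) η^g` with a commutator of order `≤ 4`: against `YX.big`.
So `|A| = 2 |kA|` and there is a hyperplane `R` of `ZJ` whose centralizer moves `Z`.

* `YX.card_eq`, `YX.main`.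
-/

set_option autoImplicit false

namespace Cfsg.Agent.Omega.OM.YThm.X

open Subgroup Cfsg.Agent.ZN Cfsg.Agent.ZN.ChoiceBase Cfsg.Agent.ZN.ChoiceSit Cfsg.Agent.Omega.OM.YThm.Two
open scoped Pointwise

variable {H : Type*} [Group H] {M : Type*} [AddCommGroup M] [DistribMulAction H M]

/-- a subgroup of index `≤ 4` in case all elements are congruent to one of four -/
theorem card_le_four [Finite M] {R K : AddSubgroup M} (a b c : M)
    (h : ∀ x ∈ K, x ∈ R ∨ x - a ∈ R ∨ x - b ∈ R ∨ x - c ∈ R) : Nat.card K ≤ 4 * Nat.card R := by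
  classical
  have h1 : Nat.card K ≤ Nat.card (Fin 4 × R) := by
    let p : Fin 4 → M := ![0, a, b, c]
    have hp : ∀ x : K, ∃ q : Fin 4 × R, (x : M) = p q.1 + q.2 := by
      intro x
      rcases h x x.2 with h0 | h0 | h0 | h0
      · exact ⟨(0, ⟨x, h0⟩), by simp [p]⟩
      · exact ⟨(1, ⟨_, h0⟩), by simp [p]⟩
      · exact ⟨(2, ⟨_, h0⟩), by simp [p]⟩
      · exact ⟨(3, ⟨_, h0⟩), by simp [p]⟩
    choose q hq using hp
    refine Nat.card_le_card_of_injective q fun x y hxy => ?_
    ext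
    rw [hq x, hq y, hxy]
  rwa [Nat.card_prod, Nat.card_fin] at h1

/-- the converse: a subgroup of index `≤ 4` and four distinct classes -/
theorem exists_class [Finite M] {R K : AddSubgroup M} (hRK : R ≤ K) (hc : Nat.card K ≤ 4 * Nat.card R) {a b : M}
    (ha : a ∈ K) (hb : b ∈ K) (haR : a ∉ R) (hbR : b ∉ R) (habR : a + b ∉ R) (two : ∀ x : M, x + x = 0)
    {x : M} (hx : x ∈ K) : ∃ e : M, (e = 0 ∨ e = a ∨ e = b ∨ e = a + b) ∧ x - e ∈ R := by
  classical
  by_contra hcon
  push Not at hcon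
  have hsub : ∀ u v : M, u - v = u + v := fun u v => by
    rw [sub_eq_add_neg, neg_eq_of_add_eq_zero_left (two v)]
  -- five classes
  let p : Fin 5 → M := ![0, a, b, a + b, x]
  have hpK : ∀ i, p i ∈ K := by
    intro i
    fin_cases i
    · exact zero_mem _
    · exact ha
    · exact hb
    · exact add_mem ha hb
    · exact hx
  have x0 : x ∉ R := by simpa using hcon 0 (Or.inl rfl)
  have xa : x + a ∉ R := by simpa [hsub] using hcon a (Or.inr (Or.inl rfl))
  have xb : x + b ∉ R := by simpa [hsub] using hcon b (Or.inr (Or.inr (Or.inl rfl)))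
  have xab : x + (a + b) ∉ R := by simpa [hsub] using hcon (a + b) (Or.inr (Or.inr (Or.inr rfl)))
  have hinj : ∀ i j, i ≠ j → p i + p j ∉ R := by
    have e1 : a + (a + b) = b := by rw [← add_assoc, two, zero_add]
    have e2 : b + (a + b) = a := by rw [add_comm a b, ← add_assoc, two, zero_add]
    have key : ∀ i j, i < j → p i + p j ∉ R := by
      intro i j hij
      fin_cases i <;> fin_cases j <;> first
        | exact absurd hij (by decide)
        | simpa [p] using haR
        | simpa [p] using hbR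
        | simpa [p] using habR
        | simpa [p] using x0
        | (simp only [p]; simpa [e1] using hbR)
        | (simp only [p]; simpa [e2] using haR)
        | (simp only [p]; simpa [add_comm] using xa)
        | (simp only [p]; simpa [add_comm] using xb)
        | (simp only [p]; rw [add_comm]; simpa using xab)
    intro i j hij
    rcases lt_or_gt_of_ne hij with h | h
    · exact key i j h
    · rw [add_comm]
      exact key j i h
  have h1 : Nat.card (Fin 5 × R) ≤ Nat.card K := by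
    refine Nat.card_le_card_of_injective
      (fun q : Fin 5 × R => (⟨p q.1 + q.2, add_mem (hpK q.1) (hRK q.2.2)⟩ : K)) fun q q' hqq => ?_
    have h2 : p q.1 + (q.2 : M) = p q'.1 + q'.2 := congrArg Subtype.val hqq
    have h3 : q.1 = q'.1 := by
      by_contra hne
      apply hinj _ _ hne
      have h4 : p q.1 + p q'.1 = (q.2 : M) + q'.2 := by
        have h5 : p q.1 = p q'.1 + q'.2 - q.2 := eq_sub_of_add_eq h2
        rw [h5, hsub]
        have : p q'.1 + (q'.2 : M) + q.2 + p q'.1 = (p q'.1 + p q'.1) + (q.2 + q'.2) := by abel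
        rw [this, two, zero_add]
      rw [h4]
      exact add_mem q.2.2 q'.2.2
    refine Prod.ext h3 ?_
    rw [h3] at h2
    exact Subtype.ext (add_left_cancel h2)
  rw [Nat.card_prod, Nat.card_fin] at h1
  have h6 : 0 < Nat.card R := Nat.card_pos
  omega

section

variable {A L : Subgroup H} {Z₁ U : AddSubgroup M} {ι : Type*} [Fintype ι] {Y : ι → AddSubgroup M}

/-- `|A : kA| ≤ |C_X(A) : C_X(L)|` -/
theorem card_mul_le [Finite H] [Finite M] (c : Core A L Z₁ U) {X : AddSubgroup M} (hXU : X ≤ U)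
    (hX : ∀ l ∈ L, ∀ x ∈ X, l • x ∈ X) {v : M} (hv : v ∈ fx X A) (hvL : v ∉ fx X L) :
    Nat.card A * Nat.card (fx X L) ≤ Nat.card (kA A L Z₁) * Nat.card (fx X A) := by
  classical
  obtain ⟨d, hd, hdne⟩ := c.ne
  set w := d • v with hw
  have hwX : w ∈ X := hX d hd v hv.1
  have hwU := hXU hwX
  have hwA : ∀ a ∈ A, (d * a * d⁻¹) • w = w := by
    intro a ha
    rw [hw, mul_smul, mul_smul, inv_smul_smul, hv.2 a ha]
  have hwL : w ∉ fx X L := by
    intro h
    apply hvL
    have h1 := h.2 d⁻¹ (L.inv_mem hd)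
    rw [hw, inv_smul_smul] at h1
    rw [h1]
    exact h
  have hhom : ∀ a ∈ A, ∀ b ∈ A, (a * b) • w - w = (a • w - w) + (b • w - w) := by
    intro a ha b hb
    have h1 := c.quad a ha b hb w hwU
    rw [smul_sub] at h1
    have h2 : (a * b) • w = a • w + (b • w - w) := by rw [mul_smul, ← h1]; abel
    rw [h2]
    abel
  let ψ : A →* Multiplicative (M ⧸ fx X L) :=
    { toFun := fun a => Multiplicative.ofAdd (((a : H) • w - w : M) : M ⧸ fx X L)
      map_one' := by simp
      map_mul' := fun a b => by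
        rw [← ofAdd_add, ← QuotientAddGroup.mk_add]
        congr 2
        exact hhom a a.2 b b.2 }
  have hkle : (kA A L Z₁) ≤ A := fun b hb => hb.1
  have hker : ψ.ker ≤ (kA A L Z₁).subgroupOf A := by
    intro a ha
    rw [MonoidHom.mem_ker] at ha
    rw [Subgroup.mem_subgroupOf]
    have h1 : ((a : H) • w - w : M) ∈ fx X L := by
      rw [← QuotientAddGroup.eq_zero_iff]
      exact ha
    by_contra hak
    have h2 := c.inj a a.2 hak w hwU h1.2
    exact hwL ⟨hwX, c.fixA w hwU d hd hdne h2 hwA⟩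
  let T : AddSubgroup (M ⧸ fx X L) := (fx X A).map (QuotientAddGroup.mk' (fx X L))
  have hLA : fx X L ≤ fx X A := fun x hx => ⟨hx.1, fun a ha => hx.2 a (c.AL ha)⟩
  have hT : Nat.card (fx X L) * Nat.card T = Nat.card (fx X A) := by
    rw [← card_mul_relIndex' hLA]
    congr 1
    have h1 := AddSubgroup.relIndex_ker (QuotientAddGroup.mk' (fx X L)) (K := fx X A)
    rw [QuotientAddGroup.ker_mk'] at h1
    exact h1.symm
  have hle : ∀ y ∈ ψ.range, Multiplicative.toAdd y ∈ T := by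
    rintro y ⟨a, rfl⟩
    exact ⟨(a : H) • w - w, ⟨sub_mem (hX _ (c.AL a.2) w hwX) hwX, fun b hb => c.quad b hb a a.2 w hwU⟩, rfl⟩
  have hinj : Nat.card ψ.range ≤ Nat.card T := by
    refine Nat.card_le_card_of_injective (fun y : ψ.range =>
      (⟨Multiplicative.toAdd (y : Multiplicative (M ⧸ fx X L)), hle y y.2⟩ : T)) fun y y' h => ?_
    have : Multiplicative.toAdd (y : Multiplicative (M ⧸ fx X L)) =
        Multiplicative.toAdd (y' : Multiplicative (M ⧸ fx X L)) := congrArg (fun t : T => (t : M ⧸ fx X L)) h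
    exact Subtype.ext (Multiplicative.toAdd.injective this)
  have hr : Nat.card A ≤ Nat.card (kA A L Z₁) * Nat.card ψ.range := by
    have h1 : Nat.card ψ.ker * Nat.card ψ.range = Nat.card A := by
      rw [← Subgroup.index_ker, Subgroup.card_mul_index]
    have h2 : Nat.card ψ.ker ≤ Nat.card (kA A L Z₁) := by
      refine (Subgroup.card_le_of_le hker).trans ?_
      rw [Nat.card_congr (Subgroup.subgroupOfEquivOfLe hkle).toEquiv]
    rw [← h1]
    exact Nat.mul_le_mul_right _ h2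
  calc Nat.card A * Nat.card (fx X L)
      ≤ (Nat.card (kA A L Z₁) * Nat.card T) * Nat.card (fx X L) :=
        Nat.mul_le_mul_right _ (hr.trans (Nat.mul_le_mul_left _ hinj))
    _ = Nat.card (kA A L Z₁) * (Nat.card (fx X L) * Nat.card T) := by ring
    _ = _ := by rw [hT]

/-- the three vectors `y_i`, `y_j`, `y_k` of a 3-cycle, and `|C_X(A) : C_X(L)| ≤ 4` -/
theorem three [Finite H] [Finite M] (c : Core A L Z₁ U) (D : Dcm Z₁ H Y) (two : ∀ i, Nat.card (Y i) = 2)
    (ff : ∀ X : AddSubgroup M, (∀ a ∈ A, ∀ x ∈ X, a • x ∈ X) →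
      Nat.card X * Nat.card (ct A X) ≤ Nat.card A * Nat.card (fx X A))
    {i : ι} {h : H} (hh : h ∈ L) (hhZ : h • Z₁ = Z₁) (ho : Odd (orderOf h)) (hne : h • Y i ≠ Y i) :
    Nat.card A ≤ 4 * Nat.card (kA A L Z₁) := by
  classical
  have hi : Mv L Z₁ Y i := ⟨h, hh, hhZ, ho, hne⟩
  obtain ⟨σ, hσ⟩ := D.exists_perm hhZ
  have hσi : σ i ≠ i := fun e => hne (by rw [hσ, e])
  have hMj : Mv L Z₁ Y (σ i) := hi.smul hh hhZ (hσ i)
  obtain ⟨x, hx, hx0⟩ := D.nz i
  obtain ⟨y, hy, hy0⟩ := D.nz (σ i)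
  set X := XX L Z₁ Y with hXdef
  set R := fx X L with hR
  -- elements of `Y m`
  have hY : ∀ (m : ι) (u u' : M), u ∈ Y m → u' ∈ Y m → u ≠ 0 → u' ≠ 0 → u = u' := by
    intro m u u' hu hu' hu0 hu0'
    by_contra hne
    have h1 : Nat.card (Fin 3) ≤ Nat.card (Y m) := by
      refine Nat.card_le_card_of_injective
        (![⟨0, zero_mem _⟩, ⟨u, hu⟩, ⟨u', hu'⟩] : Fin 3 → Y m) fun a b hab => ?_
      fin_cases a <;> fin_cases b <;> simp_all
    rw [two m, Nat.card_fin] at h1
    omega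
  -- the third vector
  obtain ⟨l, hl, w, hw, hr⟩ := c.mod_step D ff hi (add_mem (c.mem_fxA D hi hx) (c.mem_fxA D hMj hy))
  have hr' : h • (x + y + -w) = x + y + -w := by
    have := hr.2 h hh
    rwa [sub_eq_add_neg] at this
  have hlk := D.triple hσ ho rfl hσi.symm hx hy (neg_mem hw) hx0 hy0 hr'
  subst hlk
  have hsj : σ (σ i) ≠ σ i := fun e => hσi (σ.injective e)
  have hsi : σ (σ i) ≠ i := fun e => hσi (D.no_swap hσ ho rfl e).symm
  have hxR : x ∉ R := fun hc => hx0 (D.single hσ hσi hx (hc.2 h hh))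
  have hbound : Nat.card (fx X A) ≤ 4 * Nat.card R := by
    refine card_le_four x y w fun v hv => ?_
    obtain ⟨m, hm, u, hu, hvu⟩ := c.mod_step D ff hi hv
    by_cases hu0 : u = 0
    · left
      rwa [hu0, sub_zero] at hvu
    by_cases hmi : m = i
    · subst hmi
      right; left
      rwa [hY _ u x hu hx hu0 hx0] at hvu
    by_cases hmj : m = σ i
    · subst hmj
      right; right; left
      rwa [hY _ u y hu hy hu0 hy0] at hvu
    by_cases hmk : m = σ (σ i)
    · subst hmk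
      by_cases hw0 : w = 0
      · -- impossible: `x + y` is fixed by `h`
        exfalso
        rw [hw0, neg_zero, add_zero] at hr'
        exact hx0 (D.pair hσ ho hσi hx hy hr' hσi.symm)
      · right; right; right
        rwa [hY _ u w hu hw hu0 hw0] at hvu
    -- a fourth vector
    exfalso
    obtain ⟨m', hm', w', hw', hr2⟩ := c.mod_step D ff hi (add_mem (c.mem_fxA D hi hx) (c.mem_fxA D hm hu))
    have hr2' : h • (x + u - w') = x + u - w' := hr2.2 h hh
    let f : ι → M := fun k => (if k = i then x else 0) + (if k = m then u else 0) - (if k = m' then w' else 0)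
    have hf : ∀ k, f k ∈ Y k := by
      intro k
      refine sub_mem (add_mem ?_ ?_) ?_
      · by_cases h1 : k = i
        · subst h1; simpa using hx
        · simp [h1]
      · by_cases h1 : k = m
        · subst h1; simpa using hu
        · simp [h1]
      · by_cases h1 : k = m'
        · subst h1; simpa using hw'
        · simp [h1]
    have hs : ∑ k, f k = x + u - w' := by
      simp only [f, Finset.sum_add_distrib, Finset.sum_sub_distrib]
      simp
    rw [← hs] at hr2'
    by_cases hmi' : m' = i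
    · subst hmi'
      by_cases hw0' : w' = 0
      · have hfi : f m' ≠ 0 := by simpa [f, Ne.symm hmi, hw0'] using hx0
        have h1 := D.comp_ne hσ f hf hr2' hfi
        exact h1 (by simp [f, hσi, Ne.symm hmj])
      · -- `w' = x`, so `u ∈ R`
        rw [hY _ w' x hw' hx hw0' hx0] at hr2
        have e : x + u - x = u := by abel
        rw [e] at hr2
        obtain ⟨h', hh', hhZ', ho', hne'⟩ := hm
        obtain ⟨τ, hτ⟩ := D.exists_perm hhZ'
        exact hu0 (D.single hτ (fun e => hne' (by rw [hτ, e])) hu (hr2.2 h' hh'))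
    · have hfi : f i ≠ 0 := by simpa [f, Ne.symm hmi, Ne.symm hmi'] using hx0
      have h1 := D.comp_ne hσ f hf hr2' hfi
      have h2 : σ i = m' := by
        by_contra h2
        exact h1 (by simp [f, hσi, Ne.symm hmj, h2])
      have h3 := D.comp_ne hσ f hf hr2' h1
      refine h3 ?_
      have h4 : σ (σ i) ≠ m' := by rw [← h2]; exact hsj
      simp [f, hsi, Ne.symm hmk, h4]
  have h1 := card_mul_le c (c.XX_le D) (fun l hl x hx => XX_smul hl hx) (c.mem_fxA D hi hx) hxR
  have h2 : 0 < Nat.card R := Nat.card_pos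
  have h3 : Nat.card A * Nat.card R ≤ (4 * Nat.card (kA A L Z₁)) * Nat.card R := by
    calc Nat.card A * Nat.card R ≤ Nat.card (kA A L Z₁) * Nat.card (fx X A) := h1
      _ ≤ Nat.card (kA A L Z₁) * (4 * Nat.card R) := Nat.mul_le_mul_left _ hbound
      _ = _ := by ring
  exact Nat.le_of_mul_le_mul_right h3 h2

end

variable {𝒜 : Set (Subgroup H)} {S : Subgroup H} {Z ZJ V : AddSubgroup M} {A J₀ L : Subgroup H} {Z₁ : AddSubgroup M}
  {ι : Type*} [Fintype ι] {Zi : ι → AddSubgroup M}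

theorem nz (h : YX 𝒜 S Zi Z ZJ V) [Finite M] (i : ι) : ∃ x ∈ Zi i, x ≠ 0 := by
  by_contra hc
  push Not at hc
  have h1 : Nat.card (Zi i) ≤ Nat.card (Fin 1) :=
    Nat.card_le_card_of_injective (fun _ => (0 : Fin 1)) fun x y _ => Subtype.ext (by rw [hc x x.2, hc y y.2])
  rw [h.twoi i, Nat.card_fin] at h1
  omega

/-- `J₀` centralises the `ZJ`-conjugates of its Sylow groups -/
theorem cenJJ (h : YX 𝒜 S Zi Z ZJ V) (hJ : Min.JJ 𝒜 J₀ = J₀) (g : H) (hg : J₀ ≤ cj g S) :
    ∀ j ∈ J₀, ∀ z ∈ g • ZJ, j • z = z := by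
  intro j hj z hz
  have h1 : Min.JJ 𝒜 J₀ ≤ MulAction.stabilizer H z := by
    refine Min.JJ_le_iff.2 fun B hB hBJ b hb => ?_
    rw [MulAction.mem_stabilizer_iff]
    have h2 : g⁻¹ • z ∈ ZJ := AddSubgroup.mem_pointwise_smul_iff_inv_smul_mem.1 hz
    have h3 := h.cenJ (cj g⁻¹ B) (h.cjA B hB _) (by
      have := cj_mono g⁻¹ (hBJ.trans hg)
      rwa [cj_inv_cj] at this) (g⁻¹ * b * g) (by
        rw [mem_cj, inv_inv]
        have e : g * (g⁻¹ * b * g) * g⁻¹ = b := by group
        rwa [e]) _ h2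
    rw [mul_smul, mul_smul, smul_inv_smul] at h3
    exact smul_left_cancel _ h3
  rw [hJ] at h1
  exact MulAction.mem_stabilizer_iff.1 (h1 hj)

theorem card_smul_Y (g : H) (P : AddSubgroup M) : Nat.card (g • P : AddSubgroup M) = Nat.card P := EndC.card_smul g P

theorem orderOf_cj (g h : H) : orderOf (g * h * g⁻¹) = orderOf h := by
  have := orderOf_injective (MulAut.conj g).toMonoidHom (MulAut.conj g).injective h
  simpa using this

/-- the case `|A : kA| ≥ 4` is impossible -/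
theorem false_of_four [Finite H] [Finite M] (h : YX 𝒜 S Zi Z ZJ V) (d : LD 𝒜 S Z A J₀ L Z₁)
    (hJ : Min.JJ 𝒜 J₀ = J₀) (h4 : 4 * Nat.card (kA A L Z₁) ≤ Nat.card A) : False := by
  classical
  have h0 := h.toYS0
  have hcard : Nat.card A ≤ 4 * Nat.card (kA A L Z₁) := by
    obtain ⟨g, hg⟩ := exists_smul_eq h0 d
    obtain ⟨i, t, ht, htZ, hto, htne⟩ := exists_mv h0 (nz h) d hg h4
    exact three (core h0 d) (dcm h0 (nz h) hg) (fun i => by
      rw [card_smul_Y]
      exact h.twoi i) (h.ff A d.mem) ht htZ hto htne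
  obtain ⟨g, -, -, hg, hgL⟩ := EndC.core h0 d h.ZZJ h.ZV h.cenJ h.lemV
    (fun g hgJ _ _ _ => cenJJ h hJ g hgJ) hcard
  obtain ⟨i, t, ht, htZ, hto, htne⟩ := exists_mv h0 (nz h) d hg h4
  have D := dcm h0 (nz h) hg
  obtain ⟨σ, hσ⟩ := D.exists_perm htZ
  have hσi : σ i ≠ i := fun e => htne (by
    have := hσ i
    rw [e] at this
    exact this)
  obtain ⟨x, hx, hx0⟩ := D.nz i
  obtain ⟨y, hy, hy0⟩ := D.nz (σ i)
  obtain ⟨l, hl, hlne⟩ := d.ne
  have hle := hgL l hl hlne
  set K : AddSubgroup M := (l * g) • ZJ with hK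
  set R : AddSubgroup M := fx K L with hR
  have hRK : R ≤ K := fun _ hr => hr.1
  have hZK : ∀ z ∈ Z₁, l • z ∈ K := by
    intro z hz
    rw [hK, mul_smul]
    refine AddSubgroup.smul_mem_pointwise_smul _ _ _ ?_
    rw [← hg] at hz
    rw [AddSubgroup.mem_pointwise_smul_iff_inv_smul_mem] at hz ⊢
    exact h.ZZJ hz
  have hfixR : ∀ {z : M}, l • z ∈ R → t • z = z := by
    intro z hz
    have h1 := hz.2 l⁻¹ (L.inv_mem hl)
    rw [inv_smul_smul] at h1
    have h2 := hz.2 t ht
    rwa [← h1] at h2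
  have hxR : l • x ∉ R := fun hc => hx0 (D.single hσ hσi hx (hfixR hc))
  have hyR : l • y ∉ R := fun hc => hy0 (D.single hσ (fun e => hσi (σ.injective e)) hy (hfixR hc))
  have hxyR : l • x + l • y ∉ R := by
    intro hc
    rw [← smul_add] at hc
    exact hx0 (D.pair hσ hto hσi hx hy (hfixR hc) hσi.symm)
  -- `t' = l t l⁻¹` normalises `K`
  have htK : ∀ z ∈ K, (l * t * l⁻¹) • z ∈ K ∧ ∀ r ∈ R, (l * t * l⁻¹) • r = r := by
    intro z hz
    have htL : l * t * l⁻¹ ∈ L := L.mul_mem (L.mul_mem hl ht) (L.inv_mem hl)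
    refine ⟨?_, fun r hr => hr.2 _ htL⟩
    obtain ⟨e, he, hze⟩ := exists_class hRK hle (hZK x (D.le i hx)) (hZK y (D.le _ hy)) hxR hyR hxyR h.two hz
    have he' : ∃ u ∈ Z₁, e = l • u := by
      rcases he with he | he | he | he
      · exact ⟨0, zero_mem _, by rw [he, smul_zero]⟩
      · exact ⟨x, D.le i hx, he⟩
      · exact ⟨y, D.le _ hy, he⟩
      · exact ⟨x + y, add_mem (D.le i hx) (D.le _ hy), by rw [he, smul_add]⟩
    obtain ⟨u, hu, rfl⟩ := he'
    have h1 : (l * t * l⁻¹) • z = (z - l • u) + l • t • u := by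
      have h2 := hze.2 _ htL
      rw [smul_sub, sub_eq_iff_eq_add] at h2
      rw [h2, mul_smul, mul_smul, inv_smul_smul]
    rw [h1]
    refine add_mem hze.1 (hZK _ ?_)
    have := AddSubgroup.smul_mem_pointwise_smul _ t _ hu
    rwa [htZ] at this
  set s : H := g⁻¹ * t * g with hs
  have hsZ : s • Z = Z := by rw [hs, mul_smul, mul_smul, hg, htZ, ← hg, inv_smul_smul]
  have hsconj : s = (l * g)⁻¹ * (l * t * l⁻¹) * (l * g) := by rw [hs]; group
  have hsmem : ∀ z ∈ ZJ, s • z ∈ ZJ := by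
    intro z hz
    have h1 : (l * g) • z ∈ K := AddSubgroup.smul_mem_pointwise_smul _ _ _ hz
    have h2 := (htK _ h1).1
    rw [hsconj, mul_smul, mul_smul]
    rwa [hK, AddSubgroup.mem_pointwise_smul_iff_inv_smul_mem] at h2
  have hsZJ : s • ZJ = ZJ := by
    have h1 : s • ZJ ≤ ZJ := by
      intro z hz
      rw [AddSubgroup.mem_pointwise_smul_iff_inv_smul_mem] at hz
      have := hsmem _ hz
      rwa [smul_inv_smul] at this
    exact AddSubgroup.eq_of_le_of_card_ge h1 (card_smul_Y s ZJ).ge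
  have hso : Odd (orderOf s) := by
    have := orderOf_cj g⁻¹ t
    rw [inv_inv] at this
    rw [hs, this]
    exact hto
  have hsne : ∃ i, s • Zi i ≠ Zi i := by
    refine ⟨i, fun e => htne ?_⟩
    rw [hs, mul_smul, mul_smul, inv_smul_eq_iff] at e
    exact e
  have hbig := h.big s hsZ hsZJ hso hsne
  have h5 : Nat.card R ≤ Nat.card (fx ZJ (zpowers s)) := by
    have h6 : ∀ r : R, (l * g)⁻¹ • (r : M) ∈ fx ZJ (zpowers s) := by
      intro r
      refine ⟨AddSubgroup.mem_pointwise_smul_iff_inv_smul_mem.1 r.2.1, fun b hb => ?_⟩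
      have h7 : zpowers s ≤ MulAction.stabilizer H ((l * g)⁻¹ • (r : M)) := by
        rw [zpowers_le, MulAction.mem_stabilizer_iff, hsconj, mul_smul, mul_smul, smul_inv_smul]
        rw [(htK _ r.2.1).2 _ r.2]
      exact MulAction.mem_stabilizer_iff.1 (h7 hb)
    refine Nat.card_le_card_of_injective (fun r : R => (⟨_, h6 r⟩ : fx ZJ (zpowers s))) fun r r' e => ?_
    have e' : (l * g)⁻¹ • (r : M) = (l * g)⁻¹ • (r' : M) := congrArg Subtype.val e
    exact Subtype.ext (smul_left_cancel _ e')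
  have h6 : Nat.card K = Nat.card ZJ := card_smul_Y _ _
  rw [h6] at hle
  omega

end Cfsg.Agent.Omega.OM.YThm.X

namespace Cfsg.Agent.Omega.OM.YThm

open Subgroup Cfsg.Agent.ZN Cfsg.Agent.ZN.ChoiceBase Cfsg.Agent.ZN.ChoiceSit
open scoped Pointwise

universe u

section

variable {H : Type*} [Group H] {M : Type*} [AddCommGroup M] [DistribMulAction H M]
  {𝒜 : Set (Subgroup H)} {S : Subgroup H} {Z ZJ V : AddSubgroup M} {A J₀ L : Subgroup H} {Z₁ : AddSubgroup M}
  {ι : Type*} [Fintype ι] {Zi : ι → AddSubgroup M}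

/-- `|A : kA| = 2`, case `(4F)` -/
theorem YX.card_eq [Finite H] [Finite M] (h : YX 𝒜 S Zi Z ZJ V) (d : LD 𝒜 S Z A J₀ L Z₁)
    (hJ : Min.JJ 𝒜 J₀ = J₀) : Nat.card A = 2 * Nat.card (kA A L Z₁) := by
  by_contra hne
  have hle : kA A L Z₁ ≤ A := fun b hb => hb.1
  have h1 : Nat.card (kA A L Z₁) * (kA A L Z₁).relIndex A = Nat.card A := by
    rw [← Subgroup.relIndex_bot_left, ← Subgroup.relIndex_bot_left,
      Subgroup.relIndex_mul_relIndex _ _ _ bot_le hle]
  obtain ⟨n, hn⟩ : ∃ n, (kA A L Z₁).relIndex A = 2 ^ n := (h.el A d.mem).pg.index _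
  rw [hn] at h1
  rcases n with _ | _ | n
  · rw [pow_zero, mul_one] at h1
    exact d.not_le_kA (Subgroup.eq_of_le_of_card_ge hle h1.ge).ge
  · apply hne
    rw [← h1]
    ring
  · refine X.false_of_four h d hJ ?_
    rw [← h1, pow_add, mul_comm 4]
    refine Nat.mul_le_mul_left _ ?_
    have : 1 ≤ 2 ^ n := Nat.one_le_two_pow
    omega

end

/-- **THEOREM Y, the companion for `(4F)`**: `Z = η` is `H`-invariant or there is `R ≤ ZJ` of index `≤ 2` such that
some element of `H` fixes `R` pointwise and moves `Z`. -/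
theorem YX.main {H : Type u} [Group H] [Finite H] {M : Type*} [AddCommGroup M] [Finite M] [DistribMulAction H M]
    {𝒜 : Set (Subgroup H)} {S : Subgroup H} {ι : Type*} [Fintype ι] {Zi : ι → AddSubgroup M}
    {Z ZJ V : AddSubgroup M} (h : YX 𝒜 S Zi Z ZJ V) :
    (∀ g : H, g • Z = Z) ∨ ∃ R : AddSubgroup M, R ≤ ZJ ∧ Nat.card ZJ ≤ 2 * Nat.card R ∧
      ∃ g : H, (∀ r ∈ R, g • r = r) ∧ g • Z ≠ Z := by
  by_cases hne : ∃ g : H, g • Z ≠ Z
  · right
    obtain ⟨A, J₀, L, Z₁, d, hJ⟩ := h.toYS0.exists_ld_jj hne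
    exact EndC.end_pair h.toYS0 d h.ZZJ h.ZV h.cenJ h.lemV (fun g hgJ _ _ _ => X.cenJJ h hJ g hgJ) (h.card_eq d hJ).le
  · left
    push Not at hne
    exact hne

end Cfsg.Agent.Omega.OM.YThm
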