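import Cfsg.Agent.Omega.OM.YThm.PlugC
import Cfsg.Agent.Omega.OM.YThm.End8D
import Cfsg.Agent.Omega.OM.YThm.X

/-!
# THEOREM Y, plug of the companion `YX`, stage `-1`

`z ∈ Ω₁(Z(S))`, `z ≠ 1`, `z = ∏ z i` with `z i ∈ Z i`; `η = ∏ ⟨z i⟩`.  Then `C_G(Ω₁(Z(S))) ⊆ C_G(η) N_G(Z_J)` (`|F| ≥ 4`).

* `sm` : the sum of subgroups; `Fc` : the components; `Dt.yx` : the situation `YX`;
* `Dt.eta` : the result in `G`.
-/

set_option autoImplicit false
set_option linter.unusedSectionVars false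

namespace Cfsg.Agent.Omega.OM.YThm.Plug

open Subgroup Cfsg Cfsg.Agent.ZN.ChoiceBase Cfsg.Agent.ZN.ChoiceSit
open Cfsg.Agent.ZN (jj zj bau zc zl o2)
open Cfsg.Agent.Lib.SL2Mat Cfsg.Agent.Omega.NatPair
open Cfsg.Agent.Omega.FFThm (NatK SymK ActsSL)
open Cfsg.Agent.Omega.FrameFF (cv)
open Cfsg.Agent.Omega.FrameNOFF (CZ)
open Cfsg.Agent.Omega.NO3S (HypJ Hyp WW)
open Cfsg.Agent.Omega.OM.YThm.MW
open Cfsg.Agent.Omega.OM.YThm.Two (Dcm)
open scoped Pointwise

universe u

section sm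

variable {M : Type*} [AddCommGroup M] {ι : Type*} [Fintype ι]

/-- the sum of the `Y i` -/
def sm (Y : ι → AddSubgroup M) : AddSubgroup M where
  carrier := {x | ∃ f : ι → M, (∀ i, f i ∈ Y i) ∧ x = ∑ i, f i}
  zero_mem' := ⟨fun _ => 0, fun i => zero_mem _, by simp⟩
  add_mem' := by
    rintro _ _ ⟨f, hf, rfl⟩ ⟨g, hg, rfl⟩
    exact ⟨fun i => f i + g i, fun i => add_mem (hf i) (hg i), by rw [Finset.sum_add_distrib]⟩
  neg_mem' := by
    rintro _ ⟨f, hf, rfl⟩
    exact ⟨fun i => - f i, fun i => neg_mem (hf i), by rw [Finset.sum_neg_distrib]⟩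

theorem mem_sm {Y : ι → AddSubgroup M} {x : M} :
    x ∈ sm Y ↔ ∃ f : ι → M, (∀ i, f i ∈ Y i) ∧ x = ∑ i, f i := Iff.rfl

theorem le_sm (Y : ι → AddSubgroup M) (i : ι) : Y i ≤ sm Y := by
  classical
  intro x hx
  refine ⟨fun j => if j = i then x else 0, fun j => ?_, by simp⟩
  by_cases h : j = i
  · subst h; simpa using hx
  · simp [h]

theorem sm_le {Y : ι → AddSubgroup M} {X : AddSubgroup M} (h : ∀ i, Y i ≤ X) : sm Y ≤ X := by
  rintro _ ⟨f, hf, rfl⟩
  exact X.sum_mem fun i _ => h i (hf i)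

variable {H : Type*} [Group H] [DistribMulAction H M]

theorem smul_sm {Y : ι → AddSubgroup M} {g : H} {σ : Equiv.Perm ι} (h : ∀ i, g • Y i = Y (σ i)) :
    g • sm Y = sm Y := by
  have key : ∀ (g : H) (σ : Equiv.Perm ι), (∀ i, g • Y i = Y (σ i)) → g • sm Y ≤ sm Y := by
    intro g σ h x hx
    rw [AddSubgroup.mem_pointwise_smul_iff_inv_smul_mem] at hx
    obtain ⟨f, hf, he⟩ := hx
    have h1 : x = ∑ i, g • f i := by
      rw [← Finset.smul_sum, ← he, smul_inv_smul]
    rw [h1]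
    refine (sm Y).sum_mem fun i _ => le_sm Y (σ i) ?_
    rw [← h i]
    exact AddSubgroup.smul_mem_pointwise_smul _ _ _ (hf i)
  refine le_antisymm (key g σ h) ?_
  have h2 := key g⁻¹ σ⁻¹ fun i => by
    rw [inv_smul_eq_iff, h, Equiv.Perm.inv_def, Equiv.apply_symm_apply]
  intro x hx
  rw [AddSubgroup.mem_pointwise_smul_iff_inv_smul_mem]
  exact h2 (AddSubgroup.smul_mem_pointwise_smul _ _ _ hx)

end sm

theorem card_mul_rel {G : Type u} [Group G] {K K' : Subgroup G} (h : K ≤ K') :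
    Nat.card K * K.relIndex K' = Nat.card K' := by
  rw [← Subgroup.relIndex_bot_left, ← Subgroup.relIndex_bot_left, Subgroup.relIndex_mul_relIndex _ _ _ bot_le h]

/-- Frattini: `g` normalises `K ≥ B`. -/
theorem frat' {G : Type u} [Group G] [Finite G] (S : Sylow 2 G) {K : Subgroup G} (hB : bau (S : Subgroup G) ≤ K)
    {g : G} (hg : cj g K = K) :
    ∃ a ∈ K, ∃ b ∈ normalizer (zj (S : Subgroup G) : Set G), g = a * b := by
  obtain ⟨T, hT, hBT⟩ := exists_syl (S.isPGroup'.to_le (bau_le _)) hB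
  have h2 : Syl (cj g T) K := by
    refine ⟨?_, isPGroup_cj g hT.2.1, fun Q hQ hp hle => ?_⟩
    · rw [← hg]; exact cj_mono g hT.1
    · have h3 : cj g⁻¹ Q ≤ K := by
        rw [← cj_inv_cj g K, hg]; exact cj_mono _ hQ
      have h4 := hT.2.2 (cj g⁻¹ Q) h3 (isPGroup_cj _ hp) (cj_le_iff.1 hle)
      rw [← h4, cj_cj_inv]
  obtain ⟨d, hd, e⟩ := syl_conj hT h2
  have h5 : cj (d⁻¹ * g) T = T := by rw [← cj_cj, ← e, cj_inv_cj]
  refine ⟨d, hd, d⁻¹ * g, ?_, by group⟩
  rw [mem_normalizer_iff_cj, ← LemmaK.Main.zj_eq S hT.2.1 hBT, ← zj_cj, h5]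

variable {G : Type u} [Group G] [Finite G] {S : Sylow 2 G} {P : Subgroup G} {F : Type} [Field F] [Finite F]
  [CharP F 2] {k : ℕ} {N : NatK F (S : Subgroup G) P (zl (S : Subgroup G) P) (cv (S : Subgroup G) P) k}
  {L W Z C A : Fin k → Subgroup G} (D : Dt S P N L W Z C A)

theorem Dt.card_ZZi (i : Fin k) : Nat.card (ZZi D i) = Nat.card F := by
  rw [card_ad (show Z i ≤ WW (S : Subgroup G) P from fun x hx => D.Z_le_W (D.mem_Z'.1 hx).1),
    D.line.fr.cardZ i]

/-- `Z_J = ⊕ Z i` -/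
theorem Dt.dcm (hq : 4 ≤ Nat.card F) : Dcm (ZZ D) (CZ (S : Subgroup G)) (ZZi D) where
  le := D.ZiZ
  dec := D.dec
  uni := D.uni
  nz := fun i => by
    by_contra hc
    push Not at hc
    have h1 : ZZi D i = ⊥ := (AddSubgroup.eq_bot_iff_forall _).2 hc
    have h2 := D.card_ZZi i
    rw [h1, AddSubgroup.card_bot] at h2
    omega
  prm := D.prm
  odd := D.odd

/-- the components of an involution of `Ω₁(Z(S))` -/
structure Fc (D : Dt S P N L W Z C A) (f : Fin k → Md D) : Prop where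
  mem : ∀ i, f i ∈ ZZi D i
  ne : ∀ i, f i ≠ 0
  fix : ∀ g : CZ (S : Subgroup G), g • ∑ i, f i = ∑ i, f i

theorem Dt.exists_fc (hq : 4 ≤ Nat.card F) : ∃ f : Fin k → Md D, Fc D f := by
  have dc := D.dcm hq
  obtain ⟨z, hz, hz1⟩ : ∃ z ∈ zc (S : Subgroup G), z ≠ 1 := by
    by_contra hc
    push Not at hc
    exact zc_ne_bot S.isPGroup' D.line.S_ne ((Subgroup.eq_bot_iff_forall _).2 hc)
  have hzj : z ∈ zj (S : Subgroup G) := zc_le_zj _ hz
  have hzW := D.Z_le_W hzj
  set zM : Md D := MW.mk _ ⟨z, hzW⟩ with hzM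
  have hvl : vl zM = z := rfl
  have hfix : ∀ g : CZ (S : Subgroup G), g • zM = zM := fun g =>
    (smul_eq_iff _ _).2 (mem_centralizer_iff.1 g.2 z hz).symm
  obtain ⟨f, hf, he⟩ := D.dec zM hzj
  have hfix' : ∀ g : CZ (S : Subgroup G), g • ∑ i, f i = ∑ i, f i := fun g => by rw [← he, hfix]
  refine ⟨f, hf, ?_, hfix'⟩
  obtain ⟨i, hi⟩ : ∃ i, f i ≠ 0 := by
    by_contra hc
    push Not at hc
    apply hz1
    rw [← hvl, he, Finset.sum_eq_zero fun i _ => hc i, vl_zero]
  intro j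
  obtain ⟨s, hs, hsij⟩ := D.tr i j
  have hZW : ∀ i, Z i ≤ WW (S : Subgroup G) P := fun i x hx => D.Z_le_W (D.mem_Z'.1 hx).1
  set s' : CZ (S : Subgroup G) := ⟨s, S_le_CZ S hs⟩ with hs'
  have h1 : s' • ZZi D i = ZZi D j := (smul_ad_eq_iff _ (hZW i) (hZW j)).2 hsij
  have h2 : s' • ZZ D = ZZ D :=
    D.smulZ.2 (cj_eq_of_mem_normalizer (Dich.norm_zj _ (Line.S_le S hs)))
  obtain ⟨σ, hσ⟩ := dc.exists_perm h2
  have h3 : σ i = j := dc.Y_inj (by rw [← hσ, h1])
  have h4 := dc.comp_ne hσ f hf (hfix' s') hi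
  rwa [h3] at h4

/-- `⟨z i⟩` -/
abbrev Zf {D : Dt S P N L W Z C A} (f : Fin k → Md D) (i : Fin k) : AddSubgroup (Md D) :=
  AddSubgroup.zmultiples (f i)

/-- `η` -/
abbrev et {D : Dt S P N L W Z C A} (f : Fin k → Md D) : AddSubgroup (Md D) := sm (Zf f)

variable {D} {f : Fin k → Md D}

theorem mem_Zf {i : Fin k} {x : Md D} : x ∈ Zf f i ↔ x = 0 ∨ x = f i := by
  rw [AddSubgroup.mem_zmultiples_iff]
  constructor
  · rintro ⟨n, rfl⟩
    rcases Int.even_or_odd' n with ⟨m, rfl | rfl⟩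
    · left
      rw [mul_comm, mul_zsmul, two_zsmul, D.two', smul_zero]
    · right
      rw [add_zsmul, mul_comm, mul_zsmul, two_zsmul, D.two', smul_zero, zero_add, one_zsmul]
  · rintro (rfl | rfl)
    · exact ⟨0, zero_zsmul _⟩
    · exact ⟨1, one_zsmul _⟩

namespace Fc

theorem Zf_le (c : Fc D f) (i : Fin k) : Zf f i ≤ ZZi D i := by
  rw [AddSubgroup.zmultiples_le]
  exact c.mem i

theorem et_le (c : Fc D f) : et f ≤ ZZ D := sm_le fun i => (c.Zf_le i).trans (D.ZiZ i)

theorem card_Zf (c : Fc D f) (i : Fin k) : Nat.card (Zf f i) = 2 := by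
  rw [Nat.card_zmultiples]
  exact addOrderOf_eq_prime (by rw [two_nsmul]; exact D.two' _) (c.ne i)

/-- an element of `C` which normalises `Z_J` permutes the components -/
theorem perm (hq : 4 ≤ Nat.card F) (c : Fc D f) {g : CZ (S : Subgroup G)} (hg : g • ZZ D = ZZ D) :
    ∃ σ : Equiv.Perm (Fin k), (∀ i, g • ZZi D i = ZZi D (σ i)) ∧ ∀ i, g • f i = f (σ i) := by
  obtain ⟨σ, hσ⟩ := (D.dcm hq).exists_perm hg
  exact ⟨σ, hσ, (D.dcm hq).comp hσ f c.mem (c.fix g)⟩

theorem smul_Zf {g : CZ (S : Subgroup G)} {i j : Fin k} (h : g • f i = f j) : g • Zf f i = Zf f j := by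
  ext x
  rw [AddSubgroup.mem_pointwise_smul_iff_inv_smul_mem, mem_Zf, mem_Zf, inv_smul_eq_iff, inv_smul_eq_iff, smul_zero, h]

/-- `N_C(Z_J) ≤ N(η)` -/
theorem smul_et (hq : 4 ≤ Nat.card F) (c : Fc D f) {g : CZ (S : Subgroup G)} (hg : g • ZZ D = ZZ D) :
    g • et f = et f := by
  obtain ⟨σ, -, h2⟩ := c.perm hq hg
  exact smul_sm (σ := σ) fun i => smul_Zf (h2 i)

/-- `N_C(η) = C_C(η) N_C(Z_J)` -/
theorem fratEta (c : Fc D f) {g : CZ (S : Subgroup G)} (hg : g • et f = et f) :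
    ∃ a ∈ CZ (S : Subgroup G) ⊓ centralizer (gp (et f) : Set G),
      ∃ b ∈ normalizer (zj (S : Subgroup G) : Set G), (g : G) = a * b := by
  have hle : gp (et f) ≤ zj (S : Subgroup G) := by
    rintro _ ⟨x, hx, rfl⟩
    exact c.et_le hx
  refine frat' S (le_inf ((bau_le _).trans (S_le_CZ S)) ?_) ?_
  · exact (Dich.bau_le_cent _).trans (centralizer_le (by exact_mod_cast hle))
  · have h1 : cj (g : G) (gp (et f)) = gp (et f) := by
      have h2 := (smul_ad_eq_iff (h := wd D.line.hyp.toHyp) g (X := gp (et f)) (Y := gp (et f)) (gp_le _) (gp_le _)).1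
      rw [ad_gp] at h2
      exact h2 hg
    have e1 : cj (g : G) (CZ (S : Subgroup G)) = CZ (S : Subgroup G) := cj_eq_of_mem_normalizer (le_normalizer g.2)
    have e2 : cj (g : G) (centralizer (gp (et f) : Set G)) = centralizer (gp (et f) : Set G) := by
      rw [cj_centralizer, h1]
    rw [cj_inf, e1, e2]

theorem prm (hq : 4 ≤ Nat.card F) (c : Fc D f) {g : CZ (S : Subgroup G)} (hg : g • et f = et f) (i : Fin k) :
    ∃ j, g • f i = f j := by
  obtain ⟨a, ha, b, hb, e⟩ := c.fratEta hg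
  have hbC : b ∈ CZ (S : Subgroup G) := by
    have : b = a⁻¹ * g := by rw [e]; group
    rw [this]
    exact mul_mem (inv_mem ha.1) g.2
  have h1 : (⟨b, hbC⟩ : CZ (S : Subgroup G)) • ZZ D = ZZ D := D.smulZ.2 (cj_eq_of_mem_normalizer hb)
  obtain ⟨σ, -, h2⟩ := c.perm hq h1
  refine ⟨σ i, ?_⟩
  have h3 : g = (⟨a, ha.1⟩ : CZ (S : Subgroup G)) * ⟨b, hbC⟩ := Subtype.ext e
  rw [h3, mul_smul, h2]
  refine (smul_eq_iff _ _).2 (mem_centralizer_iff.1 ha.2 _ ?_).symm
  exact ⟨f (σ i), le_sm (Zf f) (σ i) (AddSubgroup.mem_zmultiples _), rfl⟩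

/-- `YX.big` -/
theorem big (hq : 4 ≤ Nat.card F) (c : Fc D f) (g : CZ (S : Subgroup G)) (hg : g • ZZ D = ZZ D)
    (ho : Odd (orderOf g)) (hne : ∃ i, g • Zf f i ≠ Zf f i) :
    4 * Nat.card (fx (ZZ D) (zpowers g)) < Nat.card (ZZ D) := by
  classical
  have dc := D.dcm hq
  obtain ⟨σ, hσ, hf⟩ := c.perm hq hg
  obtain ⟨i, hi⟩ := hne
  have hi' : σ i ≠ i := fun e => hi (by
    have := hf i
    rw [e] at this
    exact smul_Zf this)
  set j := σ i with hj
  set l := σ j with hl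
  have hlj : l ≠ j := fun e => hi' (σ.injective e)
  have hli : l ≠ i := fun e => hi' (dc.no_swap hσ ho rfl e).symm
  have hinj : Function.Injective fun x : fx (ZZ D) (zpowers g) × (ZZi D j × ZZi D l) =>
      (⟨(x.1 : Md D) + x.2.1 + x.2.2, add_mem (add_mem x.1.2.1 (D.ZiZ _ x.2.1.2)) (D.ZiZ _ x.2.2.2)⟩ : ZZ D) := by
    rintro ⟨v, a, b⟩ ⟨v', a', b'⟩ h
    have h1 : (v : Md D) + a + b = v' + a' + b' := congrArg Subtype.val h
    let f₀ : Fin k → Md D := fun m => (if m = j then (a' : Md D) - a else 0) + (if m = l then (b' : Md D) - b else 0)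
    have hf₀ : ∀ m, f₀ m ∈ ZZi D m := by
      intro m
      refine add_mem ?_ ?_
      · by_cases h2 : m = j
        · subst h2; simpa using sub_mem a'.2 a.2
        · simp [h2]
      · by_cases h2 : m = l
        · subst h2; simpa using sub_mem b'.2 b.2
        · simp [h2]
    have hs : ∑ m, f₀ m = (v : Md D) - v' := by
      have h3 : ∑ m, f₀ m = ((a' : Md D) - a) + (b' - b) := by
        simp only [f₀, Finset.sum_add_distrib]
        simp
      rw [h3]
      have h4 : (v : Md D) = v' + a' + b' - a - b := by rw [← h1]; abel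
      rw [h4]; abel
    have hr : g • ∑ m, f₀ m = ∑ m, f₀ m := by
      rw [hs, smul_sub, v.2.2 g (mem_zpowers g), v'.2.2 g (mem_zpowers g)]
    have h5 := dc.comp hσ f₀ hf₀ hr
    have h6 : f₀ i = 0 := by simp [f₀, hi'.symm, hli.symm]
    have h7 : f₀ j = 0 := by
      rw [hj, ← h5 i, h6, smul_zero]
    have h8 : f₀ l = 0 := by
      rw [hl, ← h5 j, h7, smul_zero]
    have h9 : (a' : Md D) - a = 0 := by simpa [f₀, hlj.symm] using h7
    have h10 : (b' : Md D) - b = 0 := by simpa [f₀, hlj] using h8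
    have ea : a = a' := Subtype.ext (sub_eq_zero.1 h9).symm
    have eb : b = b' := Subtype.ext (sub_eq_zero.1 h10).symm
    subst ea
    subst eb
    have ev : v = v' := Subtype.ext (add_right_cancel (add_right_cancel h1))
    rw [ev]
  have h1 := Nat.card_le_card_of_injective _ hinj
  rw [Nat.card_prod, Nat.card_prod, D.card_ZZi, D.card_ZZi] at h1
  have h2 : 0 < Nat.card (fx (ZZ D) (zpowers g)) := Nat.card_pos
  have h3 : 16 ≤ Nat.card F * Nat.card F := Nat.mul_le_mul hq hq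
  nlinarith [Nat.mul_le_mul_left (Nat.card (fx (ZZ D) (zpowers g))) h3]

/-- **The situation `YX`.** -/
theorem yx (hq : 4 ≤ Nat.card F) (c : Fc D f) : YX (FA S P) (SC S) (Zf f) (et f) (ZZ D) (VV D) := by
  have y := D.ys hq
  exact
    { two := y.two
      cjA := y.cjA
      el := y.el
      ff := y.ff
      rep := y.rep
      syl := y.syl
      det := fun g hg => c.smul_et hq (y.det g hg)
      cen := fun A hA hAS a ha z hz => y.cen A hA hAS a ha z (c.et_le hz)
      ZiZ := fun i => le_sm _ i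
      dec := fun z hz => hz
      uni := fun g hg h0 i => D.uni g (fun i => c.Zf_le i (hg i)) h0 i
      prm := fun g hg i => by
        obtain ⟨j, h1⟩ := c.prm hq hg i
        exact ⟨j, smul_Zf h1⟩
      odd := fun g _ _ i hi z hz => by
        rcases mem_Zf.1 hz with rfl | rfl
        · exact smul_zero g
        · have h1 : g • f i ∈ Zf f i := by
            rw [← hi]
            exact AddSubgroup.smul_mem_pointwise_smul _ _ _ (AddSubgroup.mem_zmultiples _)
          rcases mem_Zf.1 h1 with h2 | h2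
          · exact absurd ((smul_eq_zero_iff_eq g).1 h2) (c.ne i)
          · exact h2
      twoi := c.card_Zf
      ZZJ := c.et_le
      ZV := y.ZV
      cenJ := y.cen
      SV := y.SV
      big := fun g _ hg2 ho hne => c.big hq g hg2 ho hne
      lemV := D.lemV }

end Fc

variable (D)

include D in
/-- **THEOREM Y, companion.** `C_G(Ω₁(Z(S))) ⊆ C_G(η) N_G(Z_J)`. -/
theorem Dt.eta (hFF : FFThm.Stmt.{u}) (hq : 4 ≤ Nat.card F) :
    ∃ η : Subgroup G, η ≤ zj (S : Subgroup G) ∧ (∀ i, ∃ z ∈ Z i, z ≠ 1 ∧ z ∈ η) ∧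
      (∀ b ∈ normalizer (zj (S : Subgroup G) : Set G), b ∈ CZ (S : Subgroup G) → cj b η = η) ∧
      ∀ g ∈ CZ (S : Subgroup G), ∃ a ∈ CZ (S : Subgroup G) ⊓ centralizer (η : Set G),
        ∃ b ∈ normalizer (zj (S : Subgroup G) : Set G), g = a * b := by
  obtain ⟨f, c⟩ := D.exists_fc hq
  have hle : gp (et f) ≤ zj (S : Subgroup G) := by
    rintro _ ⟨x, hx, rfl⟩
    exact c.et_le hx
  refine ⟨gp (et f), hle, fun i => ⟨vl (f i), c.mem i, fun e => c.ne i (vl_inj e),
    ⟨f i, le_sm (Zf f) i (AddSubgroup.mem_zmultiples _), rfl⟩⟩, fun b hb hbC => ?_, fun g hg => ?_⟩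
  · have h1 := c.smul_et hq (g := ⟨b, hbC⟩) (D.smulZ.2 (cj_eq_of_mem_normalizer hb))
    have h2 := (smul_ad_eq_iff (h := wd D.line.hyp.toHyp) ⟨b, hbC⟩ (X := gp (et f)) (Y := gp (et f)) (gp_le _)
      (gp_le _)).1
    rw [ad_gp] at h2
    exact h2 h1
  rcases (c.yx hq).main with h | ⟨R, h1, h2, g', h3, h4⟩
  · exact c.fratEta (g := ⟨g, hg⟩) (h _)
  exfalso
  -- the hyperplane
  have hzc : zc (S : Subgroup G) ≤ zj (S : Subgroup G) := zc_le_zj _
  set R' : Subgroup G := gp R ⊔ zc (S : Subgroup G) with hR'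
  have hR'j : R' ≤ zj (S : Subgroup G) := sup_le (by
    rintro _ ⟨x, hx, rfl⟩
    exact h1 hx) hzc
  have hcR : Nat.card (zj (S : Subgroup G)) ≤ 2 * Nat.card R' := by
    have h5 : Nat.card R ≤ Nat.card R' := by
      rw [← card_gp R]
      exact Subgroup.card_le_of_le le_sup_left
    rw [← card_ad (h := wd D.line.hyp.toHyp) D.Z_le_W]
    exact h2.trans (Nat.mul_le_mul_left 2 h5)
  have hgR : (g' : G) ∈ centralizer (R' : Set G) := by
    have h6 : R' ≤ centralizer ({(g' : G)} : Set G) := by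
      refine sup_le ?_ ?_
      · rintro _ ⟨x, hx, rfl⟩
        rw [mem_centralizer_singleton_iff]
        exact ((smul_eq_iff _ _).1 (h3 x hx)).symm
      · intro z hz
        rw [mem_centralizer_singleton_iff]
        exact mem_centralizer_iff.1 g'.2 z hz
    rw [mem_centralizer_iff]
    intro r hr
    exact mem_centralizer_singleton_iff.1 (h6 hr)
  have hBR : bau (S : Subgroup G) ≤ centralizer (R' : Set G) :=
    (Dich.bau_le_cent _).trans (centralizer_le (by exact_mod_cast hR'j))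
  obtain ⟨T, hT, hBT⟩ := exists_syl (S.isPGroup'.to_le (bau_le _)) hBR
  by_cases hc : T ≤ centralizer (zj (S : Subgroup G) : Set G)
  · have h5 := (Dich.syl S).2.2 T hc hT.2.1 hBT
    rw [h5] at hT
    exact h4 (c.smul_et hq (D.smulZ.2 (cj_eq_of_mem_normalizer (D.line.c1 D.tr hFF le_sup_right hR'j hT hgR))))
  · rw [SetLike.le_def] at hc
    push Not at hc
    obtain ⟨t, ht, htc⟩ := hc
    have htR := hT.1 ht
    have htC : t ∈ CZ (S : Subgroup G) := centralizer_le (by exact_mod_cast (le_sup_right : zc (S : Subgroup G) ≤ R')) htR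
    have htB : t ∈ normalizer (bau (S : Subgroup G) : Set G) := Dich.two_le S hT.2.1 hBT ht
    set t' : CZ (S : Subgroup G) := ⟨t, htC⟩ with ht'
    have htZ : t' • ZZ D = ZZ D := D.smulZ.2 (cj_eq_of_mem_normalizer (Dich.norm_zj _ htB))
    obtain ⟨σ, hσ, hf⟩ := c.perm hq htZ
    have htR' : ∀ x : Md D, vl x ∈ R' → t' • x = x := fun x hx =>
      (smul_eq_iff _ _).2 (mem_centralizer_iff.1 htR _ hx).symm
    -- `t` fixes the indices
    have hσ1 : ∀ i, σ i = i := by
      intro i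
      by_contra hi
      have h5 : ∃ x ∈ ZZi D i, x ≠ 0 ∧ vl x ∈ R' := by
        by_contra hc
        push Not at hc
        have h6 : Nat.card (R' × Z i) ≤ Nat.card (zj (S : Subgroup G)) := by
          have hZj : ∀ x ∈ Z i, x ∈ zj (S : Subgroup G) := fun x hx => (D.mem_Z'.1 hx).1
          refine Nat.card_le_card_of_injective
            (fun x : R' × Z i => (⟨(x.1 : G) * x.2, mul_mem (hR'j x.1.2) (hZj _ x.2.2)⟩ : zj (S : Subgroup G))) ?_
          rintro ⟨r, x⟩ ⟨r', x'⟩ he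
          have h7 : (r : G) * x = r' * x' := congrArg Subtype.val he
          have h8 : (r' : G)⁻¹ * r = x' * (x : G)⁻¹ := by
            rw [eq_mul_inv_iff_mul_eq, mul_assoc, h7]; group
          have h9 : (x' : G) * (x : G)⁻¹ ∈ Z i := mul_mem x'.2 (inv_mem x.2)
          have h10 : (x' : G) * (x : G)⁻¹ ∈ R' := by
            rw [← h8]; exact mul_mem (inv_mem r'.2) r.2
          have h11 : (x' : G) * (x : G)⁻¹ = 1 := by
            by_contra hne
            have hW : (x' : G) * (x : G)⁻¹ ∈ WW (S : Subgroup G) P := D.Z_le_W (hZj _ h9)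
            exact hc (MW.mk _ ⟨_, hW⟩) h9 (fun e => hne (congrArg vl e)) h10
          have h12 : x' = x := Subtype.ext (mul_inv_eq_one.1 h11)
          subst h12
          exact Prod.ext (Subtype.ext (mul_right_cancel h7)) rfl
        rw [Nat.card_prod, D.line.fr.cardZ i] at h6
        have h7 : 0 < Nat.card R' := Nat.card_pos
        nlinarith
      obtain ⟨x, hx, hx0, hxR⟩ := h5
      exact hx0 ((D.dcm hq).single hσ hi hx (htR' x hxR))
    have htf : ∀ x ∈ et f, t' • x = x := by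
      rintro _ ⟨y, hy, rfl⟩
      rw [Finset.smul_sum]
      refine Finset.sum_congr rfl fun i _ => ?_
      rcases mem_Zf.1 (hy i) with h5 | h5
      · rw [h5, smul_zero]
      · rw [h5, hf, hσ1]
    -- `C_{Z_J}(t) = R'`
    have h5 : R' = zj (S : Subgroup G) ⊓ centralizer ({t} : Set G) := by
      have h6 : R' ≤ zj (S : Subgroup G) ⊓ centralizer ({t} : Set G) := le_inf hR'j fun r hr =>
        mem_centralizer_singleton_iff.2 (mem_centralizer_iff.1 htR r hr)
      by_contra hne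
      have h7 := card_mul_rel h6
      have h8 := card_mul_rel
        (inf_le_left : zj (S : Subgroup G) ⊓ centralizer ({t} : Set G) ≤ zj (S : Subgroup G))
      have h9 : R'.relIndex (zj (S : Subgroup G) ⊓ centralizer ({t} : Set G)) ≠ 1 := fun e =>
        hne (le_antisymm h6 (relIndex_eq_one.1 e))
      have h10 : (zj (S : Subgroup G) ⊓ centralizer ({t} : Set G)).relIndex (zj (S : Subgroup G)) ≠ 1 := by
        intro e
        apply htc
        rw [mem_centralizer_iff]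
        intro z hz
        exact mem_centralizer_singleton_iff.1 ((relIndex_eq_one.1 e) hz).2
      have h11 : R'.relIndex (zj (S : Subgroup G) ⊓ centralizer ({t} : Set G)) ≠ 0 := fun e => by
        rw [e, mul_zero] at h7
        exact Nat.card_pos.ne h7
      have h12 : (zj (S : Subgroup G) ⊓ centralizer ({t} : Set G)).relIndex (zj (S : Subgroup G)) ≠ 0 := fun e => by
        rw [e, mul_zero] at h8
        exact Nat.card_pos.ne h8
      have h13 : 0 < Nat.card R' := Nat.card_pos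
      set a := R'.relIndex (zj (S : Subgroup G) ⊓ centralizer ({t} : Set G))
      set b := (zj (S : Subgroup G) ⊓ centralizer ({t} : Set G)).relIndex (zj (S : Subgroup G))
      have h14 : Nat.card (zj (S : Subgroup G)) = Nat.card R' * a * b := by rw [h7, h8]
      have ha : 2 ≤ a := by omega
      have hb : 2 ≤ b := by omega
      have h15 : Nat.card R' * 4 ≤ Nat.card R' * a * b := by
        rw [mul_assoc]
        exact Nat.mul_le_mul_left _ (Nat.mul_le_mul ha hb)
      omega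
    -- `η ≤ R'`
    have h6 : ∀ x ∈ et f, vl x ∈ R' := by
      intro x hx
      rw [h5]
      refine ⟨c.et_le hx, mem_centralizer_singleton_iff.2 ?_⟩
      exact ((smul_eq_iff _ _).1 (htf x hx)).symm
    apply h4
    have h7 : ∀ x ∈ et f, g' • x = x := fun x hx =>
      (smul_eq_iff _ _).2 (mem_centralizer_iff.1 hgR _ (h6 x hx)).symm
    exact Min.smul_eq_of_fix h7

end Cfsg.Agent.Omega.OM.YThm.Plug
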