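import Cfsg.Agent.Omega.OM.Swap.Rep

/-!
# THEOREM Y, plug: the fields `ff` and `rep` at group level (helper359)

`A₀` is elementary abelian of maximal order `m`, `W` an elementary abelian 2-group normalised by `A₀`, `A W = A₀ W` and
`X ≤ W` is normalised by `A`.

* `ffG` : `|X| |C_A(X)| ≤ |A| |C_X(A)|`;
* `repG` : if `A` moves `X`, then there are `A' ≤ A` and `A₀'` of the same kind with `A' W = A₀' W`, `A'` moves `X` and
  `[X, A', A'] = 1`.

The hypothesis `hm` is `BlockUniq.Mx G m` written out.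
-/

set_option autoImplicit false

namespace Cfsg.Agent.Omega.OM.YThm.FfRep

open Subgroup Cfsg Cfsg.Agent.ZN Cfsg.Agent.ZN.ChoiceBase Cfsg.Agent.Omega.OM.Swap
open scoped Pointwise commutatorElement

universe u

variable {G : Type u} [Group G]

/-- `|H K : K| = |H : H ∩ K|` for `K` normalised by `H`. -/
theorem relIndex_sup_nm {K H : Subgroup G} (h : H ≤ normalizer (K : Set G)) : K.relIndex (H ⊔ K) = K.relIndex H := by
  have hKn : (K.subgroupOf (K ⊔ H)).Normal :=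
    normal_subgroupOf_of_le_normalizer (sup_le le_normalizer h)
  have h1 := relIndex_sup_left (H.subgroupOf (K ⊔ H)) (K.subgroupOf (K ⊔ H))
  rw [← Subgroup.subgroupOf_sup le_sup_left le_sup_right, Subgroup.subgroupOf_self,
    Subgroup.relIndex_subgroupOf le_sup_right, relIndex_top_right] at h1
  rw [sup_comm, ← h1]
  rfl

theorem nrm_cent {X : Subgroup G} : normalizer (X : Set G) ≤ normalizer ((centralizer (X : Set G) : Subgroup G) : Set G) := by
  intro s hs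
  have key : ∀ s ∈ normalizer (X : Set G), ∀ c ∈ centralizer (X : Set G), s * c * s⁻¹ ∈ centralizer (X : Set G) := by
    intro s hs c hc
    rw [mem_centralizer_iff] at hc ⊢
    intro x hx
    have h1 : s⁻¹ * x * s ∈ X := by
      have := (mem_normalizer_iff.1 (inv_mem hs) x).1 hx
      rwa [inv_inv] at this
    have h2 := hc _ h1
    calc x * (s * c * s⁻¹) = s * (s⁻¹ * x * s * c) * s⁻¹ := by group
      _ = s * (c * (s⁻¹ * x * s)) * s⁻¹ := by rw [h2]
      _ = s * c * s⁻¹ * x := by group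
  rw [mem_normalizer_iff]
  intro c
  refine ⟨key s hs c, fun h => ?_⟩
  have h3 := key s⁻¹ (inv_mem hs) _ h
  have h4 : s⁻¹ * (s * c * s⁻¹) * s⁻¹⁻¹ = c := by group
  rwa [h4] at h3

theorem mem_sup_nm {A B : Subgroup G} (h : A ≤ normalizer (B : Set G)) {g : G} (hg : g ∈ A ⊔ B) :
    ∃ a ∈ A, ∃ b ∈ B, g = a * b := by
  have h1 : g ∈ (A : Set G) * (B : Set G) := by
    rw [← coe_mul_of_left_le_normalizer_right A B h]
    exact hg
  obtain ⟨r, hr, b, hb, rfl⟩ := Set.mem_mul.1 h1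
  exact ⟨r, hr, b, hb, rfl⟩

theorem mem_sup_cm {A B : Subgroup G} (h : ∀ x ∈ A, ∀ y ∈ B, x * y = y * x) {g : G} (hg : g ∈ A ⊔ B) :
    ∃ a ∈ A, ∃ b ∈ B, g = a * b :=
  mem_sup_nm (fun a ha => (Subgroup.centralizer_le_normalizer _)
    (mem_centralizer_iff.2 fun b hb => (h a ha b hb).symm)) hg

variable {m : ℕ} {A₀ A W X : Subgroup G}

/-- `W` centralises `X ≤ W` -/
theorem W_cent (hW : IsElementaryAbelian 2 W) (hX : X ≤ W) : W ≤ centralizer (X : Set G) := fun w hw =>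
  mem_centralizer_iff.2 fun x hx => elab_comm hW x (hX hx) w hw

theorem le_nrm (hW : IsElementaryAbelian 2 W) (h2 : A₀ ≤ A ⊔ W) (hX : X ≤ W) (hAX : A ≤ normalizer (X : Set G)) :
    A₀ ⊔ W ≤ normalizer (X : Set G) := by
  have hWX : W ≤ normalizer (X : Set G) :=
    (W_cent hW hX).trans (Subgroup.centralizer_le_normalizer _)
  exact sup_le (h2.trans (sup_le hAX hWX)) hWX

/-- `A₀` has maximal order in `A₀ W`. -/
theorem mem_AA (hm : ∀ E : Subgroup G, IsElementaryAbelian 2 E → Nat.card E ≤ m) (hA₀ : IsElementaryAbelian 2 A₀) (hAm : Nat.card A₀ = m) {F : Subgroup G} (hF : A₀ ≤ F) :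
    A₀ ∈ AA F := ⟨hA₀, hF, fun B hB _ => by rw [hAm]; exact hm B hB⟩

theorem cent_eq (hW : IsElementaryAbelian 2 W) (h1 : A ≤ A₀ ⊔ W) (hX : X ≤ W) :
    X ⊓ centralizer (A₀ : Set G) ≤ X ⊓ centralizer (A : Set G) := by
  rintro x ⟨hx, hx'⟩
  refine ⟨hx, ?_⟩
  have : A₀ ⊔ W ≤ centralizer ({x} : Set G) := by
    refine sup_le (fun a ha => ?_) (fun w hw => ?_)
    · rw [mem_centralizer_singleton_iff]
      exact mem_centralizer_iff.1 hx' a ha
    · rw [mem_centralizer_singleton_iff]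
      exact elab_comm hW w hw x (hX hx)
  refine mem_centralizer_iff.2 fun a ha => ?_
  have := this (h1 ha)
  rwa [mem_centralizer_singleton_iff] at this

theorem ffG [Finite G] (hm : ∀ E : Subgroup G, IsElementaryAbelian 2 E → Nat.card E ≤ m) (hA₀ : IsElementaryAbelian 2 A₀) (hAm : Nat.card A₀ = m) (hW : IsElementaryAbelian 2 W)
    (h1 : A ≤ A₀ ⊔ W) (h2 : A₀ ≤ A ⊔ W) (hX : X ≤ W) (hAX : A ≤ normalizer (X : Set G)) :
    Nat.card X * Nat.card ↥(A ⊓ centralizer (X : Set G)) ≤ Nat.card A * Nat.card ↥(X ⊓ centralizer (A : Set G)) := by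
  have hnr := le_nrm (A₀ := A₀) hW h2 hX hAX
  have hWC := W_cent hW hX
  have k1 := relIndex_le (mem_AA hm hA₀ hAm (le_sup_left : A₀ ≤ A₀ ⊔ W)) (elab_mono hW hX) (hX.trans le_sup_right)
  have k2 : (centralizer (X : Set G)).relIndex A₀ = (centralizer (X : Set G)).relIndex A := by
    rw [← relIndex_sup_nm ((le_sup_left.trans hnr).trans nrm_cent), ← relIndex_sup_nm (hAX.trans nrm_cent)]
    congr 1
    apply le_antisymm
    · exact sup_le (h2.trans (sup_le_sup_left hWC _)) le_sup_right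
    · exact sup_le (h1.trans (sup_le_sup_left hWC _)) le_sup_right
  rw [k2] at k1
  have h6 : Nat.card ↥(X ⊓ centralizer (A₀ : Set G)) * (centralizer (A₀ : Set G)).relIndex X = Nat.card X := by
    rw [inf_comm, ← inf_relIndex_right]
    exact card_mul_relIndex inf_le_right
  have h7 : Nat.card ↥(A ⊓ centralizer (X : Set G)) * (centralizer (X : Set G)).relIndex A = Nat.card A := by
    rw [inf_comm, ← inf_relIndex_right]
    exact card_mul_relIndex inf_le_right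
  have h5 := Subgroup.card_le_of_le (cent_eq (A₀ := A₀) hW h1 hX)
  calc Nat.card X * Nat.card ↥(A ⊓ centralizer (X : Set G))
      = Nat.card ↥(X ⊓ centralizer (A₀ : Set G)) * (centralizer (A₀ : Set G)).relIndex X *
          Nat.card ↥(A ⊓ centralizer (X : Set G)) := by rw [h6]
    _ ≤ Nat.card ↥(X ⊓ centralizer (A : Set G)) * (centralizer (X : Set G)).relIndex A *
          Nat.card ↥(A ⊓ centralizer (X : Set G)) := Nat.mul_le_mul_right _ (Nat.mul_le_mul h5 k1)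
    _ = Nat.card ↥(A ⊓ centralizer (X : Set G)) * (centralizer (X : Set G)).relIndex A *
          Nat.card ↥(X ⊓ centralizer (A : Set G)) := by ring
    _ = _ := by rw [h7]

theorem repG [Finite G] (hm : ∀ E : Subgroup G, IsElementaryAbelian 2 E → Nat.card E ≤ m) (hA₀ : IsElementaryAbelian 2 A₀) (hAm : Nat.card A₀ = m) (hW : IsElementaryAbelian 2 W)
    (hAW : A₀ ≤ normalizer (W : Set G)) (h1 : A ≤ A₀ ⊔ W) (h2 : A₀ ≤ A ⊔ W) (hX : X ≤ W)
    (hAX : A ≤ normalizer (X : Set G)) (hne : ¬ A ≤ centralizer (X : Set G)) :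
    ∃ A' A₀' : Subgroup G, A' ≤ A ∧ IsElementaryAbelian 2 A₀' ∧ Nat.card A₀' = m ∧ A' ≤ A₀' ⊔ W ∧ A₀' ≤ A' ⊔ W ∧
      ¬ A' ≤ centralizer (X : Set G) ∧
      ∀ a ∈ A', ∀ b ∈ A', ∀ x ∈ X, a * (b * x * b⁻¹ * x⁻¹) * a⁻¹ = b * x * b⁻¹ * x⁻¹ := by
  have hnr := le_nrm (A₀ := A₀) hW h2 hX hAX
  have hWC := W_cent hW hX
  have hAA := mem_AA hm hA₀ hAm (le_sup_left : A₀ ≤ A₀ ⊔ W)
  have hXe := elab_mono hW hX
  have hXF : X ≤ A₀ ⊔ W := hX.trans le_sup_right
  obtain ⟨r1, r2⟩ := rep hAA hXe hXF hnr (le_refl X)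
  have r3 := rep_cent hAA hXe hXF hnr (le_refl X)
  set B : Subgroup G := A₀ ⊓ centralizer ((⁅X, A₀⁆ : Subgroup G) : Set G) with hB
  set C : Subgroup G := X ⊓ centralizer (B : Set G) with hC
  have hWF : A₀ ⊔ W ≤ normalizer (W : Set G) := sup_le hAW le_normalizer
  have hAF : A ≤ normalizer (W : Set G) := h1.trans hWF
  -- `A W = A₀ W`
  have hF : A ⊔ W = A₀ ⊔ W := le_antisymm (sup_le h1 le_sup_right) (sup_le h2 le_sup_right)
  have hBF : B ⊔ C ≤ A₀ ⊔ W := r2.2.1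
  have hBCW : B ⊔ C ≤ normalizer (W : Set G) := hBF.trans hWF
  refine ⟨A ⊓ ((B ⊔ C) ⊔ W), B ⊔ C, inf_le_left, r2.1, ?_, inf_le_right, ?_, ?_, ?_⟩
  · apply le_antisymm (hm _ r2.1)
    rw [← hAm]
    exact r2.2.2 _ hA₀ le_sup_left
  · intro y hy
    have hy1 : y ∈ A ⊔ W := by rw [hF]; exact hBF hy
    obtain ⟨a, ha, w, hw, rfl⟩ := mem_sup_nm hAF hy1
    refine mul_mem (mem_sup_left ⟨ha, ?_⟩) (mem_sup_right hw)
    have : a = a * w * w⁻¹ := by group
    rw [this]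
    exact mul_mem (mem_sup_left hy) (mem_sup_right (inv_mem hw))
  · intro hcon
    apply hne
    -- `B` centralises `X`
    have hBX : ∀ b ∈ B, ∀ u ∈ X, b * u = u * b := by
      intro b hb u hu
      have hb1 : b ∈ A ⊔ W := by rw [hF]; exact hBF (mem_sup_left hb)
      obtain ⟨a, ha, w, hw, e⟩ := mem_sup_nm hAF hb1
      have ha' : a ∈ A ⊓ ((B ⊔ C) ⊔ W) := by
        refine ⟨ha, ?_⟩
        have : a = b * w⁻¹ := by rw [e]; group
        rw [this]
        exact mul_mem (mem_sup_left (mem_sup_left hb)) (mem_sup_right (inv_mem hw))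
      have h3 := mem_centralizer_iff.1 (hcon ha') u hu
      have h4 := mem_centralizer_iff.1 (hWC hw) u hu
      rw [e, mul_assoc, ← h4, ← mul_assoc, ← h3, mul_assoc]
    have h3 := r3 hBX
    refine h1.trans (sup_le ?_ hWC)
    rwa [le_centralizer_iff]
  · -- quadratic
    have hstr : ∀ b ∈ A ⊓ ((B ⊔ C) ⊔ W), ∃ c ∈ B, ∃ w ∈ W, b = c * w := by
      intro b hb
      obtain ⟨y, hy, w, hw, rfl⟩ := mem_sup_nm hBCW hb.2
      have hBC : ∀ x ∈ B, ∀ y ∈ C, x * y = y * x := fun x hx y hy => mem_centralizer_iff.1 hy.2 x hx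
      obtain ⟨c, hc, x, hx, rfl⟩ := mem_sup_cm hBC hy
      exact ⟨c, hc, x * w, mul_mem (hX hx.1) hw, by group⟩
    intro a ha b hb x hx
    obtain ⟨c, hc, w, hw, rfl⟩ := hstr b hb
    obtain ⟨c', hc', w', hw', rfl⟩ := hstr a ha
    have e1 : c * w * x * (c * w)⁻¹ * x⁻¹ = ⁅c, x⁆ := by
      rw [commutatorElement_def]
      have : w * x = x * w := elab_comm hW w hw x (hX hx)
      calc c * w * x * (c * w)⁻¹ * x⁻¹ = c * (w * x) * w⁻¹ * c⁻¹ * x⁻¹ := by group
        _ = c * (x * w) * w⁻¹ * c⁻¹ * x⁻¹ := by rw [this]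
        _ = c * x * c⁻¹ * x⁻¹ := by group
    rw [e1]
    have hmem : ⁅c, x⁆ ∈ ⁅X, A₀⁆ := by
      rw [commutator_comm]
      exact commutator_mem_commutator hc.1 hx
    have hmX : ⁅c, x⁆ ∈ X := by
      rw [commutatorElement_def]
      exact mul_mem ((mem_normalizer_iff.1 (hnr (mem_sup_left hc.1)) x).1 hx) (inv_mem hx)
    have f1 : c' * ⁅c, x⁆ = ⁅c, x⁆ * c' := (mem_centralizer_iff.1 hc'.2 _ hmem).symm
    have f2 : w' * ⁅c, x⁆ = ⁅c, x⁆ * w' := elab_comm hW w' hw' _ (hX hmX)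
    calc c' * w' * ⁅c, x⁆ * (c' * w')⁻¹ = c' * (w' * ⁅c, x⁆) * (c' * w')⁻¹ := by group
      _ = c' * ⁅c, x⁆ * c'⁻¹ := by rw [f2]; group
      _ = ⁅c, x⁆ := by rw [f1]; group

end Cfsg.Agent.Omega.OM.YThm.FfRep
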