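import Cfsg.Agent.Omega.OM.YThm.Def

/-!
# THEOREM Y, part A: the minimal subgroup `L` (bb OMEGA #19419, TCARD #19947)

* `JJ 𝒜 X` : the subgroup generated by the members of `𝒜` in `X`;
* `YS.exists_ld` : if `Z` is moved by `H` there is a `LD`.
-/

set_option autoImplicit false

namespace Cfsg.Agent.Omega.OM.YThm.Min

open Subgroup Cfsg.Agent.ZN Cfsg.Agent.ZN.ChoiceBase Cfsg.Agent.ZN.ChoiceSit Cfsg.Agent.Omega.OM.YThm
open scoped Pointwise

universe u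

variable {H : Type u} [Group H]

/-- The subgroup generated by the members of `𝒜` which are contained in `X`. -/
def JJ (𝒜 : Set (Subgroup H)) (X : Subgroup H) : Subgroup H := sSup {A | A ∈ 𝒜 ∧ A ≤ X}

variable {𝒜 : Set (Subgroup H)} {A X Y T D : Subgroup H}

theorem JJ_le : JJ 𝒜 X ≤ X := sSup_le fun _ hA => hA.2

theorem le_JJ (hA : A ∈ 𝒜) (hAX : A ≤ X) : A ≤ JJ 𝒜 X := le_sSup ⟨hA, hAX⟩

theorem JJ_le_iff : JJ 𝒜 X ≤ Y ↔ ∀ A ∈ 𝒜, A ≤ X → A ≤ Y :=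
  ⟨fun h _ hA hAX => (le_JJ hA hAX).trans h, fun h => sSup_le fun A hA => h A hA.1 hA.2⟩

theorem JJ_mono (h : X ≤ Y) : JJ 𝒜 X ≤ JJ 𝒜 Y := JJ_le_iff.2 fun _ hA hAX => le_JJ hA (hAX.trans h)

theorem JJ_JJ (𝒜 : Set (Subgroup H)) (X : Subgroup H) : JJ 𝒜 (JJ 𝒜 X) = JJ 𝒜 X :=
  le_antisymm JJ_le (JJ_le_iff.2 fun _ hA hAX => le_JJ hA (le_JJ hA hAX))

theorem cj_JJ (hcj : ∀ A ∈ 𝒜, ∀ g : H, cj g A ∈ 𝒜) (g : H) (X : Subgroup H) :
    cj g (JJ 𝒜 X) = JJ 𝒜 (cj g X) := by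
  have key : ∀ (g : H) (X : Subgroup H), cj g (JJ 𝒜 X) ≤ JJ 𝒜 (cj g X) := by
    intro g X
    rw [cj_le_iff, JJ_le_iff]
    intro A hA hAX
    rw [← cj_le_iff]
    exact le_JJ (hcj A hA g) (cj_mono g hAX)
  refine le_antisymm (key g X) ?_
  have h1 := cj_mono g (key g⁻¹ (cj g X))
  rwa [cj_cj, mul_inv_cancel, cj_one, cj_inv_cj] at h1

/-- normalisers grow in 2-groups -/
theorem exists_norm [Finite H] (hT : IsPGroup 2 T) (hDT : D ≤ T) (hne : D ≠ T) :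
    ∃ x ∈ T, x ∉ D ∧ cj x D = D := by
  have : Fact (Nat.Prime 2) := ⟨Nat.prime_two⟩
  have hnil : Group.IsNilpotent T := hT.isNilpotent
  have hlt : D.subgroupOf T < ⊤ := by
    rw [lt_top_iff_ne_top]
    intro h1
    exact hne (le_antisymm hDT (subgroupOf_eq_top.1 h1))
  have h1 := Group.normalizerCondition_of_isNilpotent (G := T) _ hlt
  obtain ⟨x, hx, hxD⟩ := SetLike.exists_of_lt h1
  refine ⟨x, x.2, fun h2 => hxD (mem_subgroupOf.2 h2), ?_⟩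
  refine cj_eq_of_mem_normalizer (mem_normalizer_of_cj_le ?_)
  intro y hy
  rw [ChoiceBase.mem_cj] at hy
  have hyT : (x : H)⁻¹ * y * x ∈ T := hDT hy
  have h2 : (⟨(x : H)⁻¹ * y * x, hyT⟩ : T) ∈ D.subgroupOf T := mem_subgroupOf.2 hy
  have h3 := (mem_normalizer_iff.1 hx _).1 h2
  have h4 := mem_subgroupOf.1 h3
  have h5 : ((x * (⟨(x : H)⁻¹ * y * x, hyT⟩ : T) * x⁻¹ : T) : H) = y := by
    change (x : H) * ((x : H)⁻¹ * y * x) * (x : H)⁻¹ = y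
    group
  rwa [h5] at h4

/-- some member normalises `J₀` and is not contained in it -/
theorem exists_member [Finite H] (hcj : ∀ A ∈ 𝒜, ∀ g : H, cj g A ∈ 𝒜) (hT : IsPGroup 2 T) {J₀ : Subgroup H}
    (hJT : J₀ ≤ T) (hJ : JJ 𝒜 J₀ = J₀) (hne : ¬ JJ 𝒜 T ≤ J₀) :
    ∃ A ∈ 𝒜, A ≤ T ∧ A ≤ normalizer (J₀ : Set H) ∧ ¬ A ≤ J₀ := by
  by_contra hcon
  push Not at hcon
  have h1 : T ⊓ normalizer (J₀ : Set H) = T := by
    by_contra h2
    obtain ⟨x, hx, hxD, hxc⟩ := exists_norm hT inf_le_left h2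
    have h3 : JJ 𝒜 (T ⊓ normalizer (J₀ : Set H)) = J₀ := by
      refine le_antisymm (JJ_le_iff.2 fun A hA hAX => hcon A hA (hAX.trans inf_le_left) (hAX.trans inf_le_right)) ?_
      conv_lhs => rw [← hJ]
      exact JJ_mono (le_inf hJT le_normalizer)
    refine hxD ⟨hx, mem_normalizer_of_cj_le ?_⟩
    rw [← h3, cj_JJ hcj, hxc]
  refine hne (JJ_le_iff.2 fun A hA hAT => hcon A hA hAT ?_)
  exact (hAT.trans h1.ge).trans inf_le_right

variable {M : Type*} [AddCommGroup M] [DistribMulAction H M]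

theorem smul_eq_of_fix {W : AddSubgroup M} {x : H} (hx : ∀ w ∈ W, x • w = w) : x • W = W := by
  ext w
  rw [AddSubgroup.mem_smul_pointwise_iff_exists]
  constructor
  · rintro ⟨s, hs, rfl⟩
    rwa [hx s hs]
  · exact fun hw => ⟨w, hw, hx w hw⟩

/-- the pointwise stabiliser -/
def ptS (H : Type*) [Group H] {M : Type*} [AddCommGroup M] [DistribMulAction H M] (W : AddSubgroup M) :
    Subgroup H where
  carrier := {x | ∀ w ∈ W, x • w = w}
  one_mem' := fun w _ => one_smul H w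
  mul_mem' := fun {a b} ha hb w hw => by rw [mul_smul, hb w hw, ha w hw]
  inv_mem' := fun {a} ha w hw => by rw [inv_smul_eq_iff, ha w hw]

theorem mem_ptS {W : AddSubgroup M} {x : H} : x ∈ ptS H W ↔ ∀ w ∈ W, x • w = w := Iff.rfl

section

variable {S : Subgroup H} {ι : Type*} [Fintype ι] {Zi : ι → AddSubgroup M} {Z : AddSubgroup M}
  (h : YS0 𝒜 S Zi Z)

include h

/-- `c • Z` is determined by the members in `S^c` -/
theorem det' {c c' : H} (hsub : ∀ A ∈ 𝒜, A ≤ cj c S → A ≤ cj c' S) : c • Z = c' • Z := by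
  have h1 := h.det (c⁻¹ * c') fun A hA hAS => by
    have h2 := hsub _ (h.cjA A hA c) (cj_mono c hAS)
    rw [cj_le_iff, cj_cj] at h2
    exact h2
  rw [mul_smul, inv_smul_eq_iff] at h1
  exact h1.symm

theorem fixS {s : H} (hs : s ∈ S) : s • Z = Z := by
  refine h.det s fun A _ hAS => ?_
  rwa [cj_eq_of_mem_normalizer (le_normalizer hs)]

theorem cen' {c : H} (hA : A ∈ 𝒜) (hAc : A ≤ cj c S) {a : H} (ha : a ∈ A) {z : M} (hz : z ∈ c • Z) : a • z = z := by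
  obtain ⟨w, hw, rfl⟩ := (AddSubgroup.mem_smul_pointwise_iff_exists _ _ _).1 hz
  have h1 := h.cen (cj c⁻¹ A) (h.cjA A hA _) (by rwa [cj_le_iff, inv_inv]) (c⁻¹ * a * c)
    (by rw [ChoiceBase.mem_cj]; convert ha using 1; group) w hw
  rw [mul_smul, mul_smul, inv_smul_eq_iff] at h1
  exact h1

/-- elements of `JJ 𝒜 (S^c)` fix `c • Z` pointwise -/
theorem cenJJ {c : H} (hX : X ≤ cj c S) (hXJ : JJ 𝒜 X = X) {a : H} (ha : a ∈ X) {z : M} (hz : z ∈ c • Z) :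
    a • z = z := by
  let F : Subgroup H :=
    { carrier := {a | a • z = z}
      one_mem' := one_smul H z
      mul_mem' := fun {a b} ha hb => by
        change (a * b) • z = z
        rw [mul_smul, show b • z = z from hb, show a • z = z from ha]
      inv_mem' := fun {a} ha => by
        change a⁻¹ • z = z
        rw [inv_smul_eq_iff, show a • z = z from ha] }
  have h1 : JJ 𝒜 X ≤ F := JJ_le_iff.2 fun A hA hAX a ha => cen' h hA (hAX.trans hX) ha hz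
  exact h1 (hXJ.symm ▸ ha)

theorem isPGroup_cjS (c : H) : IsPGroup 2 (cj c S) := isPGroup_cj c h.syl.2.1

variable [Finite H]

/-- every 2-group is contained in some `S^c` -/
theorem exists_cjS (hX : IsPGroup 2 X) : ∃ c : H, X ≤ cj c S := by
  obtain ⟨T, hT, hXT⟩ := exists_syl hX (le_top : X ≤ ⊤)
  obtain ⟨c, -, hc⟩ := syl_conj h.syl hT
  exact ⟨c, hc ▸ hXT⟩

/-- **(2)** of THEOREM Y: the minimal subgroup -/
theorem exists_ld (hne : ∃ g : H, g • Z ≠ Z) :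
    ∃ (A J₀ L : Subgroup H) (Z₁ : AddSubgroup M), LD 𝒜 S Z A J₀ L Z₁ ∧ JJ 𝒜 J₀ = J₀ := by
  classical
  -- the choice of `T₁`, `T₂`
  obtain ⟨⟨c₁, c₂⟩, hc, hmax⟩ := Set.exists_max_image {p : H × H | p.1 • Z ≠ p.2 • Z}
    (fun p => Nat.card (JJ 𝒜 (cj p.1 S ⊓ cj p.2 S))) (Set.toFinite _) (by
      obtain ⟨g, hg⟩ := hne
      exact ⟨(g, 1), by simpa using hg⟩)
  have hc : c₁ • Z ≠ c₂ • Z := hc
  have hmax : ∀ d₁ d₂ : H, d₁ • Z ≠ d₂ • Z →
      Nat.card (JJ 𝒜 (cj d₁ S ⊓ cj d₂ S)) ≤ Nat.card (JJ 𝒜 (cj c₁ S ⊓ cj c₂ S)) := fun d₁ d₂ hd =>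
    hmax (d₁, d₂) hd
  set J₀ := JJ 𝒜 (cj c₁ S ⊓ cj c₂ S) with hJ₀
  have hJJ : JJ 𝒜 J₀ = J₀ := JJ_JJ _ _
  have hJ1 : J₀ ≤ cj c₁ S := JJ_le.trans inf_le_left
  have hJ2 : J₀ ≤ cj c₂ S := JJ_le.trans inf_le_right
  -- (*)
  have star : ∀ X : Subgroup H, JJ 𝒜 X = X → J₀ ≤ X → ¬ X ≤ J₀ → ∀ d d' : H, X ≤ cj d S → X ≤ cj d' S →
      d • Z = d' • Z := by
    intro X hX hJX hXJ d d' hd hd'
    by_contra hne
    have h1 := hmax d d' hne
    have h2 : X ≤ JJ 𝒜 (cj d S ⊓ cj d' S) := by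
      conv_lhs => rw [← hX]
      exact JJ_mono (le_inf hd hd')
    have h3 : Nat.card X ≤ Nat.card J₀ := (Subgroup.card_le_of_le h2).trans h1
    exact hXJ (Subgroup.eq_of_le_of_card_ge hJX h3).ge
  -- (**)
  have star2 : ∀ X : Subgroup H, JJ 𝒜 X = X → J₀ ≤ X → ¬ X ≤ J₀ → IsPGroup 2 X → ∀ d : H, X ≤ cj d S → ∀ c : H,
      (∀ x ∈ X, x • c • Z = c • Z) → d • Z = c • Z := by
    intro X hX hJX hXJ hX2 d hd c hXc
    let B : Subgroup H :=
      { carrier := {x | x • c • Z = c • Z}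
        one_mem' := one_smul H _
        mul_mem' := fun {a b} ha hb => by
          change (a * b) • c • Z = c • Z
          rw [mul_smul, show b • c • Z = c • Z from hb, show a • c • Z = c • Z from ha]
        inv_mem' := fun {a} ha => by
          change a⁻¹ • c • Z = c • Z
          rw [inv_smul_eq_iff, show a • c • Z = c • Z from ha] }
    have hSB : cj c S ≤ B := by
      intro x hx
      rw [ChoiceBase.mem_cj] at hx
      have h1 := fixS h hx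
      change x • c • Z = c • Z
      rwa [mul_smul, mul_smul, inv_smul_eq_iff] at h1
    have hsylB : Syl (cj c S) B := by
      refine ⟨hSB, isPGroup_cjS h c, fun Q _ hQ2 hSQ => ?_⟩
      have h1 := h.syl.2.2 (cj c⁻¹ Q) le_top (isPGroup_cj _ hQ2) (by rw [← cj_inv_cj c S]; exact cj_mono _ hSQ)
      rw [← h1, cj_cj_inv]
    obtain ⟨T, hT, hXT⟩ := exists_syl hX2 (show X ≤ B from hXc)
    obtain ⟨b, hb, hbT⟩ := syl_conj hsylB hT
    rw [cj_cj] at hbT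
    have h1 := star X hX hJX hXJ d (b * c) hd (by rw [hbT]; exact hXT)
    rw [h1, mul_smul]
    exact hb
  -- the members `A₁`, `A₂`
  have hn1 : ¬ JJ 𝒜 (cj c₁ S) ≤ J₀ := fun hle => hc (det' h fun A hA hAS => (le_JJ hA hAS).trans (hle.trans hJ2))
  have hn2 : ¬ JJ 𝒜 (cj c₂ S) ≤ J₀ := fun hle =>
    hc (det' h fun A hA hAS => (le_JJ hA hAS).trans (hle.trans hJ1)).symm
  obtain ⟨A₁, hA₁, hA₁S, hA₁N, hA₁J⟩ := exists_member h.cjA (isPGroup_cjS h c₁) hJ1 hJJ hn1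
  obtain ⟨A₂, hA₂, hA₂S, hA₂N, hA₂J⟩ := exists_member h.cjA (isPGroup_cjS h c₂) hJ2 hJJ hn2
  -- `A J₀` is generated by members
  have hgen : ∀ A ∈ 𝒜, JJ 𝒜 (A ⊔ J₀) = A ⊔ J₀ := by
    intro A hA
    refine le_antisymm JJ_le (sup_le (le_JJ hA le_sup_left) ?_)
    conv_lhs => rw [← hJJ]
    exact JJ_mono le_sup_right
  have hnle : ∀ A : Subgroup H, ¬ A ≤ J₀ → ¬ A ⊔ J₀ ≤ J₀ := fun A hA hle => hA (le_sup_left.trans hle)
  -- `U`
  let 𝒲 : Set (AddSubgroup M) := {W | ∃ (c : H) (A : Subgroup H), A ∈ 𝒜 ∧ A ≤ normalizer (J₀ : Set H) ∧ ¬ A ≤ J₀ ∧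
    A ⊔ J₀ ≤ cj c S ∧ W = c • Z}
  set U : AddSubgroup M := sSup 𝒲 with hU
  have hcjJ : ∀ n ∈ normalizer (J₀ : Set H), cj n J₀ = J₀ := fun n hn => cj_eq_of_mem_normalizer hn
  have hcjN : ∀ n ∈ normalizer (J₀ : Set H), ∀ A : Subgroup H, ¬ A ≤ J₀ → ¬ cj n A ≤ J₀ := by
    intro n hn A hA hle
    rw [cj_le_iff] at hle
    rw [hcjJ _ (inv_mem hn)] at hle
    exact hA hle
  have hsup : ∀ n ∈ normalizer (J₀ : Set H), ∀ A : Subgroup H, cj n A ⊔ J₀ = cj n (A ⊔ J₀) := by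
    intro n hn A
    have h1 : cj n (A ⊔ J₀) = cj n A ⊔ cj n J₀ := Subgroup.map_sup _ _ _
    rw [h1, hcjJ n hn]
  have hUn : ∀ n ∈ normalizer (J₀ : Set H), ∀ x ∈ U, n • x ∈ U := by
    intro n hn x hx
    have h1 : U ≤ U.comap (DistribSMul.toAddMonoidHom M n) := by
      refine sSup_le ?_
      rintro _ ⟨c, A, hA, hAN, hAJ, hAc, rfl⟩ y hy
      obtain ⟨z, hz, rfl⟩ := (AddSubgroup.mem_smul_pointwise_iff_exists _ _ _).1 hy
      rw [AddSubgroup.mem_comap, DistribSMul.toAddMonoidHom_apply, smul_smul]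
      have h2 : (n * c) • Z ∈ 𝒲 := by
        refine ⟨n * c, cj n A, h.cjA A hA n, ?_, hcjN n hn A hAJ, ?_, rfl⟩
        · rw [← cj_eq_of_mem_normalizer (le_normalizer hn : n ∈ normalizer ((normalizer (J₀ : Set H) : Subgroup H) : Set H))]
          exact cj_mono n hAN
        · rw [hsup n hn, ← cj_cj]
          exact cj_mono n hAc
      exact le_sSup h2 (AddSubgroup.smul_mem_pointwise_smul z (n * c) Z hz)
    exact h1 hx
  have hUJ : ∀ j ∈ J₀, ∀ x ∈ U, j • x = x := by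
    intro j hj x hx
    have h1 : U ≤ fx ⊤ J₀ := by
      refine sSup_le ?_
      rintro _ ⟨c, A, hA, hAN, hAJ, hAc, rfl⟩ y hy
      exact ⟨trivial, fun j hj => cenJJ h (le_sup_right.trans hAc) hJJ hj hy⟩
    exact (h1 hx).2 j hj
  -- `c₁ • Z ≤ U`
  have hZ1 : c₁ • Z ≤ U := le_sSup ⟨c₁, A₁, hA₁, hA₁N, hA₁J, sup_le hA₁S hJ1, rfl⟩
  have hnontriv : ∃ a ∈ A₂, ∃ x ∈ U, a • x ≠ x := by
    by_contra hcon
    push Not at hcon
    have h1 : A₂ ⊔ J₀ ≤ ptS H (c₁ • Z) := sup_le (fun a ha w hw => hcon a ha w (hZ1 hw)) fun a ha w hw =>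
      hUJ a ha w (hZ1 hw)
    exact hc (star2 (A₂ ⊔ J₀) (hgen A₂ hA₂) le_sup_right (hnle A₂ hA₂J)
      ((isPGroup_cjS h c₂).to_le (sup_le hA₂S hJ2)) c₂ (sup_le hA₂S hJ2) c₁ fun x hx => smul_eq_of_fix (h1 hx)).symm
  obtain ⟨A, hA, hAA, hAU, hquad⟩ := h.rep A₂ hA₂ U (fun a ha x hx => hUn a (hA₂N ha) x hx) hnontriv
  have hAN : A ≤ normalizer (J₀ : Set H) := hAA.trans hA₂N
  have hAS : A ≤ cj c₂ S := hAA.trans hA₂S
  have hAJ : ¬ A ≤ J₀ := by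
    intro hle
    obtain ⟨a, ha, x, hx, hax⟩ := hAU
    exact hax (hUJ a (hle ha) x hx)
  -- `L`
  obtain ⟨L, ⟨hAL, hJL, hLN, hLne⟩, hLmin⟩ := Set.exists_min_image
    {X : Subgroup H | A ≤ X ∧ J₀ ≤ X ∧ X ≤ normalizer (J₀ : Set H) ∧ ∃ x ∈ X, x • c₂ • Z ≠ c₂ • Z}
    (fun X => Nat.card X) (Set.toFinite _) (by
      refine ⟨normalizer (J₀ : Set H), hAN, le_normalizer, le_rfl, ?_⟩
      by_contra hcon
      push Not at hcon
      exact hc (star2 (A₁ ⊔ J₀) (hgen A₁ hA₁) le_sup_right (hnle A₁ hA₁J)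
        ((isPGroup_cjS h c₁).to_le (sup_le hA₁S hJ1)) c₁ (sup_le hA₁S hJ1) c₂ fun x hx =>
          hcon x ((sup_le hA₁N le_normalizer : A₁ ⊔ J₀ ≤ normalizer (J₀ : Set H)) hx)))
  have hmin : ∀ X : Subgroup H, A ≤ X → J₀ ≤ X → X ≤ L → X ≠ L → ∀ x ∈ X, x • c₂ • Z = c₂ • Z := by
    intro X hAX hJX hXL hne x hx
    by_contra hcon
    have h1 := hLmin X ⟨hAX, hJX, hXL.trans hLN, x, hx, hcon⟩
    exact hne (Subgroup.eq_of_le_of_card_ge hXL h1)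
  refine ⟨A, J₀, L, c₂ • Z, ?_, hJJ⟩
  constructor
  · exact hA
  · exact hAL
  · exact hJL
  · exact fun l hl => hcjJ l (hLN hl)
  · exact hLne
  · -- gen
    intro x hx hxZ
    by_contra hne
    have hXL : A ⊔ cj x A ⊔ J₀ ≤ L := by
      refine sup_le (sup_le hAL ?_) hJL
      rw [← cj_eq_of_mem_normalizer (le_normalizer hx : x ∈ normalizer (L : Set H))]
      exact cj_mono x hAL
    have h1 := hmin _ (le_sup_left.trans le_sup_left) le_sup_right hXL hne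
    have h2 : cj x A ⊔ J₀ ≤ cj (x * c₂) S := by
      rw [hsup x (hLN hx), ← cj_cj]
      exact cj_mono x (sup_le hAS hJ2)
    have h3 := star2 (cj x A ⊔ J₀) (hgen _ (h.cjA A hA x)) le_sup_right (hnle _ (hcjN x (hLN hx) A hAJ))
      ((isPGroup_cjS h _).to_le h2) (x * c₂) h2 c₂ fun y hy =>
        h1 y ((sup_le (le_sup_right.trans le_sup_left) le_sup_right : cj x A ⊔ J₀ ≤ A ⊔ cj x A ⊔ J₀) hy)
    rw [mul_smul] at h3
    exact hxZ h3
  · exact fun X hAX hJX hXL => hmin X hAX hJX hXL.le hXL.ne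
  · exact fun a ha z hz => cen' h hA hAS ha hz
  · -- cenJ
    intro j hj l hl z hz
    have h1 : l⁻¹ * j * l ∈ J₀ := by
      rw [← ChoiceBase.mem_cj, hcjJ l (hLN hl)]
      exact hj
    have h2 := cenJJ h hJ2 hJJ h1 hz
    rw [mul_smul, mul_smul, inv_smul_eq_iff] at h2
    exact h2
  · -- quad
    intro a ha b hb l hl z hz
    have h1 : l • z ∈ U := by
      have h2 : (l * c₂) • Z ∈ 𝒲 := by
        refine ⟨l * c₂, cj l A, h.cjA A hA l, ?_, hcjN l (hLN hl) A hAJ, ?_, rfl⟩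
        · rw [← cj_eq_of_mem_normalizer (le_normalizer (hLN hl) :
            l ∈ normalizer ((normalizer (J₀ : Set H) : Subgroup H) : Set H))]
          exact cj_mono l hAN
        · rw [hsup l (hLN hl), ← cj_cj]
          exact cj_mono l (sup_le hAS hJ2)
      have h3 : l • z ∈ (l * c₂) • Z := by
        rw [mul_smul]
        exact AddSubgroup.smul_mem_pointwise_smul z l _ hz
      exact le_sSup h2 h3
    exact hquad a ha b hb _ h1
  · -- syl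
    intro T hAT hJT _ hT
    obtain ⟨g, hg⟩ := exists_cjS h hT
    exact ⟨g, hg, star (A ⊔ J₀) (hgen A hA) le_sup_right (hnle A hAJ) g c₂ ((sup_le hAT hJT).trans hg)
      (sup_le hAS hJ2)⟩
  · exact (isPGroup_cjS h c₁).to_le hJ1

end

end Cfsg.Agent.Omega.OM.YThm.Min

namespace Cfsg.Agent.Omega.OM.YThm

open Cfsg.Agent.ZN Cfsg.Agent.ZN.ChoiceBase Cfsg.Agent.ZN.ChoiceSit
open scoped Pointwise

universe u

/-- **THEOREM Y, part A**: the minimal subgroup `L`. -/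
theorem YS.exists_ld {H : Type u} [Group H] [Finite H] {M : Type*} [AddCommGroup M] [DistribMulAction H M]
    {𝒜 : Set (Subgroup H)} {S : Subgroup H} {ι : Type*} [Fintype ι] {Zi : ι → AddSubgroup M} {Z V : AddSubgroup M}
    (h : YS 𝒜 S Zi Z V) (hne : ∃ g : H, g • Z ≠ Z) :
    ∃ (A J₀ L : Subgroup H) (Z₁ : AddSubgroup M), LD 𝒜 S Z A J₀ L Z₁ := by
  obtain ⟨A, J₀, L, Z₁, h1, -⟩ := Min.exists_ld h.toYS0 hne
  exact ⟨A, J₀, L, Z₁, h1⟩

/-- **THEOREM Y, part A** for `YS0`; moreover `J₀` is generated by members of `𝒜`. -/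
theorem YS0.exists_ld_jj {H : Type u} [Group H] [Finite H] {M : Type*} [AddCommGroup M] [DistribMulAction H M]
    {𝒜 : Set (Subgroup H)} {S : Subgroup H} {ι : Type*} [Fintype ι] {Zi : ι → AddSubgroup M} {Z : AddSubgroup M}
    (h : YS0 𝒜 S Zi Z) (hne : ∃ g : H, g • Z ≠ Z) :
    ∃ (A J₀ L : Subgroup H) (Z₁ : AddSubgroup M), LD 𝒜 S Z A J₀ L Z₁ ∧ Min.JJ 𝒜 J₀ = J₀ := Min.exists_ld h hne

/-- **THEOREM Y, part A** for `YS0`. -/
theorem YS0.exists_ld {H : Type u} [Group H] [Finite H] {M : Type*} [AddCommGroup M] [DistribMulAction H M]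
    {𝒜 : Set (Subgroup H)} {S : Subgroup H} {ι : Type*} [Fintype ι] {Zi : ι → AddSubgroup M} {Z : AddSubgroup M}
    (h : YS0 𝒜 S Zi Z) (hne : ∃ g : H, g • Z ≠ Z) :
    ∃ (A J₀ L : Subgroup H) (Z₁ : AddSubgroup M), LD 𝒜 S Z A J₀ L Z₁ := by
  obtain ⟨A, J₀, L, Z₁, h1, -⟩ := Min.exists_ld h hne
  exact ⟨A, J₀, L, Z₁, h1⟩

end Cfsg.Agent.Omega.OM.YThm
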