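import Cfsg.Agent.Omega.OM.YThm.Def

/-!
# THEOREM Y, part B1 (helper801): steps (b1)-(b6) of TCARD #19947

Over `d : LD 𝒜 S Z A J₀ L Z₁` (only `quad`, `cen`, `cenJ`, `gen`, `JN`, `ne` are used):

* `UU L Z₁` : the sum of all points `l • Z₁`, `l ∈ L`; `fx (UU L Z₁) L = C_U(L)`;
* `LD.gen2`, `LD.fix2`, `LD.fixL` (b1); `LD.split` (b2); `LD.ker` (b3); `LD.fix_all`, `LD.comm_zero` (b4);
* **`LD.ti`** (b5); `LD.kA_mem` (b6), `LD.not_le_kA`.
-/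

set_option autoImplicit false

namespace Cfsg.Agent.Omega.OM.YThm

open Subgroup Cfsg.Agent.ZN Cfsg.Agent.ZN.ChoiceBase Cfsg.Agent.ZN.ChoiceSit
open scoped Pointwise

variable {H : Type*} [Group H] {M : Type*} [AddCommGroup M] [DistribMulAction H M]

/-- the sum `U` of all points `l • Z₁`, `l ∈ L` -/
def UU (L : Subgroup H) (Z₁ : AddSubgroup M) : AddSubgroup M := ⨆ l : L, (l : H) • Z₁

theorem smul_mem_UU {L : Subgroup H} {Z₁ : AddSubgroup M} {l : H} (hl : l ∈ L) {z : M} (hz : z ∈ Z₁) :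
    l • z ∈ UU L Z₁ :=
  (le_iSup (fun l : L => (l : H) • Z₁) ⟨l, hl⟩) (AddSubgroup.smul_mem_pointwise_smul z l Z₁ hz)

theorem le_UU {L : Subgroup H} {Z₁ : AddSubgroup M} : Z₁ ≤ UU L Z₁ := fun z hz => by
  have := smul_mem_UU L.one_mem hz
  rwa [one_smul] at this

theorem smul_le_UU {L : Subgroup H} {Z₁ : AddSubgroup M} {l : H} (hl : l ∈ L) : l • Z₁ ≤ UU L Z₁ :=
  le_iSup (fun l : L => (l : H) • Z₁) ⟨l, hl⟩

theorem UU_induction {L : Subgroup H} {Z₁ : AddSubgroup M} {p : M → Prop} (h1 : ∀ l ∈ L, ∀ z ∈ Z₁, p (l • z))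
    (h0 : p 0) (ha : ∀ x y, p x → p y → p (x + y)) {u : M} (hu : u ∈ UU L Z₁) : p u := by
  refine AddSubgroup.iSup_induction (C := p) (fun l : L => (l : H) • Z₁) hu ?_ h0 ha
  rintro ⟨l, hl⟩ x hx
  obtain ⟨z, hz, rfl⟩ := (AddSubgroup.mem_smul_pointwise_iff_exists x l Z₁).1 hx
  exact h1 l hl z hz

theorem smul_UU {L : Subgroup H} {Z₁ : AddSubgroup M} {l : H} (hl : l ∈ L) {u : M} (hu : u ∈ UU L Z₁) :
    l • u ∈ UU L Z₁ := by
  refine UU_induction (p := fun u => l • u ∈ UU L Z₁) ?_ ?_ ?_ hu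
  · intro m hm z hz
    rw [← mul_smul]
    exact smul_mem_UU (L.mul_mem hl hm) hz
  · rw [smul_zero]
    exact zero_mem _
  · intro x y hx hy
    rw [smul_add]
    exact add_mem hx hy

theorem cj_le_stab {A : Subgroup H} {x : H} {u : M} (h : ∀ b ∈ A, (x * b * x⁻¹) • u = u) :
    cj x A ≤ MulAction.stabilizer H u := by
  intro y hy
  rw [mem_cj] at hy
  have := h _ hy
  rw [MulAction.mem_stabilizer_iff]
  have e : x * (x⁻¹ * y * x) * x⁻¹ = y := by group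
  rwa [e] at this

variable {𝒜 : Set (Subgroup H)} {S : Subgroup H} {Z : AddSubgroup M} {A J₀ L : Subgroup H} {Z₁ : AddSubgroup M}

namespace LD

/-! ### the action on `U` -/

theorem quadU (d : LD 𝒜 S Z A J₀ L Z₁) {a b : H} (ha : a ∈ A) (hb : b ∈ A) {u : M} (hu : u ∈ UU L Z₁) :
    a • (b • u - u) = b • u - u := by
  refine UU_induction (p := fun u => a • (b • u - u) = b • u - u) ?_ ?_ ?_ hu
  · exact fun l hl z hz => d.quad a ha b hb l hl z hz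
  · simp
  · intro x y hx hy
    rw [smul_add, add_sub_add_comm, smul_add, hx, hy]

theorem quadU' (d : LD 𝒜 S Z A J₀ L Z₁) {x : H} (hx : x ∈ L) {a b : H} (ha : a ∈ A) (hb : b ∈ A) {u : M}
    (hu : u ∈ UU L Z₁) :
    (x * a * x⁻¹) • ((x * b * x⁻¹) • u - u) = (x * b * x⁻¹) • u - u := by
  have h1 := d.quadU ha hb (smul_UU (L.inv_mem hx) hu)
  have h2 : (x * b * x⁻¹) • u - u = x • (b • x⁻¹ • u - x⁻¹ • u) := by
    rw [smul_sub, smul_inv_smul, mul_smul, mul_smul]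
  rw [h2, mul_smul, mul_smul, inv_smul_smul, h1]

theorem cenJU (d : LD 𝒜 S Z A J₀ L Z₁) {j : H} (hj : j ∈ J₀) {u : M} (hu : u ∈ UU L Z₁) : j • u = u := by
  refine UU_induction (p := fun u => j • u = u) ?_ ?_ ?_ hu
  · exact fun l hl z hz => d.cenJ j hj l hl z hz
  · exact smul_zero j
  · intro x y hx hy
    rw [smul_add, hx, hy]

theorem J_le_stab (d : LD 𝒜 S Z A J₀ L Z₁) {u : M} (hu : u ∈ UU L Z₁) : J₀ ≤ MulAction.stabilizer H u :=
  fun _ hj => MulAction.mem_stabilizer_iff.2 (d.cenJU hj hu)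

/-! ### generation -/

theorem gen1 (d : LD 𝒜 S Z A J₀ L Z₁) {x : H} (hx : x ∈ L) (hx' : x • Z₁ ≠ Z₁) {K : Subgroup H} (h1 : A ≤ K)
    (h2 : cj x A ≤ K) (h3 : J₀ ≤ K) : L ≤ K := by
  rw [← d.gen x hx hx']
  exact sup_le (sup_le h1 h2) h3

theorem gen2 (d : LD 𝒜 S Z A J₀ L Z₁) {a x : H} (ha : a ∈ L) (hx : x ∈ L) (h : a • x • Z₁ ≠ x • Z₁)
    {K : Subgroup H} (h1 : cj x A ≤ K) (h2 : cj (a * x) A ≤ K) (h3 : J₀ ≤ K) : L ≤ K := by
  have hy : x⁻¹ * a * x ∈ L := L.mul_mem (L.mul_mem (L.inv_mem hx) ha) hx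
  have hy' : (x⁻¹ * a * x) • Z₁ ≠ Z₁ := by
    intro e
    apply h
    rw [mul_smul, mul_smul, inv_smul_eq_iff] at e
    exact e
  have h4 : L ≤ cj x⁻¹ K := by
    refine d.gen1 hy hy' (cj_le_iff.1 h1) ?_ ?_
    · rw [← cj_le_iff, cj_cj]
      have e : x * (x⁻¹ * a * x) = a * x := by group
      rwa [e]
    · rw [← cj_le_iff, d.JN x hx]
      exact h3
  intro l hl
  have h5 := h4 (L.mul_mem (L.mul_mem (L.inv_mem hx) hl) hx)
  rw [mem_cj] at h5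
  have e : x⁻¹⁻¹ * (x⁻¹ * l * x) * x⁻¹ = l := by group
  rwa [e] at h5

/-- `u` fixed by `A`, `xAx⁻¹` (and `J₀`) is fixed by `L` -/
theorem fix1 (d : LD 𝒜 S Z A J₀ L Z₁) {x : H} (hx : x ∈ L) (hx' : x • Z₁ ≠ Z₁) {u : M} (hu : u ∈ UU L Z₁)
    (h1 : ∀ b ∈ A, b • u = u) (h2 : ∀ b ∈ A, (x * b * x⁻¹) • u = u) : ∀ l ∈ L, l • u = u := fun _ hl =>
  MulAction.mem_stabilizer_iff.1 (d.gen1 hx hx' (fun b hb => MulAction.mem_stabilizer_iff.2 (h1 b hb))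
    (cj_le_stab h2) (d.J_le_stab hu) hl)

/-- `u` fixed by `xAx⁻¹` and by an element `a` which moves the point `x • Z₁` is fixed by `L` -/
theorem fix2 (d : LD 𝒜 S Z A J₀ L Z₁) {a x : H} (ha : a ∈ L) (hx : x ∈ L) (h : a • x • Z₁ ≠ x • Z₁) {u : M}
    (hu : u ∈ UU L Z₁) (h1 : a • u = u) (h2 : ∀ b ∈ A, (x * b * x⁻¹) • u = u) : ∀ l ∈ L, l • u = u := by
  have h3 : cj (a * x) A ≤ MulAction.stabilizer H u := by
    refine cj_le_stab fun b hb => ?_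
    have e : a * x * b * (a * x)⁻¹ = a * (x * b * x⁻¹) * a⁻¹ := by group
    have h4 : a⁻¹ • u = u := by rw [inv_smul_eq_iff, h1]
    rw [e, mul_smul, mul_smul, h4, h2 b hb, h1]
  exact fun l hl => MulAction.mem_stabilizer_iff.1 (d.gen2 ha hx h (cj_le_stab h2) h3 (d.J_le_stab hu) hl)

theorem cen_conj (d : LD 𝒜 S Z A J₀ L Z₁) {x : H} {z : M} (hz : z ∈ Z₁) :
    ∀ b ∈ A, (x * b * x⁻¹) • x • z = x • z := fun b hb => by
  rw [mul_smul, inv_smul_smul, mul_smul, d.cen b hb z hz]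

/-- (b1) -/
theorem fixL (d : LD 𝒜 S Z A J₀ L Z₁) {a x : H} (ha : a ∈ A) (hx : x ∈ L) (h : a • x • Z₁ ≠ x • Z₁) {z : M}
    (hz : z ∈ Z₁) (hf : a • x • z = x • z) : ∀ l ∈ L, l • x • z = x • z :=
  d.fix2 (d.AL ha) hx h (smul_mem_UU hx hz) hf (d.cen_conj hz)

/-- (b2) -/
theorem split (d : LD 𝒜 S Z A J₀ L Z₁) {x : H} (hx : x ∈ L) (hx' : x • Z₁ ≠ Z₁) {u : M} (hu : u ∈ UU L Z₁) :
    ∃ v ∈ UU L Z₁, ∃ w ∈ UU L Z₁, u = v + w ∧ (∀ b ∈ A, b • v = v) ∧ ∀ b ∈ A, (x * b * x⁻¹) • w = w := by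
  let W : AddSubgroup M := fx (UU L Z₁) A ⊔ fx (UU L Z₁) (cj x A)
  have hWU : W ≤ UU L Z₁ := sup_le (fun y hy => hy.1) fun y hy => hy.1
  -- the stabiliser of `W` in the monoid sense
  let K : Subgroup H :=
    { carrier := {l | (∀ w ∈ W, l • w ∈ W) ∧ ∀ w ∈ W, l⁻¹ • w ∈ W}
      one_mem' := ⟨fun w hw => by rwa [one_smul], fun w hw => by rwa [inv_one, one_smul]⟩
      mul_mem' := fun {a b} ha hb => ⟨fun w hw => by rw [mul_smul]; exact ha.1 _ (hb.1 w hw), fun w hw => by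
        rw [mul_inv_rev, mul_smul]; exact hb.2 _ (ha.2 w hw)⟩
      inv_mem' := fun {a} ha => ⟨ha.2, fun w hw => by rw [inv_inv]; exact ha.1 w hw⟩ }
  have key : ∀ (l : H), (∀ w ∈ W, l • w - w ∈ W) → ∀ w ∈ W, l • w ∈ W := fun l h w hw => by
    have := add_mem (h w hw) hw
    rwa [sub_add_cancel] at this
  have hA : ∀ b ∈ A, ∀ w ∈ W, b • w - w ∈ W := fun b hb w hw =>
    (le_sup_left : fx (UU L Z₁) A ≤ W)
      ⟨sub_mem (smul_UU (d.AL hb) (hWU hw)) (hWU hw), fun a ha => d.quadU ha hb (hWU hw)⟩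
  have hx2 : ∀ b ∈ A, x * b * x⁻¹ ∈ L := fun b hb => L.mul_mem (L.mul_mem hx (d.AL hb)) (L.inv_mem hx)
  have hA' : ∀ b ∈ A, ∀ w ∈ W, (x * b * x⁻¹) • w - w ∈ W := fun b hb w hw =>
    (le_sup_right : fx (UU L Z₁) (cj x A) ≤ W)
      ⟨sub_mem (smul_UU (hx2 b hb) (hWU hw)) (hWU hw), fun a ha => by
        rw [mem_cj] at ha
        have h1 := d.quadU' hx ha hb (hWU hw)
        have e : x * (x⁻¹ * a * x) * x⁻¹ = a := by group
        rwa [e] at h1⟩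
  have hLK : L ≤ K := by
    refine d.gen1 hx hx' ?_ ?_ ?_
    · exact fun b hb => ⟨key b (hA b hb), key b⁻¹ (hA b⁻¹ (A.inv_mem hb))⟩
    · intro y hy
      rw [mem_cj] at hy
      have e : x * (x⁻¹ * y * x) * x⁻¹ = y := by group
      have e' : x * (x⁻¹ * y * x)⁻¹ * x⁻¹ = y⁻¹ := by group
      have h1 := hA' _ hy
      have h2 := hA' _ (A.inv_mem hy)
      rw [e] at h1
      rw [e'] at h2
      exact ⟨key y h1, key y⁻¹ h2⟩
    · exact fun j hj => ⟨fun w hw => by rwa [d.cenJU hj (hWU hw)], fun w hw => by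
        rwa [d.cenJU (J₀.inv_mem hj) (hWU hw)]⟩
  have hZA : Z₁ ≤ fx (UU L Z₁) A := fun z hz => ⟨le_UU hz, fun a ha => d.cen a ha z hz⟩
  have hZW : Z₁ ≤ W := hZA.trans le_sup_left
  have hUW : u ∈ W := by
    refine UU_induction (p := fun u => u ∈ W) ?_ W.zero_mem (fun _ _ h1 h2 => W.add_mem h1 h2) hu
    exact fun l hl z hz => (hLK hl).1 z (hZW hz)
  obtain ⟨v, hv, w, hw, e⟩ := AddSubgroup.mem_sup.1 hUW
  refine ⟨v, hv.1, w, hw.1, e.symm, hv.2, fun b hb => hw.2 _ ?_⟩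
  rw [mem_cj]
  have e : x⁻¹ * (x * b * x⁻¹) * x = b := by group
  rwa [e]

/-- the elements `l ∈ L` with `[u, l] ∈ C_U(L)` -/
def dd (L : Subgroup H) (Z₁ : AddSubgroup M) (u : M) : Subgroup H where
  carrier := {l | l ∈ L ∧ l • u - u ∈ fx (UU L Z₁) L}
  one_mem' := ⟨L.one_mem, by rw [one_smul, sub_self]; exact zero_mem _⟩
  mul_mem' := fun {l m} hl hm => ⟨L.mul_mem hl.1 hm.1, by
    have e : (l * m) • u - u = l • (m • u - u) + (l • u - u) := by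
      rw [smul_sub, mul_smul]
      abel
    rw [e, hm.2.2 l hl.1]
    exact add_mem hm.2 hl.2⟩
  inv_mem' := fun {l} hl => ⟨L.inv_mem hl.1, by
    have e : l⁻¹ • u - u = -(l⁻¹ • (l • u - u)) := by
      rw [smul_sub, inv_smul_smul]
      abel
    rw [e, hl.2.2 _ (L.inv_mem hl.1)]
    exact neg_mem hl.2⟩

theorem mem_dd {u : M} {l : H} : l ∈ dd L Z₁ u ↔ l ∈ L ∧ l • u - u ∈ fx (UU L Z₁) L := Iff.rfl

/-- (b3) `[u, L] ≤ C_U(L)` and `u` fixed by one conjugate of `A` (and by `J₀`) ==> `u` fixed by `L` -/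
theorem ker (d : LD 𝒜 S Z A J₀ L Z₁) {u : M} (hu : u ∈ UU L Z₁) (h : L ≤ dd L Z₁ u) {x : H} (hx : x ∈ L)
    (h2 : ∀ b ∈ A, (x * b * x⁻¹) • u = u) : ∀ l ∈ L, l • u = u := by
  -- conjugation invariance of the homomorphism `l ↦ l • u - u`
  have hom : ∀ l ∈ L, ∀ m ∈ L, (l * m) • u - u = (m • u - u) + (l • u - u) := by
    intro l hl m hm
    have e : (l * m) • u - u = l • (m • u - u) + (l • u - u) := by
      rw [smul_sub, mul_smul]
      abel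
    rw [e, (h hm).2.2 l hl]
  have inv : ∀ l ∈ L, l⁻¹ • u - u = -(l • u - u) := by
    intro l hl
    have := hom l⁻¹ (L.inv_mem hl) l hl
    rw [inv_mul_cancel, one_smul, sub_self] at this
    rw [eq_neg_iff_add_eq_zero, add_comm]
    exact this.symm
  have conj : ∀ g ∈ L, ∀ l ∈ L, (g * l * g⁻¹) • u - u = l • u - u := by
    intro g hg l hl
    rw [hom _ (L.mul_mem hg hl) _ (L.inv_mem hg), hom _ hg _ hl, inv g hg]
    abel
  have hb : ∀ b ∈ A, b • u = u := by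
    intro b hb
    have h1 := conj x hx b (d.AL hb)
    rw [h2 b hb, sub_self] at h1
    exact (sub_eq_zero.1 h1.symm)
  obtain ⟨g, hg, hg'⟩ := d.ne
  refine d.fix1 hg hg' hu hb fun b hb' => ?_
  have h1 := conj g hg b (d.AL hb')
  rw [hb b hb', sub_self] at h1
  exact sub_eq_zero.1 h1

theorem not_mem_kA {a : H} (ha : a ∈ A) (h : a ∉ kA A L Z₁) : ∃ g ∈ L, a • g • Z₁ ≠ g • Z₁ := by
  by_contra hc
  push Not at hc
  exact h ⟨ha, hc⟩

theorem smul_Z (d : LD 𝒜 S Z A J₀ L Z₁) {a : H} (ha : a ∈ A) : a • Z₁ = Z₁ := by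
  ext y
  rw [AddSubgroup.mem_pointwise_smul_iff_inv_smul_mem]
  constructor
  · intro hy
    have := d.cen a ha _ hy
    rw [smul_inv_smul] at this
    rwa [this]
  · intro hy
    rwa [d.cen _ (A.inv_mem ha) y hy]

theorem ne_of_moves (d : LD 𝒜 S Z A J₀ L Z₁) {a g : H} (ha : a ∈ A) (h : a • g • Z₁ ≠ g • Z₁) : g • Z₁ ≠ Z₁ := by
  intro e
  rw [e] at h
  exact h (d.smul_Z ha)

/-- (b4), first half: `C_U(a) = C_U(A)` for `a ∈ A - kA` -/
theorem fix_all (d : LD 𝒜 S Z A J₀ L Z₁) {a : H} (ha : a ∈ A) (hk : a ∉ kA A L Z₁) {u : M} (hu : u ∈ UU L Z₁)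
    (h : a • u = u) : ∀ b ∈ A, b • u = u := by
  obtain ⟨g, hg, hm⟩ := not_mem_kA ha hk
  obtain ⟨v, hv, w, hw, rfl, h1, h2⟩ := d.split hg (d.ne_of_moves ha hm) hu
  have h3 : a • w = w := by
    rw [smul_add, h1 a ha] at h
    exact add_left_cancel h
  have h4 := d.fix2 (d.AL ha) hg hm hw h3 h2
  intro b hb
  rw [smul_add, h1 b hb, h4 b (d.AL hb)]

/-- (b4), second half: `[v, a] ∈ C_U(L)` ==> `[v, a] = 0` -/
theorem comm_zero (d : LD 𝒜 S Z A J₀ L Z₁) {a : H} (ha : a ∈ A) (hk : a ∉ kA A L Z₁) {u : M} (hu : u ∈ UU L Z₁)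
    (h : ∀ l ∈ L, l • (a • u - u) = a • u - u) : a • u = u := by
  obtain ⟨g, hg, hm⟩ := not_mem_kA ha hk
  obtain ⟨v, hv, w, hw, rfl, h1, h2⟩ := d.split hg (d.ne_of_moves ha hm) hu
  have h3 : a • (v + w) - (v + w) = a • w - w := by
    rw [smul_add, h1 a ha]
    abel
  rw [h3] at h
  have haw : a ∈ dd L Z₁ w := ⟨d.AL ha, sub_mem (smul_UU (d.AL ha) hw) hw, h⟩
  have h0 : ∀ y ∈ L, y • w = w → y ∈ dd L Z₁ w := fun y hy e => ⟨hy, by
    rw [e, sub_self]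
    exact zero_mem _⟩
  have hgL : ∀ b ∈ A, g * b * g⁻¹ ∈ L := fun b hb => L.mul_mem (L.mul_mem hg (d.AL hb)) (L.inv_mem hg)
  have h5 : cj g A ≤ dd L Z₁ w := by
    intro y hy
    rw [mem_cj] at hy
    have e : g * (g⁻¹ * y * g) * g⁻¹ = y := by group
    have h6 := h0 _ (hgL _ hy) (h2 _ hy)
    rwa [e] at h6
  have h6 : cj (a * g) A ≤ dd L Z₁ w := by
    intro y hy
    rw [mem_cj] at hy
    have e : a * (g * ((a * g)⁻¹ * y * (a * g)) * g⁻¹) * a⁻¹ = y := by group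
    have h7 := (dd L Z₁ w).mul_mem ((dd L Z₁ w).mul_mem haw (h0 _ (hgL _ hy) (h2 _ hy)))
      ((dd L Z₁ w).inv_mem haw)
    rwa [e] at h7
  have h7 : J₀ ≤ dd L Z₁ w := fun j hj => h0 j (d.JL hj) (d.cenJU hj hw)
  have h8 := d.ker hw (d.gen2 (d.AL ha) hg hm h5 h6 h7) hg h2
  have h9 : a • w = w := h8 a (d.AL ha)
  rw [smul_add, h1 a ha, h9]

/-- if all vectors of a point `x • Z₁ ≠ Z₁` are fixed by `A`: contradiction -/
theorem not_fix (d : LD 𝒜 S Z A J₀ L Z₁) {x : H} (hx : x ∈ L) (hx' : x • Z₁ ≠ Z₁) :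
    ∃ z ∈ Z₁, ∃ a ∈ A, a • x • z ≠ x • z := by
  by_contra hc
  push Not at hc
  apply hx'
  have h1 : ∀ z ∈ Z₁, x • z = z := by
    intro z hz
    have h2 := d.fix1 hx hx' (smul_mem_UU hx hz) (hc z hz) (d.cen_conj hz) x⁻¹ (L.inv_mem hx)
    rw [inv_smul_smul] at h2
    exact h2.symm
  ext y
  rw [AddSubgroup.mem_smul_pointwise_iff_exists]
  constructor
  · rintro ⟨z, hz, rfl⟩
    rwa [h1 z hz]
  · exact fun hy => ⟨y, hy, h1 y hy⟩

/-- `w ∈ x • Z₁` fixed by `A` lies in `R = C_{Z₁}(L)` -/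
theorem mem_R (d : LD 𝒜 S Z A J₀ L Z₁) {x : H} (hx : x ∈ L) (hx' : x • Z₁ ≠ Z₁) {w : M} (hw : w ∈ x • Z₁)
    (h : ∀ a ∈ A, a • w = w) : w ∈ fx Z₁ L := by
  obtain ⟨z, hz, rfl⟩ := (AddSubgroup.mem_smul_pointwise_iff_exists w x Z₁).1 hw
  have h1 := d.fix1 hx hx' (smul_mem_UU hx hz) h (d.cen_conj hz)
  have h2 := h1 x⁻¹ (L.inv_mem hx)
  rw [inv_smul_smul] at h2
  rw [← h2] at h1 ⊢
  exact ⟨hz, h1⟩

/-- **(b5)** -/
theorem ti (d : LD 𝒜 S Z A J₀ L Z₁) {a x : H} (ha : a ∈ A) (hx : x ∈ L) (hx' : x • Z₁ ≠ Z₁)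
    (h : a • x • Z₁ = x • Z₁) : a ∈ kA A L Z₁ := by
  by_contra hk
  obtain ⟨z, hz, b, hb, hne⟩ := d.not_fix hx hx'
  apply hne
  have hv : x • z ∈ UU L Z₁ := smul_mem_UU hx hz
  refine d.fix_all ha hk hv ?_ b hb
  refine d.comm_zero ha hk hv ?_
  have h1 : a • x • z - x • z ∈ x • Z₁ := by
    refine sub_mem ?_ (AddSubgroup.smul_mem_pointwise_smul z x Z₁ hz)
    have h2 : a • x • z ∈ a • x • Z₁ :=
      AddSubgroup.smul_mem_pointwise_smul _ a _ (AddSubgroup.smul_mem_pointwise_smul z x Z₁ hz)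
    rwa [h] at h2
  have h2 : a • x • z - x • z ∈ UU L Z₁ := sub_mem (smul_UU (d.AL ha) hv) hv
  have h3 := d.fix_all ha hk h2 (d.quadU ha ha hv)
  exact (d.mem_R hx hx' h1 h3).2

/-- (b6) -/
theorem kA_mem (d : LD 𝒜 S Z A J₀ L Z₁) {b x : H} (hb : b ∈ kA A L Z₁) (hx : x ∈ L) {v : M} (hv : v ∈ x • Z₁) :
    b • v - v ∈ fx Z₁ L := by
  by_cases hx' : x • Z₁ = Z₁
  · rw [hx'] at hv
    rw [d.cen b hb.1 v hv, sub_self]
    exact zero_mem _
  · have h1 : b • v ∈ x • Z₁ := by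
      have := AddSubgroup.smul_mem_pointwise_smul v b _ hv
      rwa [hb.2 x hx] at this
    exact d.mem_R hx hx' (sub_mem h1 hv) fun a ha => d.quadU ha hb.1 (smul_le_UU hx hv)

/-- `A` moves a point -/
theorem not_le_kA (d : LD 𝒜 S Z A J₀ L Z₁) : ¬ A ≤ kA A L Z₁ := by
  intro hA
  obtain ⟨x, hx, hx'⟩ := d.ne
  let K : Subgroup H := MulAction.stabilizer H Z₁
  have h1 : L ≤ K := by
    refine d.gen1 hx hx' (fun a ha => MulAction.mem_stabilizer_iff.2 (d.smul_Z ha)) ?_ ?_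
    · intro y hy
      rw [mem_cj] at hy
      rw [MulAction.mem_stabilizer_iff]
      have h2 := (hA hy).2 x⁻¹ (L.inv_mem hx)
      rw [mul_smul, mul_smul, smul_inv_smul, smul_left_cancel_iff] at h2
      exact h2
    · intro j hj
      rw [MulAction.mem_stabilizer_iff]
      ext y
      rw [AddSubgroup.mem_pointwise_smul_iff_inv_smul_mem]
      constructor
      · intro hy
        have := d.cenJU hj (le_UU hy)
        rw [smul_inv_smul] at this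
        rwa [this]
      · intro hy
        rwa [d.cenJU (J₀.inv_mem hj) (le_UU hy)]
  exact hx' (MulAction.mem_stabilizer_iff.1 (h1 hx))

end LD

end Cfsg.Agent.Omega.OM.YThm
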