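import Cfsg.Agent.Omega.OM.YThm.Odd

/-!
# THEOREM Y, companion for the case (4F): the field `YX.big`

`Co.big` : an element of odd order of the stabiliser of `Z` and `Z_J` which moves a component `Z i` permutes the components
of `Z_J` with a cycle of length at least three, so `|Z_J : C_{Z_J}(g)| ≥ q²`.
-/

set_option autoImplicit false

namespace Cfsg.Agent.Omega.OM.YThm

open Subgroup Cfsg.Agent.ZN Cfsg.Agent.ZN.ChoiceBase Cfsg.Agent.ZN.ChoiceSit
open scoped Pointwise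

namespace Big

open Odd3

variable {H : Type*} [Group H] {M : Type*} [AddCommGroup M] [DistribMulAction H M] {F : Type} [Field F]
  {S : Subgroup H} {V ZJ : AddSubgroup M} {k : ℕ} {e : M → Fin k → Fin 2 → F}

theorem e_zero (h : Co F S V ZJ k e) : e 0 = 0 := by
  have := sub h (V.zero_mem) (V.zero_mem)
  simpa using this

/-- powers -/
theorem pow_coord {g : H} (hgm : ∀ z ∈ ZJ, g • z ∈ ZJ) {π : Equiv.Perm (Fin k)} {a : Fin k → F}
    {σ : Fin k → F ≃+* F} (hπ : ∀ z ∈ ZJ, ∀ i, e (g • z) (π i) 0 = a i * σ i (e z i 0)) {z : M} (hz : z ∈ ZJ)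
    (i : Fin k) (hzi : ∀ j, j ≠ i → e z j 0 = 0) (n : ℕ) :
    g ^ n • z ∈ ZJ ∧ ∀ j, j ≠ (π ^ n) i → e (g ^ n • z) j 0 = 0 := by
  induction n with
  | zero =>
    rw [pow_zero, pow_zero, one_smul]
    exact ⟨hz, hzi⟩
  | succ n ih =>
    obtain ⟨h1, h2⟩ := ih
    have e1 : g ^ (n + 1) • z = g • g ^ n • z := by rw [pow_succ', mul_smul]
    rw [e1]
    refine ⟨hgm _ h1, fun j hj => ?_⟩
    obtain ⟨j', rfl⟩ := π.surjective j
    rw [hπ _ h1 j', h2 j', map_zero, mul_zero]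
    rintro rfl
    apply hj
    rw [pow_succ', Equiv.Perm.mul_apply]

/-- a vector with one given coordinate -/
theorem exists_one (h : Co F S V ZJ k e) (i : Fin k) : ∃ z ∈ ZJ, z ≠ 0 ∧ ∀ j, j ≠ i → e z j 0 = 0 := by
  obtain ⟨z, hz, hez⟩ := exZ h (fun j => if j = i then (1 : F) else 0)
  refine ⟨z, hz, ?_, fun j hj => by rw [hez, if_neg hj]⟩
  rintro rfl
  have := hez i
  rw [e_zero h, if_pos rfl] at this
  exact zero_ne_one this

theorem two_ne (h : Co F S V ZJ k e) {g : H} (hgm : ∀ z ∈ ZJ, g • z ∈ ZJ) {π : Equiv.Perm (Fin k)} {a : Fin k → F}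
    {σ : Fin k → F ≃+* F} (hπ : ∀ z ∈ ZJ, ∀ i, e (g • z) (π i) 0 = a i * σ i (e z i 0)) {n : ℕ} (hn : Odd n)
    (hg : g ^ n = 1) {i : Fin k} (hi : π i ≠ i) : π (π i) ≠ i := by
  intro h2
  apply hi
  obtain ⟨z, hz, hz0, hzi⟩ := exists_one h i
  obtain ⟨h3, h4⟩ := pow_coord hgm hπ hz i hzi n
  rw [hg, one_smul] at h4
  have hpi : (π ^ n) i = i := by
    by_contra hne
    apply hz0
    apply extZ h hz ZJ.zero_mem
    intro j
    rw [e_zero h]
    show e z j 0 = 0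
    by_cases hj : j = i
    · subst hj
      exact h4 _ (Ne.symm hne)
    · exact hzi j hj
  obtain ⟨m, rfl⟩ := hn
  have hsq : ∀ m : ℕ, (π ^ (2 * m)) i = i := by
    intro m
    induction m with
    | zero => simp
    | succ m ih =>
      rw [mul_add, mul_one, pow_add, Equiv.Perm.mul_apply, pow_two, Equiv.Perm.mul_apply, h2, ih]
  rw [pow_succ', Equiv.Perm.mul_apply, hsq] at hpi
  exact hpi

theorem card_fx [Finite M] [Finite F] (h : Co F S V ZJ k e) {g : H} {π : Equiv.Perm (Fin k)} {a : Fin k → F}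
    {σ : Fin k → F ≃+* F} (hπ : ∀ z ∈ ZJ, ∀ i, e (g • z) (π i) 0 = a i * σ i (e z i 0)) {i : Fin k} (h1 : π i ≠ i)
    (h2 : π (π i) ≠ i) :
    Nat.card F * Nat.card F * Nat.card (fx ZJ (zpowers g)) ≤ Nat.card ZJ := by
  classical
  have h3 : π (π i) ≠ π i := fun e1 => h1 (π.injective e1)
  have hfix : ∀ z ∈ fx ZJ (zpowers g), z ∈ ZJ ∧ g • z = z := fun z hz =>
    ⟨hz.1, hz.2 g (mem_zpowers g)⟩
  -- the map
  have hex : ∀ t : F × F × fx ZJ (zpowers g), ∃ w ∈ ZJ, ∀ j, e w j 0 =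
      if j = π i then t.1 else if j = π (π i) then t.2.1 else e (t.2.2 : M) j 0 := fun t =>
    exZ h _
  choose φ hφ hφe using hex
  rw [← Nat.card_prod, ← Nat.card_prod, Nat.card_congr (Equiv.prodAssoc F F (fx ZJ (zpowers g)))]
  apply Nat.card_le_card_of_injective (fun t => (⟨φ t, hφ t⟩ : ZJ))
  rintro ⟨u, v, z⟩ ⟨u', v', z'⟩ e0
  have e1 : φ (u, v, z) = φ (u', v', z') := congrArg Subtype.val e0
  have hu : u = u' := by
    have k1 := hφe (u, v, z) (π i)
    have k2 := hφe (u', v', z') (π i)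
    rw [if_pos rfl] at k1 k2
    exact (k1.symm.trans (by rw [e1])).trans k2
  have hv : v = v' := by
    have k1 := hφe (u, v, z) (π (π i))
    have k2 := hφe (u', v', z') (π (π i))
    rw [if_neg h3, if_pos rfl] at k1 k2
    exact (k1.symm.trans (by rw [e1])).trans k2
  have ho : ∀ j, j ≠ π i → j ≠ π (π i) → e (z : M) j 0 = e (z' : M) j 0 := by
    intro j hj hj'
    have k1 := hφe (u, v, z) j
    have k2 := hφe (u', v', z') j
    rw [if_neg hj, if_neg hj'] at k1 k2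
    rw [← k1, ← k2, e1]
  obtain ⟨hz, hgz⟩ := hfix z z.2
  obtain ⟨hz', hgz'⟩ := hfix z' z'.2
  have hi : e (z : M) i 0 = e (z' : M) i 0 := ho i (Ne.symm h1) (Ne.symm h2)
  have hi1 : e (z : M) (π i) 0 = e (z' : M) (π i) 0 := by
    have k1 := hπ _ hz i
    have k2 := hπ _ hz' i
    rw [hgz] at k1
    rw [hgz'] at k2
    rw [k1, k2, hi]
  have hi2 : e (z : M) (π (π i)) 0 = e (z' : M) (π (π i)) 0 := by
    have k1 := hπ _ hz (π i)
    have k2 := hπ _ hz' (π i)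
    rw [hgz] at k1
    rw [hgz'] at k2
    rw [k1, k2, hi1]
  have hzz : z = z' := by
    apply Subtype.ext
    apply extZ h hz hz'
    intro j
    by_cases hj : j = π i
    · rw [hj]; exact hi1
    by_cases hj' : j = π (π i)
    · rw [hj']; exact hi2
    exact ho j hj hj'
  rw [hu, hv, hzz]

end Big

open Odd3 Big in
/-- The field `YX.big`. -/
theorem Co.big {H : Type*} [Group H] {M : Type*} [AddCommGroup M] [DistribMulAction H M] [Finite M] {F : Type}
    [Field F] [Finite F] {S : Subgroup H} {V ZJ : AddSubgroup M} {k : ℕ} {e : M → Fin k → Fin 2 → F}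
    (h : Co F S V ZJ k e) (hq : 4 ≤ Nat.card F) {Z : AddSubgroup M} (hZ : Z ≤ ZJ) {Zi : Fin k → AddSubgroup M}
    (hZi : ∀ i z, z ∈ Zi i ↔ z ∈ Z ∧ ∀ j, j ≠ i → e z j 0 = 0)
    (hsem : ∀ g : H, g • ZJ = ZJ → ∃ (π : Equiv.Perm (Fin k)) (a : Fin k → F) (σ : Fin k → F ≃+* F),
      ∀ z ∈ ZJ, ∀ i, e (g • z) (π i) 0 = a i * σ i (e z i 0)) :
    ∀ g : H, g • Z = Z → g • ZJ = ZJ → Odd (orderOf g) → (∃ i, g • Zi i ≠ Zi i) →
      4 * Nat.card (fx ZJ (zpowers g)) < Nat.card ZJ := by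
  classical
  intro g hgZ hgJ hodd hne
  obtain ⟨i, hi⟩ := hne
  obtain ⟨π, a, σ, hπ⟩ := hsem g hgJ
  have hgm : ∀ z ∈ ZJ, g • z ∈ ZJ := fun z hz => by
    rw [← hgJ]
    exact AddSubgroup.smul_mem_pointwise_smul _ _ _ hz
  have hgmZ : ∀ z ∈ Z, g • z ∈ Z := fun z hz => by
    rw [← hgZ]
    exact AddSubgroup.smul_mem_pointwise_smul _ _ _ hz
  have h1 : π i ≠ i := by
    intro h1
    apply hi
    have hle : g • Zi i ≤ Zi i := by
      intro y hy
      obtain ⟨z, hz, rfl⟩ := (AddSubgroup.mem_smul_pointwise_iff_exists _ _ _).1 hy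
      obtain ⟨hzZ, hz0⟩ := (hZi i z).1 hz
      refine (hZi i _).2 ⟨hgmZ z hzZ, fun j hj => ?_⟩
      obtain ⟨j', rfl⟩ := π.surjective j
      rw [hπ z (hZ hzZ) j', hz0 j', map_zero, mul_zero]
      rintro rfl
      exact hj h1
    refine AddSubgroup.eq_of_le_of_card_ge hle ?_
    refine Nat.card_le_card_of_injective
      (fun z : Zi i => (⟨g • (z : M), AddSubgroup.smul_mem_pointwise_smul _ _ _ z.2⟩ : (g • Zi i : AddSubgroup M)))
      fun z z' hzz => ?_
    have := congrArg Subtype.val hzz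
    exact Subtype.ext (MulAction.injective g this)
  have h2 := two_ne h hgm hπ hodd (pow_orderOf_eq_one g) h1
  have h3 := card_fx h hπ h1 h2
  have h4 : 0 < Nat.card (fx ZJ (zpowers g)) := Nat.card_pos
  have h5 : 16 ≤ Nat.card F * Nat.card F := Nat.mul_le_mul hq hq
  have h6 : 16 * Nat.card (fx ZJ (zpowers g)) ≤ Nat.card ZJ := (Nat.mul_le_mul_right _ h5).trans h3
  omega

end Cfsg.Agent.Omega.OM.YThm
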