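import Cfsg.Agent.Omega.OM.YThm.Def

/-!
# Coordinates for THEOREM Y (input of LEMMA V and of `YS0.odd`)

* `Cd F B V ZJ k e` : coordinates `e : G → Fin k → Fin 2 → F` on `V = ⊕ W i`, `ZJ = {v | v i 1 = 0}`, `B` acts as
  `∏ {up b}` (`NatK` gives this);
* `Co F S V Z k e` : the same in a module `M`; `S` acts on `V / Z` and on `Z` by permutations of the indices and field
  automorphisms without scalars.
-/

set_option autoImplicit false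

namespace Cfsg.Agent.Omega.OM.YThm

open Subgroup Cfsg.Agent.ZN Cfsg.Agent.ZN.ChoiceBase Cfsg.Agent.ZN.ChoiceSit
open scoped Pointwise

/-- Coordinates on `V ≤ G`. -/
structure Cd {G : Type*} [Group G] (F : Type) [Field F] (B V ZJ : Subgroup G) (k : ℕ) (e : G → Fin k → Fin 2 → F) :
    Prop where
  VV : ∀ v ∈ V, ∀ w ∈ V, v * w = w * v
  mul : ∀ v ∈ V, ∀ w ∈ V, e (v * w) = e v + e w
  surj : ∀ x : Fin k → Fin 2 → F, ∃ v ∈ V, e v = x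
  inj : ∀ v ∈ V, e v = 0 → v = 1
  ZV : ZJ ≤ V
  memZ : ∀ v ∈ V, v ∈ ZJ ↔ ∀ i, e v i 1 = 0
  nB : ∀ b ∈ B, ∀ v ∈ V, b * v * b⁻¹ ∈ V
  act : ∀ b ∈ B, ∃ c : Fin k → F, ∀ v ∈ V, ∀ i,
    e (b * v * b⁻¹) i 0 = e v i 0 + c i * e v i 1 ∧ e (b * v * b⁻¹) i 1 = e v i 1
  full : ∀ c : Fin k → F, ∃ b ∈ B, ∀ v ∈ V, ∀ i,
    e (b * v * b⁻¹) i 0 = e v i 0 + c i * e v i 1 ∧ e (b * v * b⁻¹) i 1 = e v i 1

/-- Coordinates on `V ≤ M` without scalars. -/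
structure Co {H : Type*} [Group H] {M : Type*} [AddCommGroup M] [DistribMulAction H M] (F : Type) [Field F]
    (S : Subgroup H) (V Z : AddSubgroup M) (k : ℕ) (e : M → Fin k → Fin 2 → F) : Prop where
  add : ∀ v ∈ V, ∀ w ∈ V, e (v + w) = e v + e w
  surj : ∀ x : Fin k → Fin 2 → F, ∃ v ∈ V, e v = x
  inj : ∀ v ∈ V, e v = 0 → v = 0
  ZV : Z ≤ V
  memZ : ∀ v ∈ V, v ∈ Z ↔ ∀ i, e v i 1 = 0
  SV : ∀ s ∈ S, ∀ v ∈ V, s • v ∈ V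
  act : ∀ s ∈ S, ∃ (π : Equiv.Perm (Fin k)) (σ : Fin k → F ≃+* F),
    (∀ v ∈ V, ∀ i, e (s • v) (π i) 1 = σ i (e v i 1)) ∧ ∀ z ∈ Z, ∀ i, e (s • z) (π i) 0 = σ i (e z i 0)
  up : ∀ s ∈ S, (∀ z ∈ Z, s • z = z) → ∃ b : Fin k → F, ∀ v ∈ V, ∀ i,
    e (s • v) i 0 = e v i 0 + b i * e v i 1 ∧ e (s • v) i 1 = e v i 1

end Cfsg.Agent.Omega.OM.YThm
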