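import Cfsg.Agent.ZN.ChoiceSit

/-!
# THEOREM Y (NO-3S, `V_P` natural `SL₂(q)^k`, `k ≥ 2`, `q ≥ 4`): the abstract situation

helper743 #16998, helper350 #19419.  A finite group `H` acts on a finite elementary abelian 2-group `M` (written
additively); in the application `H = C_G(Z) / C(W)`, `M = W = ⟨V^{C_G(Z)}⟩`, `𝒜` = images of the members of `𝒜(S^c)`,
`Z = Z_J = ⊕ Z i`, `V = V_P`.

* `fx X A = C_X(A)`, `ct A X = C_A(X)`, `El M A` : `A` is a 2-group acting as an elementary abelian group;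
* `YS0 𝒜 S Zi Z`, `YS 𝒜 S Zi Z V` : the situation (`YS` extends `YS0` by `four`, `ZV`, `SV`, `lemV`);
* `YX 𝒜 S Zi Z ZJ V` : the companion for the case `(4F)`;
* `LD 𝒜 S Z A J₀ L Z₁` : the minimal subgroup `L`, points are the `l • Z₁`, `l ∈ L`.
-/

set_option autoImplicit false

namespace Cfsg.Agent.Omega.OM.YThm

open Subgroup Cfsg.Agent.ZN Cfsg.Agent.ZN.ChoiceBase Cfsg.Agent.ZN.ChoiceSit
open scoped Pointwise

variable {H : Type*} [Group H] {M : Type*} [AddCommGroup M] [DistribMulAction H M]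

/-- `C_X(A)` -/
def fx (X : AddSubgroup M) (A : Subgroup H) : AddSubgroup M where
  carrier := {x | x ∈ X ∧ ∀ a ∈ A, a • x = x}
  zero_mem' := ⟨X.zero_mem, fun a _ => smul_zero a⟩
  add_mem' := fun {x y} hx hy => ⟨X.add_mem hx.1 hy.1, fun a ha => by rw [smul_add, hx.2 a ha, hy.2 a ha]⟩
  neg_mem' := fun {x} hx => ⟨X.neg_mem hx.1, fun a ha => by rw [smul_neg, hx.2 a ha]⟩

/-- `C_A(X)` -/
def ct (A : Subgroup H) (X : AddSubgroup M) : Subgroup H where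
  carrier := {a | a ∈ A ∧ ∀ x ∈ X, a • x = x}
  one_mem' := ⟨A.one_mem, fun x _ => one_smul H x⟩
  mul_mem' := fun {a b} ha hb => ⟨A.mul_mem ha.1 hb.1, fun x hx => by rw [mul_smul, hb.2 x hx, ha.2 x hx]⟩
  inv_mem' := fun {a} ha => ⟨A.inv_mem ha.1, fun x hx => by rw [inv_smul_eq_iff, ha.2 x hx]⟩

theorem mem_fx {X : AddSubgroup M} {A : Subgroup H} {x : M} : x ∈ fx X A ↔ x ∈ X ∧ ∀ a ∈ A, a • x = x := Iff.rfl

theorem mem_ct {X : AddSubgroup M} {A : Subgroup H} {a : H} : a ∈ ct A X ↔ a ∈ A ∧ ∀ x ∈ X, a • x = x := Iff.rfl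

variable (M) in
/-- `A` is a 2-group which acts on `M` as an elementary abelian group. -/
structure El (A : Subgroup H) : Prop where
  pg : IsPGroup 2 A
  comm : ∀ a ∈ A, ∀ b ∈ A, ∀ x : M, a • b • x = b • a • x
  sq : ∀ a ∈ A, ∀ x : M, a • a • x = x

/-- the elements of `A` which fix all points `l • Z₁`, `l ∈ L` -/
def kA (A L : Subgroup H) (Z₁ : AddSubgroup M) : Subgroup H where
  carrier := {a | a ∈ A ∧ ∀ l ∈ L, a • l • Z₁ = l • Z₁}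
  one_mem' := ⟨A.one_mem, fun l _ => one_smul H _⟩
  mul_mem' := fun {a b} ha hb => ⟨A.mul_mem ha.1 hb.1, fun l hl => by rw [mul_smul, hb.2 l hl, ha.2 l hl]⟩
  inv_mem' := fun {a} ha => ⟨A.inv_mem ha.1, fun l hl => by rw [inv_smul_eq_iff, ha.2 l hl]⟩

theorem mem_kA {A L : Subgroup H} {Z₁ : AddSubgroup M} {a : H} :
    a ∈ kA A L Z₁ ↔ a ∈ A ∧ ∀ l ∈ L, a • l • Z₁ = l • Z₁ := Iff.rfl

/-- The common part of the situation of THEOREM Y and of its `(4F)` companion (there `Z i = ⟨z i⟩`, `Z = η = ∏ ⟨z i⟩`). -/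
structure YS0 (𝒜 : Set (Subgroup H)) (S : Subgroup H) {ι : Type*} [Fintype ι] (Zi : ι → AddSubgroup M)
    (Z : AddSubgroup M) : Prop where
  two : ∀ x : M, x + x = 0
  cjA : ∀ A ∈ 𝒜, ∀ g : H, cj g A ∈ 𝒜
  el : ∀ A ∈ 𝒜, El M A
  /-- `|X : C_X(A)| ≤ |A : C_A(X)|` -/
  ff : ∀ A ∈ 𝒜, ∀ X : AddSubgroup M, (∀ a ∈ A, ∀ x ∈ X, a • x ∈ X) →
    Nat.card X * Nat.card (ct A X) ≤ Nat.card A * Nat.card (fx X A)
  /-- Timmesfeld replacement -/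
  rep : ∀ A ∈ 𝒜, ∀ X : AddSubgroup M, (∀ a ∈ A, ∀ x ∈ X, a • x ∈ X) → (∃ a ∈ A, ∃ x ∈ X, a • x ≠ x) →
    ∃ A' ∈ 𝒜, A' ≤ A ∧ (∃ a ∈ A', ∃ x ∈ X, a • x ≠ x) ∧
      ∀ a ∈ A', ∀ b ∈ A', ∀ x ∈ X, a • (b • x - x) = b • x - x
  syl : Syl S ⊤
  /-- `Z` is determined by the members in `S` -/
  det : ∀ g : H, (∀ A ∈ 𝒜, A ≤ S → A ≤ cj g S) → g • Z = Z
  cen : ∀ A ∈ 𝒜, A ≤ S → ∀ a ∈ A, ∀ z ∈ Z, a • z = z
  /-- `Z = ⊕ Zi` -/
  ZiZ : ∀ i, Zi i ≤ Z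
  dec : ∀ z ∈ Z, ∃ f : ι → M, (∀ i, f i ∈ Zi i) ∧ z = ∑ i, f i
  uni : ∀ f : ι → M, (∀ i, f i ∈ Zi i) → ∑ i, f i = 0 → ∀ i, f i = 0
  /-- the stabiliser of `Z` permutes the `Zi` -/
  prm : ∀ g : H, g • Z = Z → ∀ i, ∃ j, g • Zi i = Zi j
  odd : ∀ g : H, g • Z = Z → Odd (orderOf g) → ∀ i, g • Zi i = Zi i → ∀ z ∈ Zi i, g • z = z

/-- The situation of THEOREM Y. -/
structure YS (𝒜 : Set (Subgroup H)) (S : Subgroup H) {ι : Type*} [Fintype ι] (Zi : ι → AddSubgroup M)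
    (Z V : AddSubgroup M) : Prop extends YS0 𝒜 S Zi Z where
  four : ∀ i, 4 ≤ Nat.card (Zi i)
  ZV : Z ≤ V
  SV : ∀ s ∈ S, s • V = V
  /-- LEMMA V: `|E : C_E(V)| |Z : C_Z(E)| ≤ |V : C_V(E)|` -/
  lemV : ∀ E : Subgroup H, E ≤ S → El M E →
    Nat.card E * Nat.card Z * Nat.card (fx V E) ≤ Nat.card (ct E V) * Nat.card (fx Z E) * Nat.card V

/-- The situation of the companion for the case `(4F)`: `Z = η = ∏ ⟨z i⟩`, `ZJ = ∏ (Z_J) i`. -/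
structure YX (𝒜 : Set (Subgroup H)) (S : Subgroup H) {ι : Type*} [Fintype ι] (Zi : ι → AddSubgroup M)
    (Z ZJ V : AddSubgroup M) : Prop extends YS0 𝒜 S Zi Z where
  twoi : ∀ i, Nat.card (Zi i) = 2
  ZZJ : Z ≤ ZJ
  ZV : ZJ ≤ V
  cenJ : ∀ A ∈ 𝒜, A ≤ S → ∀ a ∈ A, ∀ z ∈ ZJ, a • z = z
  SV : ∀ s ∈ S, s • V = V
  /-- an element which normalises `Z` and `ZJ` and moves some `Z i` has a big commutator on `ZJ` -/
  big : ∀ g : H, g • Z = Z → g • ZJ = ZJ → Odd (orderOf g) → (∃ i, g • Zi i ≠ Zi i) →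
    4 * Nat.card (fx ZJ (zpowers g)) < Nat.card ZJ
  lemV : ∀ E : Subgroup H, E ≤ S → El M E →
    Nat.card E * Nat.card ZJ * Nat.card (fx V E) ≤ Nat.card (ct E V) * Nat.card (fx ZJ E) * Nat.card V

/-- The minimal subgroup `L` (steps (1), (2)).  Its points are the `l • Z₁`, `l ∈ L`; `L₀` is the stabiliser of `Z₁`. -/
structure LD (𝒜 : Set (Subgroup H)) (S : Subgroup H) (Z : AddSubgroup M) (A J₀ L : Subgroup H)
    (Z₁ : AddSubgroup M) : Prop where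
  mem : A ∈ 𝒜
  AL : A ≤ L
  JL : J₀ ≤ L
  JN : ∀ l ∈ L, cj l J₀ = J₀
  ne : ∃ l ∈ L, l • Z₁ ≠ Z₁
  /-- `L = ⟨A, A^x⟩ J₀` for all `x` outside `L₀` -/
  gen : ∀ x ∈ L, x • Z₁ ≠ Z₁ → A ⊔ cj x A ⊔ J₀ = L
  /-- `L₀` is the only maximal subgroup of `L` over `A J₀` -/
  max : ∀ X : Subgroup H, A ≤ X → J₀ ≤ X → X < L → ∀ x ∈ X, x • Z₁ = Z₁
  cen : ∀ a ∈ A, ∀ z ∈ Z₁, a • z = z
  cenJ : ∀ j ∈ J₀, ∀ l ∈ L, ∀ z ∈ Z₁, j • l • z = l • z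
  quad : ∀ a ∈ A, ∀ b ∈ A, ∀ l ∈ L, ∀ z ∈ Z₁, a • (b • l • z - l • z) = b • l • z - l • z
  /-- 2-subgroups of `L` over `A J₀` -/
  syl : ∀ T : Subgroup H, A ≤ T → J₀ ≤ T → T ≤ L → IsPGroup 2 T → ∃ g : H, T ≤ cj g S ∧ g • Z = Z₁
  J2 : IsPGroup 2 J₀

/-- alias of `LD.J2` -/
theorem LD.pgJ {𝒜 : Set (Subgroup H)} {S : Subgroup H} {Z : AddSubgroup M} {A J₀ L : Subgroup H}
    {Z₁ : AddSubgroup M} (h : LD 𝒜 S Z A J₀ L Z₁) : IsPGroup 2 J₀ := h.J2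

end Cfsg.Agent.Omega.OM.YThm
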