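import Cfsg.Agent.Omega.OM.YThm.Def

/-!
# (K) of LEMMA V (TCARD 5, D1)

An elementary abelian 2-group `E` acting by ring automorphisms on a finite reduced commutative ring `R` of
characteristic 2 satisfies `|E / C_E(R)| ≤ |R / C_R(E)|`.  (No orbits, no Galois theory: take `E₁` maximal in `E` with
`C_R(E₁) ≠ C_R(E)`; if `a, b, ab ∉ E₁`, then for `x ∈ C_R(E₁)` and `t_c := x + c x` one gets
`x (x + t_a + t_b) = x (ab x) = (a x) (b x) = (x + t_a) (x + t_b)`, so `t_a t_b = 0`, similarly `t_a t_{ab} = 0`,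
so `t_a² = 0`, `t_a = 0`.)
-/

set_option autoImplicit false

namespace Cfsg.Agent.Omega.OM.YThm.LemK

open Subgroup

variable {H : Type*} [Group H] {R : Type*} [CommRing R]

/-- `f` is an action of the subgroup `E` on the ring `R` by automorphisms of order at most 2 which commute. -/
structure RA (f : H → R → R) (E : Subgroup H) : Prop where
  two : ∀ x : R, x + x = 0
  one : ∀ x, f 1 x = x
  mul : ∀ a ∈ E, ∀ b ∈ E, ∀ x, f (a * b) x = f a (f b x)
  add : ∀ a ∈ E, ∀ x y, f a (x + y) = f a x + f a y
  tim : ∀ a ∈ E, ∀ x y, f a (x * y) = f a x * f a y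
  sq : ∀ a ∈ E, ∀ x, f a (f a x) = x
  comm : ∀ a ∈ E, ∀ b ∈ E, ∀ x, f a (f b x) = f b (f a x)

variable {f : H → R → R} {E : Subgroup H}

theorem RA.mono (h : RA f E) {X : Subgroup H} (hX : X ≤ E) : RA f X where
  two := h.two
  one := h.one
  mul a ha b hb := h.mul a (hX ha) b (hX hb)
  add a ha := h.add a (hX ha)
  tim a ha := h.tim a (hX ha)
  sq a ha := h.sq a (hX ha)
  comm a ha b hb := h.comm a (hX ha) b (hX hb)

theorem RA.zero (h : RA f E) {a : H} (ha : a ∈ E) : f a 0 = 0 := by
  have := h.add a ha 0 0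
  rw [add_zero] at this
  exact left_eq_add.1 this

/-- fixed elements -/
def fxR (h : RA f E) : AddSubgroup R where
  carrier := {x | ∀ a ∈ E, f a x = x}
  zero_mem' := fun a ha => h.zero ha
  add_mem' := fun {x y} hx hy a ha => by rw [h.add a ha, hx a ha, hy a ha]
  neg_mem' := fun {x} hx a ha => by
    have e : -x = x := neg_eq_of_add_eq_zero_left (h.two x)
    rw [e]; exact hx a ha

/-- the kernel -/
def kr (h : RA f E) : Subgroup H where
  carrier := {a | a ∈ E ∧ ∀ x, f a x = x}
  one_mem' := ⟨E.one_mem, h.one⟩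
  mul_mem' := fun {a b} ha hb => ⟨E.mul_mem ha.1 hb.1, fun x => by rw [h.mul a ha.1 b hb.1, hb.2, ha.2]⟩
  inv_mem' := fun {a} ha => ⟨E.inv_mem ha.1, fun x => by
    have := h.mul a ha.1 a⁻¹ (E.inv_mem ha.1) x
    rw [mul_inv_cancel, h.one, ha.2] at this
    exact this.symm⟩

theorem RA.inv (h : RA f E) {a : H} (ha : a ∈ E) (x : R) : f a⁻¹ x = f a x := by
  have := h.mul a⁻¹ (E.inv_mem ha) a ha (f a x)
  rw [inv_mul_cancel, h.one, h.sq a ha] at this
  exact this.symm

/-- the four-group argument -/
theorem RA.four (h : RA f E) (red : ∀ x : R, x * x = 0 → x = 0) {X : Subgroup H} (hX : X ≤ E)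
    (hmax : ∀ a ∈ E, a ∉ X → ∀ x, (∀ c ∈ X, f c x = x) → f a x = x → ∀ c ∈ E, f c x = x)
    {a b : H} (ha : a ∈ E) (hb : b ∈ E) (hbX : b ∉ X) (habX : a * b ∉ X) {x : R}
    (hx : ∀ c ∈ X, f c x = x) : f a x = x := by
  have hab := E.mul_mem ha hb
  have hneg : ∀ y : R, -y = y := fun y => neg_eq_of_add_eq_zero_left (h.two y)
  -- traces and norms are fixed by `E`
  have tr : ∀ c ∈ E, c ∉ X → ∀ d ∈ E, f d (x + f c x) = x + f c x := by
    intro c hc hcX
    refine hmax c hc hcX _ (fun d hd => ?_) ?_
    · rw [h.add d (hX hd), hx d hd, h.comm d (hX hd) c hc, hx d hd]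
    · rw [h.add c hc, h.sq c hc, add_comm]
  have nm : ∀ c ∈ E, c ∉ X → ∀ d ∈ E, f d (x * f c x) = x * f c x := by
    intro c hc hcX
    refine hmax c hc hcX _ (fun d hd => ?_) ?_
    · rw [h.tim d (hX hd), hx d hd, h.comm d (hX hd) c hc, hx d hd]
    · rw [h.tim c hc, h.sq c hc, mul_comm]
  set s := x + f a x with hs
  set t := x + f b x with ht
  have ea : f a x = x + s := by rw [hs, ← add_assoc, h.two, zero_add]
  have eb : f b x = x + t := by rw [ht, ← add_assoc, h.two, zero_add]
  have eab : f (a * b) x = x + s + t := by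
    rw [h.mul a ha b hb, eb, h.add a ha, ea, tr b hb hbX a ha]
  -- `x (ab x) = (a x) (b x)`
  have e1 : x * (x + s + t) = (x + s) * (x + t) := by
    have := nm _ hab habX a ha
    rw [h.tim a ha, h.mul a ha b hb, h.sq a ha, ← h.mul a ha b hb, eab, ea, eb] at this
    exact this.symm
  -- `x (b x) = (a x) (ab x)`
  have e2 : x * (x + t) = (x + s) * (x + s + t) := by
    have := nm _ hb hbX a ha
    rw [h.tim a ha, ← h.mul a ha b hb, eab, ea, eb] at this
    exact this.symm
  have e3 : s * t = 0 := by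
    have : (x + s) * (x + t) = x * (x + s + t) + s * t := by ring
    rw [← e1] at this
    exact left_eq_add.1 this
  have e4 : s * s = 0 := by
    have : (x + s) * (x + s + t) = x * (x + t) + (x * s + x * s) + s * s + s * t := by ring
    rw [h.two, e3, add_zero, add_zero, ← e2] at this
    exact left_eq_add.1 this
  rw [ea, red s e4, add_zero]

variable [Finite H] [Finite R]

/-- (K) -/
theorem RA.main (red : ∀ x : R, x * x = 0 → x = 0) : ∀ (n : ℕ) (E : Subgroup H) (h : RA f E), Nat.card E ≤ n →
    Nat.card E * Nat.card (fxR h) ≤ Nat.card (kr h) * Nat.card R := by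
  intro n
  induction n with
  | zero =>
    intro E h hn
    have : 0 < Nat.card E := Nat.card_pos
    omega
  | succ n ih =>
    intro E h hn
    classical
    by_cases htriv : ∀ a ∈ E, ∀ x, f a x = x
    · have e1 : kr h = E := le_antisymm (fun a ha => ha.1) (fun a ha => ⟨ha, htriv a ha⟩)
      rw [e1]
      exact Nat.mul_le_mul_left _ (Nat.card_le_card_of_injective _ Subtype.val_injective)
    · push Not at htriv
      -- the subgroups with more fixed elements than `E`
      let S : Set (Subgroup H) := {X | X ≤ E ∧ ∃ x, (∀ c ∈ X, f c x = x) ∧ ∃ c ∈ E, f c x ≠ x}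
      have hS : S.Nonempty := by
        obtain ⟨a, ha, x, hx⟩ := htriv
        exact ⟨kr h, fun a ha => ha.1, x, fun c hc => hc.2 x, a, ha, hx⟩
      obtain ⟨X, hXmax⟩ := (Set.toFinite S).exists_maximal hS
      obtain ⟨hXE, x₀, hx₀, c₀, hc₀, hne⟩ := hXmax.prop
      have hmax : ∀ a ∈ E, a ∉ X → ∀ x, (∀ c ∈ X, f c x = x) → f a x = x → ∀ c ∈ E, f c x = x := by
        intro a ha haX x hx hax
        by_contra hc
        push Not at hc
        let Y : Subgroup H :=
          { carrier := {c | c ∈ E ∧ f c x = x}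
            one_mem' := ⟨E.one_mem, h.one x⟩
            mul_mem' := fun {c d} hc hd => ⟨E.mul_mem hc.1 hd.1, by rw [h.mul c hc.1 d hd.1, hd.2, hc.2]⟩
            inv_mem' := fun {c} hc => ⟨E.inv_mem hc.1, by rw [h.inv hc.1, hc.2]⟩ }
        have hYS : Y ∈ S := ⟨fun c hc => hc.1, x, fun c hc => hc.2, hc⟩
        have hXY : X ≤ Y := fun c hc => ⟨hXE hc, hx c hc⟩
        have := hXmax.le_of_ge hYS hXY
        exact haX (this ⟨ha, hax⟩)
      have hXne : X ≠ E := by
        rintro rfl
        exact hne (hx₀ c₀ hc₀)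
      obtain ⟨a, ha, haX⟩ := SetLike.exists_of_lt (lt_of_le_of_ne hXE hXne)
      -- E = X ∪ a X
      have hcov : ∀ b ∈ E, b ∉ X → a * b ∈ X := by
        intro b hb hbX
        by_contra habX
        have h1 := h.four red hXE hmax ha hb hbX habX hx₀
        exact hne (hmax a ha haX x₀ hx₀ h1 c₀ hc₀)
      have hcardE : Nat.card E ≤ 2 * Nat.card X := by
        have hsub : (E : Set H) ⊆ (X : Set H) ∪ (fun k => a⁻¹ * k) '' (X : Set H) := by
          intro b hb
          by_cases hbX : b ∈ X
          · exact Or.inl hbX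
          · exact Or.inr ⟨a * b, hcov b hb hbX, by group⟩
        have h1 := Set.ncard_le_ncard hsub (Set.toFinite _)
        have h2 := Set.ncard_union_le (X : Set H) ((fun k => a⁻¹ * k) '' (X : Set H))
        have h3 := Set.ncard_image_le (f := fun k => a⁻¹ * k) (Set.toFinite (X : Set H))
        have h5 : (E : Set H).ncard = Nat.card E := (Nat.card_coe_set_eq _).symm
        have h6 : (X : Set H).ncard = Nat.card X := (Nat.card_coe_set_eq _).symm
        rw [h5] at h1
        rw [h6] at h2 h3
        omega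
      have hX : RA f X := h.mono hXE
      have hcardX : Nat.card X < Nat.card E := by
        by_contra hc
        exact hXne (Subgroup.eq_of_le_of_card_ge hXE (not_lt.1 hc))
      have h1 := ih X hX (by omega)
      -- the fixed elements of `E` form a proper subgroup of those of `X`
      have hfx : 2 * Nat.card (fxR h) ≤ Nat.card (fxR hX) := by
        have hle : fxR h ≤ fxR hX := fun x hx c hc => hx c (hXE hc)
        have hne' : fxR h ≠ fxR hX := fun e => by
          have : x₀ ∈ fxR h := by rw [e]; exact hx₀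
          exact hne (this c₀ hc₀)
        obtain ⟨m, hm⟩ := AddSubgroup.card_dvd_of_le hle
        have hpos : 0 < Nat.card (fxR hX) := Nat.card_pos
        rw [hm] at hpos ⊢
        have hm1 : m ≠ 1 := by
          rintro rfl
          exact hne' (AddSubgroup.eq_of_le_of_card_ge hle (by rw [hm, mul_one]))
        have hm0 : m ≠ 0 := by
          rintro rfl
          rw [mul_zero] at hpos
          exact lt_irrefl _ hpos
        rw [mul_comm]
        exact Nat.mul_le_mul_left _ (by omega)
      have hkr : Nat.card (kr hX) ≤ Nat.card (kr h) :=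
        Subgroup.card_le_of_le (fun c hc => ⟨hXE hc.1, hc.2⟩)
      calc Nat.card E * Nat.card (fxR h) ≤ (2 * Nat.card X) * Nat.card (fxR h) := Nat.mul_le_mul_right _ hcardE
        _ = Nat.card X * (2 * Nat.card (fxR h)) := by ring
        _ ≤ Nat.card X * Nat.card (fxR hX) := Nat.mul_le_mul_left _ hfx
        _ ≤ Nat.card (kr hX) * Nat.card R := h1
        _ ≤ Nat.card (kr h) * Nat.card R := Nat.mul_le_mul_right _ hkr

end Cfsg.Agent.Omega.OM.YThm.LemK
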