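import Mathlib
import Cfsg.Agent.Omega.NO3S.ThmB.End.Auto
import Cfsg.Agent.Omega.NO3S.ThmB.End.AutTwo

/-!
# THEOREM Y, LEMMA V for one block

A group `E` acts on `F²` (`|F| = q`, characteristic 2) by upper triangular semilinear maps `P s`; it acts as an
elementary abelian group and the maps which are trivial on the line are transvections.  Then
`|E : C_E(F²)| |C(E)| ≤ q |C_line(E)|`.
-/

set_option autoImplicit false

namespace Cfsg.Agent.Omega.OM.YThm.OneB

open Subgroup

variable {F : Type*} [Field F]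

/-- the fixed points of `z ↦ c σ(z)` -/
def Fs (σ : RingAut F) (c : F) : AddSubgroup F where
  carrier := {z | c * σ z = z}
  zero_mem' := by show c * σ 0 = 0; rw [map_zero, mul_zero]
  add_mem' := by
    intro a b ha hb
    show c * σ (a + b) = a + b
    rw [map_add, mul_add, ha, hb]
  neg_mem' := by
    intro a ha
    show c * σ (-a) = -a
    rw [map_neg, mul_neg, ha]

theorem mem_Fs {σ : RingAut F} {c z : F} : z ∈ Fs σ c ↔ c * σ z = z := Iff.rfl

theorem card_Fs_le [Finite F] (σ : RingAut F) (c : F) : Nat.card (Fs σ c) ≤ Nat.card (Fs σ 1) := by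
  by_cases h : ∃ g ∈ Fs σ c, g ≠ 0
  · obtain ⟨g, hg, hg0⟩ := h
    have hsg : σ g ≠ 0 := fun h1 => hg0 (by rwa [map_eq_zero_iff σ σ.injective] at h1)
    refine Nat.card_le_card_of_injective (fun w : Fs σ c => (⟨w.1 / g, ?_⟩ : Fs σ 1)) ?_
    · have hw : c * σ w.1 = w.1 := w.2
      have hg' : c * σ g = g := hg
      have hc : c ≠ 0 := by
        rintro rfl
        rw [zero_mul] at hg'
        exact hg0 hg'.symm
      show 1 * σ (w.1 / g) = w.1 / g
      rw [one_mul, map_div₀, div_eq_div_iff hsg hg0]
      apply mul_left_cancel₀ hc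
      calc c * (σ w.1 * g) = (c * σ w.1) * g := by ring
        _ = (c * σ w.1) * (c * σ g) := by rw [hg']
        _ = w.1 * (c * σ g) := by rw [hw]
        _ = c * (w.1 * σ g) := by ring
    · intro w w' h1
      have h2 : w.1 / g = w'.1 / g := congrArg Subtype.val h1
      rw [div_left_inj' hg0] at h2
      exact Subtype.ext h2
  · push Not at h
    have h1 : Fs σ c = ⊥ := by
      rw [eq_bot_iff]
      exact fun x hx => AddSubgroup.mem_bot.2 (h x hx)
    rw [h1, AddSubgroup.card_bot]
    exact Nat.card_pos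

theorem two_mul_card_Fs [Finite F] {σ : RingAut F} (hs : σ ≠ 1) : 2 * Nat.card (Fs σ 1) ≤ Nat.card F := by
  have h1 : (Fs σ 1).index ≠ 1 := by
    intro h2
    rw [AddSubgroup.index_eq_one] at h2
    apply hs
    refine RingEquiv.ext fun x => ?_
    have : x ∈ Fs σ 1 := by rw [h2]; trivial
    rw [mem_Fs, one_mul] at this
    exact this
  have h2 : (Fs σ 1).index ≠ 0 := AddSubgroup.index_ne_zero_of_finite
  rw [← AddSubgroup.card_mul_index (Fs σ 1), mul_comm]
  exact Nat.mul_le_mul_left _ (by omega)

variable {E : Type*} [Group E]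

/-- the situation -/
structure Sit (P : E → (Fin 2 → F) → (Fin 2 → F)) : Prop where
  one : ∀ x, P 1 x = x
  mul : ∀ s t x, P (s * t) x = P s (P t x)
  add : ∀ s x y, P s (x + y) = P s x + P s y
  sem : ∀ s, ∃ (c d : F) (σ : RingAut F), (∀ x, P s ![x, 0] = ![c * σ x, 0]) ∧ ∀ x, P s x 1 = d * σ (x 1)
  up : ∀ s, (∀ x, P s ![x, 0] = ![x, 0]) → ∃ b, ∀ x, P s x = ![x 0 + b * x 1, x 1]
  comm : ∀ s t x, P s (P t x) = P t (P s x)
  sq : ∀ s x, P s (P s x) = x

namespace Sit

variable {P : E → (Fin 2 → F) → (Fin 2 → F)} (h : Sit P)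

/-- the elements trivial on the line -/
def A0 : Subgroup E where
  carrier := {s | ∀ x, P s ![x, 0] = ![x, 0]}
  one_mem' := fun _ => h.one _
  mul_mem' := by
    intro a b ha hb _
    rw [h.mul, hb, ha]
  inv_mem' := by
    intro a ha x
    have h1 := h.mul a⁻¹ a ![x, 0]
    rw [inv_mul_cancel, h.one, ha] at h1
    exact h1.symm

theorem mem_A0 {s : E} : s ∈ h.A0 ↔ ∀ x, P s ![x, 0] = ![x, 0] := Iff.rfl

/-- the kernel -/
def N : Subgroup E where
  carrier := {s | ∀ x, P s x = x}
  one_mem' := fun _ => h.one _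
  mul_mem' := by
    intro a b ha hb x
    rw [h.mul, hb, ha]
  inv_mem' := by
    intro a ha x
    have h1 := h.mul a⁻¹ a x
    rw [inv_mul_cancel, h.one, ha] at h1
    exact h1.symm

theorem mem_N {s : E} : s ∈ h.N ↔ ∀ x, P s x = x := Iff.rfl

theorem N_le : h.N ≤ h.A0 := fun _ hs x => hs _

/-- the entry -/
noncomputable def b (s : h.A0) : F := (h.up s s.2).choose

theorem b_spec (s : h.A0) (x : Fin 2 → F) : P s x = ![x 0 + h.b s * x 1, x 1] := (h.up s s.2).choose_spec x

theorem b_eq {s : h.A0} {c : F} (hc : P s ![0, 1] 0 = c) : h.b s = c := by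
  rw [← hc, h.b_spec]
  simp

/-- the entry as a homomorphism -/
noncomputable def bh : h.A0 →* Multiplicative F where
  toFun s := Multiplicative.ofAdd (h.b s)
  map_one' := by
    have : h.b 1 = 0 := h.b_eq (by
      change P 1 ![0, 1] 0 = 0
      rw [h.one]; rfl)
    rw [this]; rfl
  map_mul' s t := by
    have : h.b (s * t) = h.b s + h.b t := h.b_eq (by
      change P (s * t : E) ![0, 1] 0 = _
      rw [h.mul, h.b_spec, h.b_spec]
      simp
      ring)
    rw [this]; rfl

theorem ker_bh : h.bh.ker = h.N.subgroupOf h.A0 := by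
  ext s
  rw [MonoidHom.mem_ker, mem_subgroupOf, mem_N]
  change Multiplicative.ofAdd (h.b s) = 1 ↔ _
  constructor
  · intro h1 x
    have h2 : h.b s = 0 := Multiplicative.ofAdd.injective (h1.trans ofAdd_zero.symm)
    rw [h.b_spec, h2, zero_mul, add_zero]
    ext i; fin_cases i <;> rfl
  · intro h1
    have h2 : h.b s = 0 := h.b_eq (by rw [h1]; rfl)
    rw [h2]; rfl

theorem relIndex_eq : h.N.relIndex h.A0 = Nat.card h.bh.range := by
  rw [relIndex, ← ker_bh, index_ker]

/-- the fixed vectors -/
def C (P : E → (Fin 2 → F) → (Fin 2 → F)) : Set (Fin 2 → F) := {x | ∀ s, P s x = x}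

/-- the fixed vectors on the line -/
def C1 (P : E → (Fin 2 → F) → (Fin 2 → F)) : Set (Fin 2 → F) := {x | x 1 = 0 ∧ ∀ s, P s x = x}

theorem C_eq (hb : h.N.relIndex h.A0 ≠ 1) : C P = C1 P := by
  obtain ⟨s, hs⟩ : ∃ s : h.A0, h.b s ≠ 0 := by
    by_contra hcon
    push Not at hcon
    apply hb
    rw [relIndex_eq]
    have : h.bh.range = ⊥ := by
      rw [eq_bot_iff]
      rintro _ ⟨x, rfl⟩
      rw [mem_bot]
      change Multiplicative.ofAdd (h.b x) = 1
      rw [hcon]; rfl
    rw [this, card_bot]
  ext x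
  constructor
  · intro hx
    refine ⟨?_, hx⟩
    have h1 := congrFun (hx s) 0
    rw [h.b_spec] at h1
    simp only [Matrix.cons_val_zero] at h1
    have h2 : h.b s * x 1 = 0 := by linear_combination h1
    exact (mul_eq_zero.1 h2).resolve_left hs
  · exact fun hx => hx.2

variable [Finite F] [CharP F 2]

omit [Finite F] in
theorem c_one {c : F} (hc : c * c = 1) : c = 1 := by
  have h1 : (c - 1) * (c - 1) = 0 := by
    have h2 : (2 : F) = 0 := CharTwo.two_eq_zero
    linear_combination hc + (1 - c) * h2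
  have h3 := mul_self_eq_zero.1 h1
  exact sub_eq_zero.1 h3

omit [Finite F] in
theorem sem' (s : E) : ∃ (c d : F) (σ : RingAut F), (∀ x, P s ![x, 0] = ![c * σ x, 0]) ∧
    (∀ x, P s x 1 = d * σ (x 1)) ∧ σ * σ = 1 ∧ c * σ c = 1 ∧ (σ = 1 → s ∈ h.A0) := by
  obtain ⟨c, d, σ, h1, h2⟩ := h.sem s
  have h3 : ∀ x, c * σ (c * σ x) = x := fun x => by
    have h4 := h.sq s ![x, 0]
    rw [h1, h1] at h4
    exact congrFun h4 0
  have h4 : c * σ c = 1 := by
    have := h3 1
    rwa [map_one, mul_one] at this
  have h5 : σ * σ = 1 := by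
    refine RingEquiv.ext fun x => ?_
    have h6 := h3 x
    rw [map_mul, ← mul_assoc, h4, one_mul] at h6
    exact h6
  refine ⟨c, d, σ, h1, h2, h5, h4, fun h6 x => ?_⟩
  subst h6
  have h7 : c = 1 := c_one h4
  rw [h1, h7, one_mul]
  rfl

/-- if some element moves the line -/
theorem index_le {s0 : E} (hs0 : s0 ∉ h.A0) : h.A0.index ≤ 2 := by
  obtain ⟨c0, d0, σ0, a1, a2, a3, a4, a5⟩ := h.sem' s0
  have key : ∀ s, s ∉ h.A0 → s * s0 ∈ h.A0 := by
    intro s hs
    obtain ⟨c, d, σ, b1, b2, b3, b4, b5⟩ := h.sem' s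
    have e1 : σ = σ0 := by
      have hσ : σ ^ 2 ^ 1 = 1 := by rw [pow_one, pow_two, b3]
      have hσ0 : σ0 ^ 2 ^ 1 = 1 := by rw [pow_one, pow_two, a3]
      have n1 : σ ≠ 1 := fun e => hs (b5 e)
      have n2 : σ0 ≠ 1 := fun e => hs0 (a5 e)
      have two : ∀ a b : RingAut F, b * b = 1 → a ∈ zpowers b → a ≠ 1 → a = b := by
        intro a b hb ha h1
        obtain ⟨n, rfl⟩ := mem_zpowers_iff.1 ha
        rcases Int.even_or_odd' n with ⟨m, rfl | rfl⟩
        · exfalso
          apply h1
          rw [zpow_mul, zpow_ofNat, pow_two, hb, one_zpow]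
        · rw [zpow_add, zpow_mul, zpow_ofNat, pow_two, hb, one_zpow, one_mul, zpow_one]
      rcases NO3S.ThmB.End.AutTwo.mem_or_mem' ⟨1, hσ⟩ ⟨1, hσ0⟩ with h1 | h1
      · exact two _ _ a3 h1 n1
      · exact (two _ _ b3 h1 n2).symm
    subst e1
    have h1 : ∀ x, P (s * s0) ![x, 0] = ![(c * σ c0) * x, 0] := fun x => by
      rw [h.mul, a1, b1, map_mul]
      have : σ (σ x) = x := DFunLike.congr_fun b3 x
      rw [this, mul_assoc]
    have h2 : c * σ c0 = 1 := by
      have h3 := h.sq (s * s0) ![1, 0]
      rw [h1, h1] at h3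
      have h4 := congrFun h3 0
      simp only [Matrix.cons_val_zero, mul_one] at h4
      exact c_one h4
    intro x
    rw [h1, h2, one_mul]
  have h1 : h.A0.index ≠ 0 → h.A0.index ≤ 2 := by
    intro _
    by_cases ht : h.A0 = ⊤
    · rw [ht, index_top]; norm_num
    · have h2 : h.A0.index = 2 := by
        rw [index_eq_two_iff]
        refine ⟨s0, fun b => ?_⟩
        by_cases hb : b ∈ h.A0
        · refine Or.inr ⟨hb, fun h3 => hs0 ?_⟩
          exact (mul_mem_cancel_left hb).1 h3
        · exact Or.inl ⟨key b hb, hb⟩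
      omega
  by_cases h0 : h.A0.index = 0
  · omega
  · exact h1 h0

theorem main : h.N.index * Nat.card (C P) ≤ Nat.card F * Nat.card (C1 P) := by
  have hfin : Finite (Fin 2 → F) := inferInstance
  have hFpos : 0 < Nat.card F := Nat.card_pos
  by_cases hall : ∀ s, s ∈ h.A0
  · have ht : h.A0 = ⊤ := by rw [eq_top_iff]; exact fun s _ => hall s
    have h1 : h.N.index = h.N.relIndex h.A0 := by rw [ht, relIndex_top_right]
    by_cases h2 : h.N.relIndex h.A0 = 1
    · have h3 : ∀ s x, P s x = x := by
        rw [← h1, index_eq_one] at h2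
        intro s x
        have : s ∈ h.N := by rw [h2]; trivial
        exact this x
      have h4 : Nat.card (C P) = Nat.card F * Nat.card F := by
        have : C P = Set.univ := Set.eq_univ_of_forall fun x s => h3 s x
        rw [this, Nat.card_congr (Equiv.Set.univ _), Nat.card_fun]
        simp [pow_two]
      have h5 : Nat.card F ≤ Nat.card (C1 P) := by
        refine Nat.card_le_card_of_injective (fun x : F => (⟨![x, 0], rfl, fun s => h3 s _⟩ : C1 P)) ?_
        intro x y hxy
        exact congrFun (congrArg Subtype.val hxy) 0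
      rw [h1, h2, one_mul, h4]
      exact Nat.mul_le_mul_left _ h5
    · rw [h.C_eq h2, h1, h.relIndex_eq]
      refine Nat.mul_le_mul_right _ ?_
      exact Nat.card_le_card_of_injective (fun w : h.bh.range => Multiplicative.toAdd w.1) fun w w' h1 =>
        Subtype.ext (Multiplicative.toAdd.injective h1)
  · push Not at hall
    obtain ⟨s0, hs0⟩ := hall
    have h2 := h.index_le hs0
    obtain ⟨c, d, σ, a1, a2, a3, a4, a5⟩ := h.sem' s0
    have hσ : σ ≠ 1 := fun e => hs0 (a5 e)
    have h3 := two_mul_card_Fs hσ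
    have h4 : h.N.index = h.N.relIndex h.A0 * h.A0.index := (relIndex_mul_index h.N_le).symm
    have hd : d ≠ 0 := by
      rintro rfl
      have := congrFun (h.sq s0 ![0, 1]) 1
      rw [a2, zero_mul] at this
      exact zero_ne_one this
    have h5 : h.N.relIndex h.A0 * Nat.card (C P) ≤ Nat.card (Fs σ 1) * Nat.card (C1 P) := by
      by_cases h6 : h.N.relIndex h.A0 = 1
      · rw [h6, one_mul]
        have hmem : ∀ x ∈ C P, x 1 ∈ Fs σ d := fun x hx => by
          have := congrFun (hx s0) 1
          rw [a2] at this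
          exact this
        let f : C P → Fs σ d := fun x => ⟨x.1 1, hmem x.1 x.2⟩
        have h7 : Nat.card (C P) ≤ Nat.card (Fs σ d) * Nat.card (C1 P) := by
          rw [← Nat.card_prod]
          -- choose representatives of the fibres
          classical
          let r : Fs σ d → (Fin 2 → F) := fun y => if hy : ∃ x : C P, f x = y then hy.choose.1 else 0
          have hr : ∀ x : C P, r (f x) ∈ C P ∧ r (f x) 1 = x.1 1 := by
            intro x
            have hy : ∃ x' : C P, f x' = f x := ⟨x, rfl⟩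
            have e : r (f x) = hy.choose.1 := dif_pos hy
            rw [e]
            exact ⟨hy.choose.2, congrArg Subtype.val hy.choose_spec⟩
          have hsub : ∀ s x y, P s (x - y) = P s x - P s y := by
            intro s x y
            have h8 := h.add s (x - y) y
            rw [sub_add_cancel] at h8
            rw [h8, add_sub_cancel_right]
          refine Nat.card_le_card_of_injective (fun x : C P => ((f x, ⟨x.1 - r (f x), ?_, ?_⟩) :
            Fs σ d × C1 P)) ?_
          · rw [Pi.sub_apply, (hr x).2, sub_self]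
          · intro s
            rw [hsub, x.2 s, (hr x).1 s]
          · intro x y hxy
            have e1 : f x = f y := congrArg Prod.fst hxy
            have e2 : x.1 - r (f x) = y.1 - r (f y) := congrArg (fun z => z.2.1) hxy
            rw [e1] at e2
            exact Subtype.ext (sub_left_injective e2)
        exact h7.trans (Nat.mul_le_mul_right _ (card_Fs_le σ d))
      · rw [h.C_eq h6, h.relIndex_eq]
        refine Nat.mul_le_mul_right _ ?_
        refine le_trans ?_ (card_Fs_le σ (c / d))
        refine Nat.card_le_card_of_injective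
          (fun w : h.bh.range => (⟨Multiplicative.toAdd w.1, ?_⟩ : Fs σ (c / d))) ?_
        · obtain ⟨s, hs⟩ := w.2
          rw [← hs]
          change h.b s ∈ Fs σ (c / d)
          rw [mem_Fs]
          have e1 := h.comm s0 s ![0, 1]
          have e2 : P s ![0, 1] = ![0, 1] + ![h.b s, 0] := by
            rw [h.b_spec]
            ext i; fin_cases i <;> simp
          rw [e2, h.add, a1, h.b_spec, a2] at e1
          have e3 := congrFun e1 0
          simp only [Pi.add_apply, Matrix.cons_val_zero, Matrix.cons_val_one, map_one, mul_one] at e3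
          have e4 : c * σ (h.b s) = h.b s * d := add_left_cancel e3
          field_simp
          rw [e4]
          ring
        · intro w w' h1
          have h9 : Multiplicative.toAdd w.1 = Multiplicative.toAdd w'.1 :=
            congrArg (fun z : Fs σ (c / d) => z.1) h1
          exact Subtype.ext (Multiplicative.toAdd.injective h9)
    rw [h4]
    calc h.N.relIndex h.A0 * h.A0.index * Nat.card (C P)
        = h.A0.index * (h.N.relIndex h.A0 * Nat.card (C P)) := by ring
      _ ≤ 2 * (Nat.card (Fs σ 1) * Nat.card (C1 P)) := Nat.mul_le_mul h2 h5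
      _ = (2 * Nat.card (Fs σ 1)) * Nat.card (C1 P) := by ring
      _ ≤ Nat.card F * Nat.card (C1 P) := Nat.mul_le_mul_right _ h3

end Sit

end Cfsg.Agent.Omega.OM.YThm.OneB
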