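import Mathlib

/-!
# THEOREM Y, LEMMA V: the orbit argument

A finite group `E` permutes the set `ι` and acts on the functions `f : ι → X` by a cocycle `T`:
`(s • f) (s • i) = T s i (f i)`; `Z0 ⊆ X` is invariant.  `Fxd T Z0` : the fixed functions with values in `Z0`;
`Loc T Z0 i` : the elements of `Z0` fixed by the stabiliser of `i`; `K i` : the kernel on the `i`-th summand.

* `card_fxd` : `|Fxd| = ∏ |Loc|` over the orbits;
* `main` : if `|E_i : K_i| |Loc i| ≤ q |Loc Z0 i|` for all `i`, then `|E : ⋂ K_i| |Fxd| ≤ |Fxd Z0| q ^ |ι|`.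
-/

set_option autoImplicit false

namespace Cfsg.Agent.Omega.OM.YThm.Orb

open MulAction

variable {E : Type*} [Group E] {ι X : Type*} [MulAction E ι]

/-- a cocycle -/
structure Coc (T : E → ι → X → X) : Prop where
  one : ∀ i x, T 1 i x = x
  mul : ∀ s t i x, T (s * t) i x = T s (t • i) (T t i x)

/-- fixed functions -/
def Fxd (T : E → ι → X → X) (Z0 : Set X) : Type _ :=
  {f : ι → X // (∀ i, f i ∈ Z0) ∧ ∀ s i, f (s • i) = T s i (f i)}

/-- fixed vectors of the stabiliser -/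
def Loc (T : E → ι → X → X) (Z0 : Set X) (i : ι) : Type _ :=
  {x : X // x ∈ Z0 ∧ ∀ s : E, s • i = i → T s i x = x}

variable {T : E → ι → X → X}

/-- the kernel on the `i`-th summand -/
def K (h : Coc T) (i : ι) : Subgroup E where
  carrier := {s | s • i = i ∧ ∀ x, T s i x = x}
  one_mem' := ⟨one_smul _ _, h.one i⟩
  mul_mem' := by
    rintro a b ⟨ha, ha'⟩ ⟨hb, hb'⟩
    refine ⟨by rw [mul_smul, hb, ha], fun x => ?_⟩
    rw [h.mul, hb, hb', ha']
  inv_mem' := by
    rintro a ⟨ha, ha'⟩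
    have h1 : a⁻¹ • i = i := by rw [inv_smul_eq_iff, ha]
    refine ⟨h1, fun x => ?_⟩
    have h2 := h.mul a a⁻¹ i x
    rw [mul_inv_cancel, h.one, h1, ha'] at h2
    exact h2.symm

theorem mem_K {h : Coc T} {i : ι} {s : E} : s ∈ K h i ↔ s • i = i ∧ ∀ x, T s i x = x := Iff.rfl

theorem T_inj (h : Coc T) (s : E) (i : ι) : Function.Injective (T s i) := by
  intro x y hxy
  have h1 := h.mul s⁻¹ s i x
  have h2 := h.mul s⁻¹ s i y
  rw [inv_mul_cancel, h.one] at h1 h2
  rw [h1, h2, hxy]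

theorem T_surj (h : Coc T) (s : E) (i : ι) (y : X) : ∃ x, T s i x = y := by
  have h1 := h.mul s s⁻¹ (s • i) y
  rw [mul_inv_cancel, h.one, inv_smul_smul] at h1
  exact ⟨_, h1.symm⟩

theorem exists_c (i : ι) : ∃ c : E, c • (Quotient.mk (orbitRel E ι) i).out = i := by
  have h1 : (orbitRel E ι) ((Quotient.mk (orbitRel E ι) i).out) i := Quotient.mk_out (s := orbitRel E ι) i
  rw [orbitRel_apply] at h1
  obtain ⟨s, hs⟩ := h1
  refine ⟨s⁻¹, ?_⟩
  rw [inv_smul_eq_iff]
  exact hs.symm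

theorem mk_smul (s : E) (i : ι) : Quotient.mk (orbitRel E ι) (s • i) = Quotient.mk (orbitRel E ι) i :=
  Quotient.sound ⟨s, rfl⟩

theorem T_eq (h : Coc T) {r : ι} {x : X} (hx : ∀ s : E, s • r = r → T s r x = x) {a b : E} (hab : a • r = b • r) :
    T a r x = T b r x := by
  have h1 : (a⁻¹ * b) • r = r := by rw [mul_smul, ← hab, inv_smul_smul]
  have h2 := h.mul a (a⁻¹ * b) r x
  rw [mul_inv_cancel_left, h1, hx _ h1] at h2
  exact h2.symm

/-- the restriction to the representatives of the orbits -/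
noncomputable def res (T : E → ι → X → X) (Z0 : Set X) (f : Fxd T Z0) (ω : Quotient (orbitRel E ι)) : Loc T Z0 ω.out :=
  ⟨f.1 ω.out, f.2.1 _, fun s hs => by
    have h1 := f.2.2 s ω.out
    rw [hs] at h1
    exact h1.symm⟩

theorem res_bij (h : Coc T) {Z0 : Set X} (hZ : ∀ s i x, x ∈ Z0 → T s i x ∈ Z0) : Function.Bijective (res T Z0) := by
  classical
  constructor
  · intro f f' hff
    apply Subtype.ext
    funext i
    obtain ⟨c, hc⟩ := exists_c (E := E) i
    have h1 := f.2.2 c (Quotient.mk (orbitRel E ι) i).out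
    have h2 := f'.2.2 c (Quotient.mk (orbitRel E ι) i).out
    have h3 := congrArg Subtype.val (congrFun hff (Quotient.mk (orbitRel E ι) i))
    change f.1 _ = f'.1 _ at h3
    rw [h3, ← h2, hc] at h1
    exact h1
  · intro g
    choose c hc using fun i : ι => exists_c (E := E) i
    let f : ι → X := fun i => T (c i) (Quotient.mk (orbitRel E ι) i).out (g (Quotient.mk (orbitRel E ι) i)).1
    have key : ∀ (ω : Quotient (orbitRel E ι)) (i : ι) (a : E), a • ω.out = i → Quotient.mk (orbitRel E ι) i = ω →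
        f i = T a ω.out (g ω).1 := by
      rintro ω i a ha rfl
      exact T_eq h (g _).2.2 (by rw [hc, ha])
    have key2 : ∀ (ω : Quotient (orbitRel E ι)) (i : ι) (a : E), a • ω.out = i → f i = T a ω.out (g ω).1 := by
      intro ω i a ha
      refine key ω i a ha ?_
      rw [← ha, mk_smul]
      exact Quotient.out_eq ω
    refine ⟨⟨f, fun i => hZ _ _ _ (g _).2.1, fun s i => ?_⟩, ?_⟩
    · have h1 := key2 (Quotient.mk (orbitRel E ι) i) (s • i) (s * c i) (by rw [mul_smul, hc])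
      rw [h1, h.mul, hc]
    · funext ω
      apply Subtype.ext
      change f ω.out = _
      rw [key2 ω ω.out 1 (one_smul _ _), h.one]

theorem card_fxd [Fintype (Quotient (orbitRel E ι))] (h : Coc T) {Z0 : Set X}
    (hZ : ∀ s i x, x ∈ Z0 → T s i x ∈ Z0) :
    Nat.card (Fxd T Z0) = ∏ ω : Quotient (orbitRel E ι), Nat.card (Loc T Z0 ω.out) := by
  rw [Nat.card_congr (Equiv.ofBijective _ (res_bij h hZ)), Nat.card_pi]

theorem K_smul (h : Coc T) (hc : ∀ s t : E, ∀ i, (s * t) • i = (t * s) • i ∧ ∀ x, T (s * t) i x = T (t * s) i x)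
    (t : E) (i : ι) : K h i ≤ K h (t • i) := by
  rintro s ⟨hs, hs'⟩
  have h1 : s • t • i = t • i := by rw [← mul_smul, (hc s t i).1, mul_smul, hs]
  refine ⟨h1, fun x => ?_⟩
  obtain ⟨y, rfl⟩ := T_surj h t i x
  rw [← h.mul, (hc s t i).2, h.mul, hs, hs']

theorem pow_le {q r : ℕ} (hq : 2 ≤ q) (hr : 0 < r) : r * q ≤ q ^ r := by
  obtain ⟨m, rfl⟩ : ∃ m, r = m + 1 := ⟨r - 1, by omega⟩
  rw [pow_succ]
  have h1 : m < 2 ^ m := Nat.lt_pow_self (by norm_num)
  have h2 : 2 ^ m ≤ q ^ m := Nat.pow_le_pow_left hq m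
  exact Nat.mul_le_mul_right _ (by omega)

theorem main [Finite E] [Finite ι] (h : Coc T)
    (hc : ∀ s t : E, ∀ i, (s * t) • i = (t * s) • i ∧ ∀ x, T (s * t) i x = T (t * s) i x)
    {Z0 : Set X} (hZ : ∀ s i x, x ∈ Z0 → T s i x ∈ Z0) {q : ℕ} (hq : 2 ≤ q)
    (hloc : ∀ i, (K h i).relIndex (stabilizer E i) * Nat.card (Loc T Set.univ i) ≤ q * Nat.card (Loc T Z0 i)) :
    (⨅ i, K h i).index * Nat.card (Fxd T Set.univ) ≤ Nat.card (Fxd T Z0) * q ^ Nat.card ι := by
  classical
  have := Fintype.ofFinite (Quotient (orbitRel E ι))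
  have h1 := card_fxd h (Z0 := Set.univ) fun _ _ _ _ => Set.mem_univ _
  have h2 := card_fxd h hZ
  have h3 : (⨅ i, K h i) = ⨅ ω : Quotient (orbitRel E ι), K h ω.out := by
    apply le_antisymm
    · exact le_iInf fun ω => iInf_le _ _
    · refine le_iInf fun i => ?_
      obtain ⟨c, hc'⟩ := exists_c (E := E) i
      have h4 := K_smul h hc c (Quotient.mk (orbitRel E ι) i).out
      rw [hc'] at h4
      exact (iInf_le _ _).trans h4
  have h5 : (⨅ ω : Quotient (orbitRel E ι), K h ω.out).index ≤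
      ∏ ω : Quotient (orbitRel E ι), (K h ω.out).index := Subgroup.index_iInf_le _
  have h6 : ∀ i, (K h i).index = (K h i).relIndex (stabilizer E i) * Nat.card (orbit E i) := by
    intro i
    have h7 : K h i ≤ stabilizer E i := fun s hs => hs.1
    rw [← Subgroup.relIndex_mul_index h7, MulAction.index_stabilizer]
    rfl
  have h8 : ∏ ω : Quotient (orbitRel E ι), q ^ Nat.card (orbit E ω.out) = q ^ Nat.card ι := by
    rw [Finset.prod_pow_eq_pow_sum]
    congr 1
    have e := Nat.card_congr (selfEquivSigmaOrbits' E ι)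
    rw [e, Nat.card_sigma]
    refine Finset.sum_congr rfl fun ω _ => ?_
    rw [orbitRel.Quotient.orbit_eq_orbit_out ω Quotient.out_eq]
  rw [h1, h2, h3, ← h8]
  refine (Nat.mul_le_mul_right _ h5).trans ?_
  rw [← Finset.prod_mul_distrib, ← Finset.prod_mul_distrib]
  refine Finset.prod_le_prod' fun ω _ => ?_
  rw [h6]
  have h9 := hloc ω.out
  have hne : Nonempty (orbit E ω.out) := ⟨⟨_, mem_orbit_self _⟩⟩
  have h10 : 0 < Nat.card (orbit E ω.out) := Nat.card_pos
  calc (K h ω.out).relIndex (stabilizer E ω.out) * Nat.card (orbit E ω.out) * Nat.card (Loc T Set.univ ω.out)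
      = Nat.card (orbit E ω.out) * ((K h ω.out).relIndex (stabilizer E ω.out) *
        Nat.card (Loc T Set.univ ω.out)) := by ring
    _ ≤ Nat.card (orbit E ω.out) * (q * Nat.card (Loc T Z0 ω.out)) := Nat.mul_le_mul_left _ h9
    _ = Nat.card (orbit E ω.out) * q * Nat.card (Loc T Z0 ω.out) := by ring
    _ ≤ q ^ Nat.card (orbit E ω.out) * Nat.card (Loc T Z0 ω.out) := Nat.mul_le_mul_right _ (pow_le hq h10)
    _ = _ := by ring

end Cfsg.Agent.Omega.OM.YThm.Orb
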