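import Cfsg.Agent.Omega.NO3S.ThmB.Cyc
import Cfsg.Agent.Omega.OM.YThm.Orb
import Cfsg.Agent.Omega.OM.YThm.OneB

/-!
# THEOREM Y: LEMMA V

`V` is a sum of `k` natural `SL₂(F)`-modules (`NatKM`), `Z = {v ∈ V | all second coordinates are 0}`.

* `sgm` : the permutation of the summands induced by an element of `P'`; `Tc` : its action on the coordinates;
* `fx_stab` : the stabiliser in `S` of the `i`-th summand;
* **`lemV`** : `E ≤ S` acts on `V` as an elementary abelian group: `|E : C_E(V)| |Z : C_Z(E)| ≤ |V : C_V(E)|`.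
-/

set_option autoImplicit false

namespace Cfsg.Agent.Omega.OM.YThm.LemV

open Subgroup Cfsg Cfsg.Agent.ZN Cfsg.Agent.ZN.ChoiceBase
open Cfsg.Agent.Omega.FFThm Cfsg.Agent.Omega.NatPair Cfsg.Agent.Lib.SL2Mat
open Cfsg.Agent.Omega.NO3S.ThmB
open NO3S.ThmB.Nb (exists_single)

universe u

variable {G : Type u} [Group G] {F : Type} [Field F] {S P' V D : Subgroup G} {k : ℕ}

/-- `σ` is the permutation of the summands induced by `g`. -/
def IsSg (M : NatKM F S P' V D k) (g : G) (σ : Equiv.Perm (Fin k)) : Prop :=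
  ∀ v ∈ V, ∀ i, M.e (g * v * g⁻¹) (σ i) = 0 ↔ M.e v i = 0

theorem isSg_unique {M : NatKM F S P' V D k} {g : G} {σ τ : Equiv.Perm (Fin k)} (h1 : IsSg M g σ)
    (h2 : IsSg M g τ) : σ = τ := by
  refine Equiv.ext fun i => ?_
  obtain ⟨v, hv, hvi, hvl⟩ := exists_single M i ![1, 0]
  by_contra hne
  have h3 : τ.symm (σ i) ≠ i := fun e => hne (τ.symm_apply_eq.1 e)
  have h4 := (h2 v hv (τ.symm (σ i))).2 (hvl _ h3)
  rw [τ.apply_symm_apply] at h4
  have h5 := (h1 v hv i).1 h4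
  rw [hvi] at h5
  have := congrFun h5 0
  simp at this

theorem isSg_one (M : NatKM F S P' V D k) : IsSg M 1 1 := fun v _ i => by
  rw [one_mul, inv_one, mul_one]; rfl

theorem isSg_mul {M : NatKM F S P' V D k} (h : Nb M) {g x : G} (hx : x ∈ P') {σ τ : Equiv.Perm (Fin k)}
    (h1 : IsSg M g σ) (h2 : IsSg M x τ) : IsSg M (g * x) (σ * τ) := fun v hv i => by
  have e : g * x * v * (g * x)⁻¹ = g * (x * v * x⁻¹) * g⁻¹ := by group
  rw [e, Equiv.Perm.mul_apply, h1 _ (h.memV hx hv), h2 v hv]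

/-- the permutation of the summands -/
noncomputable def sgm (M : NatKM F S P' V D k) (g : P') : Equiv.Perm (Fin k) := (M.perm g g.2).choose

theorem sgm_spec (M : NatKM F S P' V D k) (g : P') : IsSg M g (sgm M g) := (M.perm g g.2).choose_spec

variable {M : NatKM F S P' V D k} (h : Nb M)

/-- the permutation representation -/
noncomputable def sgh : P' →* Equiv.Perm (Fin k) where
  toFun := sgm M
  map_one' := isSg_unique (sgm_spec M 1) (isSg_one M)
  map_mul' g x := isSg_unique (sgm_spec M (g * x)) (isSg_mul h x.2 (sgm_spec M g) (sgm_spec M x))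

theorem sgh_spec (g : P') {v : G} (hv : v ∈ V) (i : Fin k) :
    M.e ((g : G) * v * (g : G)⁻¹) (sgh h g i) = 0 ↔ M.e v i = 0 := sgm_spec M g v hv i

/-- the action on the coordinates -/
noncomputable def Tc (g : P') (i : Fin k) (x : Fin 2 → F) : Fin 2 → F :=
  M.e ((g : G) * wv M i x * (g : G)⁻¹) (sgh h g i)

theorem Tc_spec [CharP F 2] (g : P') (i : Fin k) {v : G} (hv : v ∈ V) :
    M.e ((g : G) * v * (g : G)⁻¹) (sgh h g i) = Tc h g i (M.e v i) := by
  have hw := wv_V M i (M.e v i)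
  have h0 : M.e (v * (wv M i (M.e v i))⁻¹) i = 0 := by
    rw [h.e_div hv hw, Pi.add_apply, wv_i]
    exact congrFun (h.add_self (M.e v)) i
  have h1 := (sgh_spec h g (mul_mem hv (inv_mem hw)) i).2 h0
  have e : (g : G) * (v * (wv M i (M.e v i))⁻¹) * (g : G)⁻¹ =
      ((g : G) * v * (g : G)⁻¹) * ((g : G) * wv M i (M.e v i) * (g : G)⁻¹)⁻¹ := by group
  rw [e, h.e_div (h.memV g.2 hv) (h.memV g.2 hw), Pi.add_apply] at h1
  have h2 := congrArg (· + M.e ((g : G) * wv M i (M.e v i) * (g : G)⁻¹) (sgh h g i)) h1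
  have h3 := congrFun (h.add_self (M.e ((g : G) * wv M i (M.e v i) * (g : G)⁻¹))) (sgh h g i)
  rw [Pi.add_apply, Pi.zero_apply] at h3
  simp only [add_assoc, h3] at h2
  rw [add_zero, zero_add] at h2
  exact h2

theorem Tc_one [CharP F 2] (i : Fin k) (x : Fin 2 → F) : Tc h 1 i x = x := by
  have h1 := Tc_spec h 1 i (wv_V M i x)
  rw [wv_i, map_one, Equiv.Perm.one_apply] at h1
  rw [← h1]
  have e : ((1 : P') : G) * wv M i x * ((1 : P') : G)⁻¹ = wv M i x := by
    rw [OneMemClass.coe_one, one_mul, inv_one, mul_one]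
  rw [e, wv_i]

theorem Tc_mul [CharP F 2] (g y : P') (i : Fin k) (x : Fin 2 → F) :
    Tc h (g * y) i x = Tc h g (sgh h y i) (Tc h y i x) := by
  have h1 := Tc_spec h (g * y) i (wv_V M i x)
  have h2 := Tc_spec h y i (wv_V M i x)
  have h3 := Tc_spec h g (sgh h y i) (h.memV y.2 (wv_V M i x))
  rw [wv_i] at h1 h2
  have e0 : ((g * y : P') : G) * wv M i x * ((g * y : P') : G)⁻¹ =
      (g : G) * ((y : G) * wv M i x * (y : G)⁻¹) * (g : G)⁻¹ := by
    rw [Subgroup.coe_mul]; group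
  rw [← h1, ← h2, ← h3, map_mul, Equiv.Perm.mul_apply, e0]

theorem Tc_add [CharP F 2] (g : P') (i : Fin k) (x y : Fin 2 → F) :
    Tc h g i (x + y) = Tc h g i x + Tc h g i y := by
  have hx := wv_V M i x
  have hy := wv_V M i y
  have h1 : M.e (wv M i x * wv M i y) i = x + y := by
    rw [M.mul _ hx _ hy, Pi.add_apply, wv_i, wv_i]
  rw [← h1, ← Tc_spec h g i (mul_mem hx hy)]
  have e : (g : G) * (wv M i x * wv M i y) * (g : G)⁻¹ =
      ((g : G) * wv M i x * (g : G)⁻¹) * ((g : G) * wv M i y * (g : G)⁻¹) := by group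
  rw [e, M.mul _ (h.memV g.2 hx) _ (h.memV g.2 hy)]
  rfl

/-- the stabiliser in `S` of the `i`-th summand -/
theorem fx_stab {g : P'} (hg : (g : G) ∈ S) {i : Fin k} (hi : sgh h g i = i) : Fx M i g := by
  have hσ := fun (v : G) (hv : v ∈ V) (i : Fin k) => sgh_spec h g hv i
  have ha2 : ∀ v ∈ V, (∀ l, l ≠ i → M.e v l = 0) → ∀ l, l ≠ i → M.e ((g : G) * v * (g : G)⁻¹) l = 0 := by
    intro v hv hvl l hl
    have h1 : (sgh h g).symm l ≠ i := fun e => hl (by rw [← hi, ← e, Equiv.apply_symm_apply])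
    have h2 := (hσ v hv ((sgh h g).symm l)).2 (hvl _ h1)
    rwa [Equiv.apply_symm_apply] at h2
  refine ⟨g.2, fun v hv h0 => ?_, ha2, fun v hv h0 => ?_⟩
  · have h1 := (hσ v hv i).2 h0
    rwa [hi] at h1
  · obtain ⟨τ, hτ⟩ := M.line g hg
    have hτi : τ i = i := by
      by_contra hne
      obtain ⟨w, hw, hwi, hwl⟩ := exists_single M i ![0, 1]
      have h1 := (hτ w hw i).1 (by rw [ha2 w hw hwl _ hne]; rfl)
      rw [hwi] at h1
      simp at h1
    have h1 := (hτ v hv i).2 h0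
    rwa [hτi] at h1

/-- `S` permutes the lines -/
theorem line_Tc [CharP F 2] {g : P'} (hg : (g : G) ∈ S) (i : Fin k) {x : Fin 2 → F} (hx : x 1 = 0) :
    Tc h g i x 1 = 0 := by
  obtain ⟨τ, hτ⟩ := M.line g hg
  have hτi : τ i = sgh h g i := by
    by_contra hne
    obtain ⟨w, hw, hwi, hwl⟩ := exists_single M i ![0, 1]
    have h2 : (sgh h g).symm (τ i) ≠ i := fun e => hne ((Equiv.symm_apply_eq _).1 e)
    have h3 := (sgh_spec h g hw ((sgh h g).symm (τ i))).2 (hwl _ h2)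
    rw [Equiv.apply_symm_apply] at h3
    have h1 := (hτ w hw i).1 (by rw [h3]; rfl)
    rw [hwi] at h1
    simp at h1
  have h1 := (hτ _ (wv_V M i x) i).2 (by rw [wv_i]; exact hx)
  rw [hτi] at h1
  exact h1

include h in
/-- an element of 2-power order which is trivial on the line is a transvection on the `i`-th summand -/
theorem up_of_line [Finite F] [CharP F 2] {i : Fin k} {u : G} (hs : Fx M i u) (hs' : Fx M i u⁻¹) {j : ℕ}
    (hj : u ^ 2 ^ j = 1) (hline : ∀ x, Pf M i u ![x, 0] 0 = x) :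
    ∃ b : F, ∀ x, Pf M i u x = ![x 0 + b * x 1, x 1] := by
  have hfx : ∀ n : ℕ, Fx M i (u ^ n) := by
    intro n
    induction n with
    | zero =>
      rw [pow_zero]
      refine ⟨one_mem _, fun v _ h0 => ?_, fun v _ h0 l hl => ?_, fun v _ h0 => ?_⟩
      · rw [one_mul, inv_one, mul_one]; exact h0
      · rw [one_mul, inv_one, mul_one]; exact h0 l hl
      · rw [one_mul, inv_one, mul_one]; exact h0
    | succ n ih => rw [pow_succ]; exact Nb.Fx_mul h.VP' ih hs
  let f : F →+ F := AddMonoidHom.mk' (fun b => h.hH hs b * (h.gH hs 1)⁻¹) fun x y => by rw [map_add, add_mul]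
  obtain ⟨-, -, hg⟩ := End.Auto.of_id (h := h.hH hs) (f := f) (g := h.gH hs) (h.autot hs hs') hline
  have hpow : ∀ n : ℕ, ∀ x : F, Pf M i (u ^ n) ![0, x] 1 = (h.gH hs)^[n] x := by
    intro n
    induction n with
    | zero => intro x; rw [pow_zero, Nb.Pf_one]; rfl
    | succ n ih =>
      intro x
      rw [pow_succ', h.Pf_mul hs (hfx n), h.gH_eq hs, ih, Function.iterate_succ_apply']
  have hg1 : ∀ x, h.gH hs x = x := fun x =>
    End.Auto.eq_id_of_iterate (h.gH hs 1) (f := h.gH hs) hg (n := j) (fun y => by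
      rw [← hpow, hj, Nb.Pf_one]
      simp) x
  obtain ⟨c, hc, hcA⟩ := M.lift (sg i (lo 1))
  obtain ⟨A', -, hA'⟩ := h.conj_act hs hs' hc hcA
  have hu1 : ∀ x : Fin 2 → F, Pf M i u x 1 = x 1 := fun x => by rw [h.gH_eq hs, hg1]
  refine ⟨ent A' 0 0 + 1, fun x => vec_eq ?_ (hu1 x)⟩
  have k0 : ∀ x : Fin 2 → F, Pf M i u x 0 = x 0 + Pf M i u ![0, x 1] 0 := fun x => by
    have e : x = ![x 0, 0] + ![0, x 1] := by
      refine vec_eq ?_ ?_ <;> simp
    conv_lhs => rw [e, h.Pf_add hs, Pi.add_apply, hline]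
  have k1 : ∀ y : F, Pf M i u ![0, y] 0 = (ent A' 0 0 + 1) * y := by
    intro y
    have k2 := congrFun (hA' ![y, 0]) 0
    have e1 : Pf M i u ![y, 0] = ![y, 0] := vec_eq (hline y) (Nb.Pf_line hs _ rfl)
    rw [e1, ap_zero', k0, ap_lo_0, ap_lo_1] at k2
    simp only [Matrix.cons_val_zero, Matrix.cons_val_one, mul_zero, add_zero, one_mul] at k2
    have h2 : Pf M i u ![0, y] 0 = ent A' 0 0 * y + y := by
      rw [k2, add_comm y, add_assoc, CharTwo.add_self_eq_zero, add_zero]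
    rw [h2]
    ring
  rw [k0, k1]
  rfl

/-! ### The counting -/

section count

variable [Finite F] [CharP F 2] {E : Subgroup G} (hE : E ≤ S)

/-- `E → P'` -/
def inc (h : Nb M) (hE : E ≤ S) : E →* P' := Subgroup.inclusion (hE.trans h.SP')

/-- the action of `E` on the summands -/
@[reducible] noncomputable def act (h : Nb M) (hE : E ≤ S) : MulAction E (Fin k) :=
  MulAction.compHom (Fin k) ((sgh h).comp (inc h hE))

/-- the cocycle -/
noncomputable def TE (h : Nb M) (hE : E ≤ S) (s : E) (i : Fin k) (x : Fin 2 → F) : Fin 2 → F := Tc h (inc h hE s) i x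

omit [Finite F] in
theorem coc : @Orb.Coc E _ (Fin k) (Fin 2 → F) (act h hE) (TE h hE) :=
  @Orb.Coc.mk E _ (Fin k) (Fin 2 → F) (act h hE) (TE h hE) (fun i x => by
    rw [TE, map_one]; exact Tc_one h i x) fun s t i x => by
    rw [TE, map_mul]; exact Tc_mul h _ _ i x

omit [Finite F] [CharP F 2] in
theorem same_sgh {g y : P'} (hgy : ∀ v ∈ V, (g : G) * v * (g : G)⁻¹ = (y : G) * v * (y : G)⁻¹) :
    sgh h g = sgh h y := by
  refine isSg_unique (g := (g : G)) (sgm_spec M g) fun v hv i => ?_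
  rw [hgy v hv]
  exact sgh_spec h y hv i

omit [Finite F] [CharP F 2] in
theorem same_Tc {g y : P'} (hgy : ∀ v ∈ V, (g : G) * v * (g : G)⁻¹ = (y : G) * v * (y : G)⁻¹) (i : Fin k)
    (x : Fin 2 → F) : Tc h g i x = Tc h y i x := by
  rw [Tc, Tc, same_sgh h hgy, hgy _ (wv_V M i x)]

include h in
theorem sem' {i : Fin k} {s : G} (hs : Fx M i s) (hs' : Fx M i s⁻¹) :
    ∃ (c d : F) (σ : RingAut F), (∀ x, Pf M i s ![x, 0] = ![c * σ x, 0]) ∧ ∀ x, Pf M i s x 1 = d * σ (x 1) := by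
  obtain ⟨σ, hσ⟩ := h.sem hs hs'
  have h1 : h.hH hs 1 ≠ 0 := fun e => one_ne_zero (h.hH_inj hs hs' (e.trans (map_zero _).symm))
  have h2 := h.gH_ne hs hs'
  refine ⟨h.hH hs 1, h.gH hs 1, σ, fun x => by rw [h.hH_eq hs, hσ], fun x => ?_⟩
  have h3 := h.autot hs hs' 1 (x 1)
  rw [one_mul, hσ] at h3
  rw [h.gH_eq hs]
  have h4 : h.hH hs 1 * (h.gH hs 1 * σ (x 1)) = h.hH hs 1 * h.gH hs (x 1) := by
    calc h.hH hs 1 * (h.gH hs 1 * σ (x 1)) = h.gH hs 1 * (h.hH hs 1 * σ (x 1)) := by ring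
      _ = h.gH hs 1 * (h.hH hs 1 * (h.gH hs 1)⁻¹ * h.gH hs (x 1)) := by rw [h3]
      _ = (h.gH hs 1 * (h.gH hs 1)⁻¹) * (h.hH hs 1 * h.gH hs (x 1)) := by ring
      _ = _ := by rw [mul_inv_cancel₀ h2, one_mul]
  exact (mul_left_cancel₀ h1 h4).symm

omit [Finite F] [CharP F 2] in
theorem Tc_eq_Pf {g : P'} {i : Fin k} (hi : sgh h g i = i) (x : Fin 2 → F) : Tc h g i x = Pf M i g x := by
  rw [Tc, hi, Pf]

variable (hS2 : IsPGroup 2 S)
  (hcomm : ∀ a ∈ E, ∀ b ∈ E, ∀ v ∈ V, a * (b * v * b⁻¹) * a⁻¹ = b * (a * v * a⁻¹) * b⁻¹)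
  (hsq : ∀ a ∈ E, ∀ v ∈ V, a * (a * v * a⁻¹) * a⁻¹ = v)

include hS2 hcomm hsq in
theorem sit (i : Fin k) : OneB.Sit (F := F) (fun (s : @MulAction.stabilizer E (Fin k) _ (act h hE) i) x =>
    TE h hE s.1 i x) := by
  let _ := act h hE
  have hst : ∀ s : MulAction.stabilizer E i, sgh h (inc h hE s.1) i = i := fun s => s.2
  have hfx : ∀ s : MulAction.stabilizer E i, Fx M i (s.1 : G) := fun s =>
    fx_stab h (g := inc h hE s.1) (hE s.1.2) (hst s)
  have hfx' : ∀ s : MulAction.stabilizer E i, Fx M i (s.1 : G)⁻¹ := fun s => hfx s⁻¹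
  have hP : ∀ (s : MulAction.stabilizer E i) x, TE h hE s.1 i x = Pf M i (s.1 : G) x := fun s x =>
    Tc_eq_Pf h (hst s) x
  have hPm : ∀ (s t : MulAction.stabilizer E i) x, Pf M i ((s.1 : G) * (t.1 : G)) x =
      Pf M i (s.1 : G) (Pf M i (t.1 : G) x) := fun s t x => h.Pf_mul (hfx s) (hfx t) x
  have hPv : ∀ (g y : G), (∀ v ∈ V, g * v * g⁻¹ = y * v * y⁻¹) → ∀ x, Pf M i g x = Pf M i y x := fun g y hgy x => by
    rw [Pf, Pf, hgy _ (wv_V M i x)]
  refine ⟨fun x => ?_, fun s t x => ?_, fun s x y => ?_, fun s => ?_, fun s hs => ?_, fun s t x => ?_,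
    fun s x => ?_⟩
  · simp only [hP]; exact Nb.Pf_one x
  · simp only [hP]; exact hPm s t x
  · simp only [hP]; exact h.Pf_add (hfx s) x y
  · simp only [hP]; exact sem' h (hfx s) (hfx' s)
  · simp only [hP] at hs ⊢
    obtain ⟨j, hj⟩ := hS2 ⟨(s.1 : G), hE s.1.2⟩
    exact up_of_line h (hfx s) (hfx' s) (congrArg Subtype.val hj) fun x => by rw [hs]; rfl
  · simp only [hP]
    rw [← hPm, ← hPm]
    refine hPv _ _ (fun v hv => ?_) x
    have e1 : (s.1 : G) * t.1 * v * ((s.1 : G) * t.1)⁻¹ = s.1 * (t.1 * v * (t.1 : G)⁻¹) * (s.1 : G)⁻¹ := by group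
    have e2 : (t.1 : G) * s.1 * v * ((t.1 : G) * s.1)⁻¹ = t.1 * (s.1 * v * (s.1 : G)⁻¹) * (t.1 : G)⁻¹ := by group
    rw [e1, e2, hcomm _ s.1.2 _ t.1.2 v hv]
  · simp only [hP]
    rw [← hPm]
    have h1 := hPv ((s.1 : G) * s.1) 1 (fun v hv => by
      have e1 : (s.1 : G) * s.1 * v * ((s.1 : G) * s.1)⁻¹ = s.1 * (s.1 * v * (s.1 : G)⁻¹) * (s.1 : G)⁻¹ := by group
      rw [e1, hsq _ s.1.2 v hv]
      group) x
    rw [h1, Nb.Pf_one]

/-- the coordinates as a bijection -/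
noncomputable def eV (h : Nb M) (hD : D = ⊥) : V ≃ (Fin k → Fin 2 → F) :=
  Equiv.ofBijective (fun v => M.e v) ⟨fun v w hvw => by
    have h1 := (h.mem_D v.2 w.2).2 hvw
    rw [hD, mem_bot] at h1
    exact Subtype.ext (mul_inv_eq_one.1 h1), fun x => by
    obtain ⟨v, hv, hx⟩ := M.surj x
    exact ⟨⟨v, hv⟩, hx⟩⟩

omit [Finite F] in
theorem e_inj (h : Nb M) (hD : D = ⊥) {v w : G} (hv : v ∈ V) (hw : w ∈ V) (e : M.e v = M.e w) : v = w := by
  have h1 := (h.mem_D hv hw).2 e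
  rw [hD, mem_bot] at h1
  exact mul_inv_eq_one.1 h1

omit [Finite F] in
theorem mem_cent_iff (hD : D = ⊥) {v : G} (hv : v ∈ V) : v ∈ centralizer (E : Set G) ↔
    ∀ (s : E) (i : Fin k), M.e v (sgh h (inc h hE s) i) = TE h hE s i (M.e v i) := by
  rw [mem_centralizer_iff]
  constructor
  · intro h1 s i
    have h2 := Tc_spec h (inc h hE s) i hv
    have h3 : (s : G) * v * (s : G)⁻¹ = v := by rw [h1 s s.2]; group
    change M.e ((s : G) * v * (s : G)⁻¹) _ = _ at h2
    rw [h3] at h2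
    exact h2
  · intro h1 s hs
    have h2 : s * v * s⁻¹ = v := by
      refine e_inj h hD (h.memV (h.SP' (hE hs)) hv) hv ?_
      funext i
      have h3 := Tc_spec h (inc h hE ⟨s, hs⟩) ((sgh h (inc h hE ⟨s, hs⟩)).symm i) hv
      have h4 := h1 ⟨s, hs⟩ ((sgh h (inc h hE ⟨s, hs⟩)).symm i)
      rw [Equiv.apply_symm_apply] at h3 h4
      rw [h4]
      exact h3
    exact mul_inv_eq_iff_eq_mul.1 h2

/-- the line, as a subset of `F²` -/
def Z0 (F : Type) [Field F] : Set (Fin 2 → F) := {x | x 1 = 0}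

/-- fixed functions and fixed vectors -/
noncomputable def fxdEquiv (hD : D = ⊥) (Y : Set (Fin 2 → F)) {Z : Subgroup G}
    (hZ : ∀ v, v ∈ Z ↔ v ∈ V ∧ ∀ i, M.e v i ∈ Y) :
    @Orb.Fxd E _ (Fin k) (Fin 2 → F) (act h hE) (TE h hE) Y ≃ ↥(Z ⊓ centralizer (E : Set G)) where
  toFun f := ⟨(eV h hD).symm f.1, by
    have h1 : M.e ((eV h hD).symm f.1 : G) = f.1 := (eV h hD).apply_symm_apply f.1
    have hv : ((eV h hD).symm f.1 : G) ∈ V := ((eV h hD).symm f.1).2
    refine mem_inf.2 ⟨(hZ _).2 ⟨hv, fun i => by rw [h1]; exact f.2.1 i⟩, ?_⟩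
    rw [mem_cent_iff h hE hD hv, h1]
    exact f.2.2⟩
  invFun v := ⟨M.e v.1, fun i => ((hZ _).1 (mem_inf.1 v.2).1).2 i,
    (mem_cent_iff h hE hD ((hZ _).1 (mem_inf.1 v.2).1).1).1 (mem_inf.1 v.2).2⟩
  left_inv f := Subtype.ext ((eV h hD).apply_symm_apply f.1)
  right_inv v := Subtype.ext (by
    have hv : v.1 ∈ V := ((hZ _).1 (mem_inf.1 v.2).1).1
    exact congrArg (fun x : V => (x : G)) ((eV h hD).symm_apply_apply ⟨v.1, hv⟩))

include h hE hS2 hcomm hsq in
/-- **LEMMA V.** -/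
theorem lemV [Finite G] (hD : D = ⊥) {Z : Subgroup G} (hZ : ∀ v, v ∈ Z ↔ v ∈ V ∧ ∀ i, M.e v i 1 = 0) :
    Nat.card E * Nat.card Z * Nat.card ↥(V ⊓ centralizer (E : Set G)) ≤
      Nat.card ↥(E ⊓ centralizer (V : Set G)) * Nat.card ↥(Z ⊓ centralizer (E : Set G)) * Nat.card V := by
  let _ := act h hE
  have hloc : ∀ i, (Orb.K (coc h hE) i).relIndex (MulAction.stabilizer E i) *
      Nat.card (Orb.Loc (TE h hE) Set.univ i) ≤ Nat.card F * Nat.card (Orb.Loc (TE h hE) (Z0 F) i) := by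
    intro i
    have h1 := (sit h hE hS2 hcomm hsq i).main
    have e1 : (sit h hE hS2 hcomm hsq i).N = (Orb.K (coc h hE) i).subgroupOf (MulAction.stabilizer E i) := by
      ext s
      rw [mem_subgroupOf, Orb.mem_K]
      exact ⟨fun h2 => ⟨s.2, h2⟩, fun h2 => h2.2⟩
    have e2 : Nat.card (Orb.Loc (TE h hE) Set.univ i) = Nat.card (OneB.Sit.C
        (fun (s : MulAction.stabilizer E i) x => TE h hE s.1 i x)) :=
      Nat.card_congr (Equiv.subtypeEquivRight fun x =>
        ⟨fun h2 s => h2.2 s.1 s.2, fun h2 => ⟨Set.mem_univ _, fun s hs => h2 ⟨s, hs⟩⟩⟩)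
    have e3 : Nat.card (Orb.Loc (TE h hE) (Z0 F) i) = Nat.card (OneB.Sit.C1
        (fun (s : MulAction.stabilizer E i) x => TE h hE s.1 i x)) :=
      Nat.card_congr (Equiv.subtypeEquivRight fun x =>
        ⟨fun h2 => ⟨h2.1, fun s => h2.2 s.1 s.2⟩, fun h2 => ⟨h2.1, fun s hs => h2.2 ⟨s, hs⟩⟩⟩)
    rw [e2, e3, relIndex, ← e1]
    exact h1
  have hc : ∀ s t : E, ∀ i, (s * t) • i = (t * s) • i ∧ ∀ x, TE h hE (s * t) i x = TE h hE (t * s) i x := by
    intro s t i
    have h1 : ∀ v ∈ V, (inc h hE (s * t) : G) * v * (inc h hE (s * t) : G)⁻¹ =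
        (inc h hE (t * s) : G) * v * (inc h hE (t * s) : G)⁻¹ := by
      intro v hv
      have e1 : ((s * t : E) : G) * v * ((s * t : E) : G)⁻¹ = s * (t * v * (t : G)⁻¹) * (s : G)⁻¹ := by
        rw [Subgroup.coe_mul]; group
      have e2 : ((t * s : E) : G) * v * ((t * s : E) : G)⁻¹ = t * (s * v * (s : G)⁻¹) * (t : G)⁻¹ := by
        rw [Subgroup.coe_mul]; group
      exact e1.trans ((hcomm _ s.2 _ t.2 v hv).trans e2.symm)
    exact ⟨congrFun (congrArg (fun f : Equiv.Perm (Fin k) => (f : Fin k → Fin k)) (same_sgh h h1)) i,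
      same_Tc h h1 i⟩
  have hq : 2 ≤ Nat.card F := Finite.one_lt_card
  have hmain := Orb.main (coc h hE) hc (Z0 := Z0 F) (fun s i x hx => line_Tc h (g := inc h hE s) (hE s.2) i hx) hq hloc
  have c1 := Nat.card_congr (fxdEquiv h hE hD Set.univ (Z := V) fun v => by simp)
  have c2 := Nat.card_congr (fxdEquiv h hE hD (Z0 F) hZ)
  rw [c1, c2, Nat.card_fin] at hmain
  -- the kernel
  have c3 : (⨅ i, Orb.K (coc h hE) i) = (centralizer (V : Set G)).subgroupOf E := by
    ext s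
    rw [mem_iInf, mem_subgroupOf, mem_centralizer_iff]
    constructor
    · intro h1 v hv
      have h2 : (s : G) * v * (s : G)⁻¹ = v := by
        refine e_inj h hD (h.memV (h.SP' (hE s.2)) hv) hv ?_
        funext i
        have h3 := Tc_spec h (inc h hE s) i hv
        have h4 := Orb.mem_K.1 (h1 i)
        have h5 : sgh h (inc h hE s) i = i := h4.1
        rw [h5] at h3
        exact h3.trans (h4.2 _)
      exact (mul_inv_eq_iff_eq_mul.1 h2).symm
    · intro h1 i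
      have h2 : ∀ v ∈ V, (inc h hE s : G) * v * (inc h hE s : G)⁻¹ = ((1 : P') : G) * v * ((1 : P') : G)⁻¹ := by
        intro v hv
        have : (s : G) * v * (s : G)⁻¹ = v := by rw [← h1 v hv]; group
        refine this.trans ?_
        rw [OneMemClass.coe_one]; group
      refine Orb.mem_K.2 ⟨?_, fun x => ?_⟩
      · have h3 := same_sgh h h2
        rw [map_one] at h3
        change sgh h (inc h hE s) i = i
        rw [h3]; rfl
      · exact (same_Tc h h2 i x).trans (Tc_one h i x)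
  have c4 : Nat.card ↥(E ⊓ centralizer (V : Set G)) * (⨅ i, Orb.K (coc h hE) i).index = Nat.card E := by
    rw [c3, inf_comm]
    rw [← relIndex]
    rw [mul_comm]
    have h5 : (centralizer (V : Set G)).relIndex E * Nat.card ↥(centralizer (V : Set G) ⊓ E : Subgroup G) =
        Nat.card E := by
      have h6 := card_mul_index ((centralizer (V : Set G)).subgroupOf E)
      have h7 : Nat.card ((centralizer (V : Set G)).subgroupOf E) =
          Nat.card ↥(centralizer (V : Set G) ⊓ E : Subgroup G) := by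
        rw [← inf_subgroupOf_right]
        exact Nat.card_congr (subgroupOfEquivOfLe inf_le_right).toEquiv
      rw [h7, mul_comm] at h6
      exact h6
    exact h5
  have c5 : Nat.card V = Nat.card F ^ k * Nat.card F ^ k := by
    rw [Nat.card_congr (eV h hD), Nat.card_fun, Nat.card_fun, ← mul_pow]
    simp [pow_two]
  have c6 : Nat.card Z = Nat.card F ^ k := by
    have e : Z ≃ (Fin k → F) :=
      { toFun := fun v i => M.e v.1 i 0
        invFun := fun f => ⟨(eV h hD).symm fun i => ![f i, 0], by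
          have h1 : M.e ((eV h hD).symm (fun i => ![f i, 0]) : G) = fun i => ![f i, 0] :=
            (eV h hD).apply_symm_apply _
          refine (hZ _).2 ⟨((eV h hD).symm fun i => ![f i, 0]).2, fun i => ?_⟩
          rw [h1]; rfl⟩
        left_inv := fun v => Subtype.ext (by
          have hv := (hZ _).1 v.2
          have h1 : (fun i => ![M.e v.1 i 0, 0]) = M.e v.1 := by
            funext i
            exact vec_eq rfl (hv.2 i).symm
          show ((eV h hD).symm (fun i => ![M.e v.1 i 0, 0]) : G) = v.1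
          rw [h1]
          exact congrArg Subtype.val ((eV h hD).symm_apply_apply ⟨v.1, hv.1⟩))
        right_inv := fun f => by
          funext i
          have h1 : M.e ((eV h hD).symm (fun i => ![f i, 0]) : G) = fun i => ![f i, 0] :=
            (eV h hD).apply_symm_apply _
          show M.e ((eV h hD).symm (fun i => ![f i, 0]) : G) i 0 = f i
          rw [h1]; rfl }
    rw [Nat.card_congr e, Nat.card_fun, Nat.card_fin]
  rw [c5, c6, ← c4]
  calc Nat.card ↥(E ⊓ centralizer (V : Set G)) * (⨅ i, Orb.K (coc h hE) i).index * Nat.card F ^ k *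
        Nat.card ↥(V ⊓ centralizer (E : Set G))
      = Nat.card ↥(E ⊓ centralizer (V : Set G)) * Nat.card F ^ k * ((⨅ i, Orb.K (coc h hE) i).index *
        Nat.card ↥(V ⊓ centralizer (E : Set G))) := by ring
    _ ≤ Nat.card ↥(E ⊓ centralizer (V : Set G)) * Nat.card F ^ k *
        (Nat.card ↥(Z ⊓ centralizer (E : Set G)) * Nat.card F ^ k) := Nat.mul_le_mul_left _ hmain
    _ = _ := by ring

end count

end Cfsg.Agent.Omega.OM.YThm.LemV
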