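import Cfsg.Agent.Omega.OM.YThm.Co
import Cfsg.Agent.Omega.OM.YThm.LemK

/-!
# LEMMA V (TCARD 5, D1)

`S` acts on `Z ≅ R` and on `V / Z ≅ R`, `R = F^k`, by the same ring automorphisms, elements of `S` trivial on `Z` act as
`v ↦ v + b · v̄`, `b ∈ R`.  For `E ≤ S` elementary abelian: `|E / C_E(V)| |Z / C_Z(E)| ≤ |V / C_V(E)|`.
Proof: `B = {b(u) : u ∈ C_E(Z)}` and `D = image of C_V(E)` in `V / Z` are subgroups of `R^E` with `B D = 0`, so
`|B| |D| ≤ |R^E|`; then (K).
-/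

set_option autoImplicit false

namespace Cfsg.Agent.Omega.OM.YThm

open Subgroup Cfsg.Agent.ZN Cfsg.Agent.ZN.ChoiceBase Cfsg.Agent.ZN.ChoiceSit
open scoped Pointwise

namespace LemVCo

variable {H : Type*} [Group H] {M : Type*} [AddCommGroup M] [DistribMulAction H M] {F : Type} [Field F]
  {S : Subgroup H} {V Z : AddSubgroup M} {k : ℕ} {e : M → Fin k → Fin 2 → F}

/-- the coordinates in `Z` -/
def c0 (e : M → Fin k → Fin 2 → F) (v : M) : Fin k → F := fun i => e v i 0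

/-- the coordinates in `V / Z` -/
def c1 (e : M → Fin k → Fin 2 → F) (v : M) : Fin k → F := fun i => e v i 1

theorem e_sub (h : Co F S V Z k e) {v w : M} (hv : v ∈ V) (hw : w ∈ V) : e (v - w) = e v - e w := by
  have := h.add (v - w) (V.sub_mem hv hw) w hw
  rw [sub_add_cancel] at this
  rw [this, add_sub_cancel_right]

theorem e_inj (h : Co F S V Z k e) {v w : M} (hv : v ∈ V) (hw : w ∈ V) (hvw : e v = e w) : v = w := by
  have := h.inj (v - w) (V.sub_mem hv hw) (by rw [e_sub h hv hw, hvw, sub_self])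
  exact sub_eq_zero.1 this

theorem ext01 (h : Co F S V Z k e) {v w : M} (hv : v ∈ V) (hw : w ∈ V) (h0 : c0 e v = c0 e w)
    (h1 : c1 e v = c1 e w) : v = w := by
  refine e_inj h hv hw (funext fun i => funext fun j => ?_)
  fin_cases j
  · exact congrFun h0 i
  · exact congrFun h1 i

theorem mem_Z (h : Co F S V Z k e) {v : M} (hv : v ∈ V) : v ∈ Z ↔ c1 e v = 0 := by
  rw [h.memZ v hv]
  exact ⟨fun hc => funext hc, fun hc i => congrFun hc i⟩

theorem c0_add (h : Co F S V Z k e) {v w : M} (hv : v ∈ V) (hw : w ∈ V) : c0 e (v + w) = c0 e v + c0 e w := by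
  funext i; simp only [c0, h.add v hv w hw, Pi.add_apply]

theorem c1_add (h : Co F S V Z k e) {v w : M} (hv : v ∈ V) (hw : w ∈ V) : c1 e (v + w) = c1 e v + c1 e w := by
  funext i; simp only [c1, h.add v hv w hw, Pi.add_apply]

theorem c0_sub (h : Co F S V Z k e) {v w : M} (hv : v ∈ V) (hw : w ∈ V) : c0 e (v - w) = c0 e v - c0 e w := by
  funext i; simp only [c0, e_sub h hv hw, Pi.sub_apply]

theorem c1_sub (h : Co F S V Z k e) {v w : M} (hv : v ∈ V) (hw : w ∈ V) : c1 e (v - w) = c1 e v - c1 e w := by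
  funext i; simp only [c1, e_sub h hv hw, Pi.sub_apply]

theorem exists_v (h : Co F S V Z k e) (x y : Fin k → F) : ∃ v ∈ V, c0 e v = x ∧ c1 e v = y := by
  obtain ⟨v, hv, hev⟩ := h.surj fun i j => if j = 0 then x i else y i
  refine ⟨v, hv, funext fun i => ?_, funext fun i => ?_⟩
  · simp [c0, hev]
  · simp [c1, hev]

open Classical in
/-- the element of `V` with given coordinates -/
noncomputable def vv (h : Co F S V Z k e) (x y : Fin k → F) : M := (exists_v h x y).choose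

theorem vv_mem (h : Co F S V Z k e) (x y : Fin k → F) : vv h x y ∈ V := (exists_v h x y).choose_spec.1

theorem c0_vv (h : Co F S V Z k e) (x y : Fin k → F) : c0 e (vv h x y) = x := (exists_v h x y).choose_spec.2.1

theorem c1_vv (h : Co F S V Z k e) (x y : Fin k → F) : c1 e (vv h x y) = y := (exists_v h x y).choose_spec.2.2

theorem vv_Z (h : Co F S V Z k e) (x : Fin k → F) : vv h x 0 ∈ Z := (mem_Z h (vv_mem h x 0)).2 (c1_vv h x 0)

theorem vv_eq (h : Co F S V Z k e) {v : M} (hv : v ∈ V) : vv h (c0 e v) (c1 e v) = v :=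
  ext01 h (vv_mem h _ _) hv (c0_vv h _ _) (c1_vv h _ _)

theorem vv_eqZ (h : Co F S V Z k e) {v : M} (hv : v ∈ Z) : vv h (c0 e v) 0 = v := by
  have := vv_eq h (h.ZV hv)
  rwa [(mem_Z h (h.ZV hv)).1 hv] at this

theorem SZ (h : Co F S V Z k e) {s : H} (hs : s ∈ S) {z : M} (hz : z ∈ Z) : s • z ∈ Z := by
  rw [h.memZ _ (h.SV s hs z (h.ZV hz))]
  obtain ⟨π, σ, h1, -⟩ := h.act s hs
  intro i
  have := h1 z (h.ZV hz) (π.symm i)
  rw [π.apply_symm_apply, (h.memZ z (h.ZV hz)).1 hz, map_zero] at this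
  exact this

/-- the action on `R = F^k` -/
noncomputable def ff (h : Co F S V Z k e) (s : H) (x : Fin k → F) : Fin k → F := c0 e (s • vv h x 0)

theorem ff_c0 (h : Co F S V Z k e) {s : H} {z : M} (hz : z ∈ Z) : ff h s (c0 e z) = c0 e (s • z) := by
  rw [ff, vv_eqZ h hz]

theorem ff_c1 (h : Co F S V Z k e) {s : H} (hs : s ∈ S) {v : M} (hv : v ∈ V) : ff h s (c1 e v) = c1 e (s • v) := by
  obtain ⟨π, σ, h1, h2⟩ := h.act s hs
  funext j
  obtain ⟨i, rfl⟩ := π.surjective j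
  have e1 := h2 _ (vv_Z h (c1 e v)) i
  have e2 := h1 v hv i
  change e (s • vv h (c1 e v) 0) (π i) 0 = e (s • v) (π i) 1
  rw [e1, e2]
  exact congrArg (σ i) (congrFun (c0_vv h (c1 e v) 0) i)

theorem ff_mul (h : Co F S V Z k e) {s : H} (hs : s ∈ S) (x y : Fin k → F) :
    ff h s (x * y) = ff h s x * ff h s y := by
  obtain ⟨π, σ, -, h2⟩ := h.act s hs
  have key : ∀ (x : Fin k → F) (i : Fin k), ff h s x (π i) = σ i (x i) := by
    intro x i
    have e1 := h2 _ (vv_Z h x) i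
    change e (s • vv h x 0) (π i) 0 = σ i (x i)
    rw [e1]
    exact congrArg (σ i) (congrFun (c0_vv h x 0) i)
  funext j
  obtain ⟨i, rfl⟩ := π.surjective j
  rw [Pi.mul_apply, key, key, key, Pi.mul_apply, map_mul]

theorem ff_one (h : Co F S V Z k e) {s : H} (hs : s ∈ S) : ff h s 1 = 1 := by
  obtain ⟨π, σ, -, h2⟩ := h.act s hs
  funext j
  obtain ⟨i, rfl⟩ := π.surjective j
  have e1 := h2 _ (vv_Z h 1) i
  change e (s • vv h 1 0) (π i) 0 = 1
  rw [e1]
  have e2 : e (vv h 1 0) i 0 = 1 := congrFun (c0_vv h 1 0) i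
  rw [e2, map_one]

theorem two_R (h : Co F S V Z k e) (two : ∀ x : M, x + x = 0) (x : Fin k → F) : x + x = 0 := by
  have h1 := c0_add h (vv_mem h x 0) (vv_mem h x 0)
  rw [two, c0_vv] at h1
  have h2 := c0_add h V.zero_mem V.zero_mem
  rw [add_zero] at h2
  have h3 : c0 e (0 : M) = 0 := by simpa using h2
  rw [← h1, h3]

theorem red_R (x : Fin k → F) (hx : x * x = 0) : x = 0 := by
  funext i
  exact mul_self_eq_zero.1 (congrFun hx i)

theorem ra (h : Co F S V Z k e) (two : ∀ x : M, x + x = 0) {E : Subgroup H} (hES : E ≤ S) (hE : El M E) :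
    LemK.RA (ff h) E where
  two := two_R h two
  one x := by rw [ff, one_smul, c0_vv]
  mul a ha b hb x := by
    rw [ff, mul_smul, ← ff_c0 h (SZ h (hES hb) (vv_Z h x))]
    rfl
  add a ha x y := by
    have e1 : vv h (x + y) 0 = vv h x 0 + vv h y 0 := by
      refine ext01 h (vv_mem h _ _) (V.add_mem (vv_mem h _ _) (vv_mem h _ _)) ?_ ?_
      · rw [c0_vv, c0_add h (vv_mem h _ _) (vv_mem h _ _), c0_vv, c0_vv]
      · rw [c1_vv, c1_add h (vv_mem h _ _) (vv_mem h _ _), c1_vv, c1_vv, add_zero]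
    rw [ff, e1, smul_add, c0_add h (h.SV a (hES ha) _ (vv_mem h _ _)) (h.SV a (hES ha) _ (vv_mem h _ _))]
    rfl
  tim a ha x y := ff_mul h (hES ha) x y
  sq a ha x := by
    change c0 e (a • vv h (c0 e (a • vv h x 0)) 0) = x
    rw [vv_eqZ h (SZ h (hES ha) (vv_Z h x)), hE.sq a ha, c0_vv]
  comm a ha b hb x := by
    change c0 e (a • vv h (c0 e (b • vv h x 0)) 0) = c0 e (b • vv h (c0 e (a • vv h x 0)) 0)
    rw [vv_eqZ h (SZ h (hES hb) (vv_Z h x)), vv_eqZ h (SZ h (hES ha) (vv_Z h x)), hE.comm a ha b hb]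

section

variable (h : Co F S V Z k e)

/-- the vector of `u ∈ C_E(Z)` -/
noncomputable def bb (u : H) : Fin k → F := c0 e (u • vv h 0 1) - c0 e (vv h 0 1)

theorem up' {u : H} (hu : u ∈ S) (huZ : ∀ z ∈ Z, u • z = z) {v : M} (hv : v ∈ V) :
    c0 e (u • v) = c0 e v + bb h u * c1 e v ∧ c1 e (u • v) = c1 e v := by
  obtain ⟨b, hb⟩ := h.up u hu huZ
  have key : ∀ v ∈ V, c0 e (u • v) = c0 e v + b * c1 e v ∧ c1 e (u • v) = c1 e v :=
    fun v hv => ⟨funext fun i => (hb v hv i).1, funext fun i => (hb v hv i).2⟩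
  have hbb : bb h u = b := by
    rw [bb, (key _ (vv_mem h 0 1)).1, c1_vv, mul_one, add_sub_cancel_left]
  rw [hbb]
  exact key v hv

theorem bb_mul {u w : H} (hu : u ∈ S) (huZ : ∀ z ∈ Z, u • z = z) (hw : w ∈ S) (hwZ : ∀ z ∈ Z, w • z = z) :
    bb h (u * w) = bb h u + bb h w := by
  have h1 := up' h hw hwZ (vv_mem h 0 1)
  have h2 := up' h hu huZ (h.SV w hw _ (vv_mem h 0 1))
  rw [bb, mul_smul, h2.1, h1.1, h1.2, c1_vv, mul_one, mul_one]
  abel

theorem bb_fix {E : Subgroup H} (hES : E ≤ S) (hE : El M E) {u : H} (hu : u ∈ E) (huZ : ∀ z ∈ Z, u • z = z)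
    {s : H} (hs : s ∈ E) : ff h s (bb h u) = bb h u := by
  have hv := vv_mem h (0 : Fin k → F) 1
  have huv := h.SV u (hES hu) _ hv
  have hw : u • vv h 0 1 - vv h 0 1 ∈ Z := by
    rw [mem_Z h (V.sub_mem huv hv), c1_sub h huv hv, (up' h (hES hu) huZ hv).2, sub_self]
  have e1 : bb h u = c0 e (u • vv h 0 1 - vv h 0 1) := (c0_sub h huv hv).symm
  have hsv := h.SV s (hES hs) _ hv
  rw [e1, ff_c0 h hw, smul_sub, hE.comm s hs u hu, c0_sub h (h.SV u (hES hu) _ hsv) hsv,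
    (up' h (hES hu) huZ hsv).1, ← ff_c1 h (hES hs) hv, c1_vv, ff_one h (hES hs), mul_one, add_sub_cancel_left, e1]

end

end LemVCo

open LemVCo in
/-- **LEMMA V** -/
theorem Co.lemV {H : Type*} [Group H] {M : Type*} [AddCommGroup M] [DistribMulAction H M] {F : Type} [Field F]
    {S : Subgroup H} {V Z : AddSubgroup M} {k : ℕ} {e : M → Fin k → Fin 2 → F}
    [Finite H] [Finite M] [Finite F] (h : Co F S V Z k e) (two : ∀ x : M, x + x = 0) {E : Subgroup H}
    (hES : E ≤ S) (hE : El M E) :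
    Nat.card E * Nat.card Z * Nat.card (fx V E) ≤ Nat.card (ct E V) * Nat.card (fx Z E) * Nat.card V := by
  classical
  have R := ra h two hES hE
  have hneg : ∀ x : Fin k → F, -x = x := fun x => neg_eq_of_add_eq_zero_left (two_R h two x)
  -- the fixed elements
  have c1f : Nat.card (fx Z E) ≤ Nat.card (LemK.fxR R) := by
    refine Nat.card_le_card_of_injective (fun z : fx Z E => (⟨c0 e (z : M), fun a ha => ?_⟩ : LemK.fxR R)) ?_
    · rw [ff_c0 h z.2.1, z.2.2 a ha]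
    · intro z w hzw
      have h1 : c0 e (z : M) = c0 e (w : M) := congrArg Subtype.val hzw
      have hz := z.2.1
      have hw := w.2.1
      exact Subtype.ext (ext01 h (h.ZV hz) (h.ZV hw) h1 (((mem_Z h (h.ZV hz)).1 hz).trans ((mem_Z h (h.ZV hw)).1 hw).symm))
  have c2f : Nat.card (LemK.fxR R) ≤ Nat.card (fx Z E) := by
    refine Nat.card_le_card_of_injective
      (fun x : LemK.fxR R => (⟨vv h (x : Fin k → F) 0, vv_Z h _, fun a ha => ?_⟩ : fx Z E)) ?_
    · have h1 : ff h a x = x := x.2 a ha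
      have hz := SZ h (hES ha) (vv_Z h (x : Fin k → F))
      rw [← vv_eqZ h hz]
      exact congrArg (fun y => vv h y 0) h1
    · intro x y hxy
      have h1 : vv h (x : Fin k → F) 0 = vv h (y : Fin k → F) 0 := congrArg Subtype.val hxy
      have := congrArg (c0 e) h1
      rw [c0_vv, c0_vv] at this
      exact Subtype.ext this
  have c3 : Nat.card (LemK.kr R) ≤ Nat.card (ct E Z) := by
    refine Subgroup.card_le_of_le fun a ha => ⟨ha.1, fun z hz => ?_⟩
    have h1 := ha.2 (c0 e z)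
    rw [ff_c0 h hz] at h1
    have hz' := SZ h (hES ha.1) hz
    exact ext01 h (h.ZV hz') (h.ZV hz) h1 (((mem_Z h (h.ZV hz')).1 hz').trans ((mem_Z h (h.ZV hz)).1 hz).symm)
  have c4 : Nat.card (Fin k → F) ≤ Nat.card Z := by
    refine Nat.card_le_card_of_injective (fun x : Fin k → F => (⟨vv h x 0, vv_Z h x⟩ : Z)) fun x y hxy => ?_
    have h1 : vv h x 0 = vv h y 0 := congrArg Subtype.val hxy
    have := congrArg (c0 e) h1
    rwa [c0_vv, c0_vv] at this
  have hK : Nat.card E * Nat.card (fx Z E) ≤ Nat.card (ct E Z) * Nat.card Z :=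
    (Nat.mul_le_mul_left _ c1f).trans ((LemK.RA.main red_R _ E R le_rfl).trans (Nat.mul_le_mul c3 c4))
  -- `|V| = |Z|²`
  have c5 : Nat.card Z * Nat.card Z ≤ Nat.card V := by
    rw [← Nat.card_prod]
    refine Nat.card_le_card_of_injective
      (fun x : Z × Z => (⟨vv h (c0 e (x.1 : M)) (c0 e (x.2 : M)), vv_mem h _ _⟩ : V)) ?_
    rintro ⟨x, y⟩ ⟨x', y'⟩ hxy
    have h1 : vv h (c0 e (x : M)) (c0 e (y : M)) = vv h (c0 e (x' : M)) (c0 e (y' : M)) := congrArg Subtype.val hxy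
    have h2 := congrArg (c0 e) h1
    have h3 := congrArg (c1 e) h1
    rw [c0_vv, c0_vv] at h2
    rw [c1_vv, c1_vv] at h3
    have key : ∀ z w : Z, c0 e (z : M) = c0 e (w : M) → z = w := fun z w hzw =>
      Subtype.ext (ext01 h (h.ZV z.2) (h.ZV w.2) hzw
        (((mem_Z h (h.ZV z.2)).1 z.2).trans ((mem_Z h (h.ZV w.2)).1 w.2).symm))
    exact Prod.ext (key _ _ h2) (key _ _ h3)
  -- the subgroups `B` and `D` of `R^E`
  have hb0 : ∀ u ∈ ct E Z, u ∈ S ∧ ∀ z ∈ Z, u • z = z := fun u hu => ⟨hES hu.1, hu.2⟩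
  let B : AddSubgroup (Fin k → F) :=
    { carrier := {x | ∃ u ∈ ct E Z, bb h u = x}
      zero_mem' := ⟨1, (ct E Z).one_mem, by rw [bb, one_smul, sub_self]⟩
      add_mem' := by
        rintro _ _ ⟨u, hu, rfl⟩ ⟨w, hw, rfl⟩
        exact ⟨u * w, (ct E Z).mul_mem hu hw, bb_mul h (hb0 u hu).1 (hb0 u hu).2 (hb0 w hw).1 (hb0 w hw).2⟩
      neg_mem' := by
        rintro x hx
        rwa [hneg] }
  let D : AddSubgroup (Fin k → F) :=
    { carrier := {x | ∃ v ∈ fx V E, c1 e v = x}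
      zero_mem' := ⟨0, (fx V E).zero_mem, (mem_Z h V.zero_mem).1 Z.zero_mem⟩
      add_mem' := by
        rintro _ _ ⟨v, hv, rfl⟩ ⟨w, hw, rfl⟩
        exact ⟨v + w, (fx V E).add_mem hv hw, c1_add h hv.1 hw.1⟩
      neg_mem' := by
        rintro x hx
        rwa [hneg] }
  have hBD : ∀ x ∈ B, ∀ y ∈ D, x * y = 0 := by
    rintro _ ⟨u, hu, rfl⟩ _ ⟨v, hv, rfl⟩
    have h1 := (up' h (hb0 u hu).1 (hb0 u hu).2 hv.1).1
    rw [hv.2 u hu.1] at h1
    exact (left_eq_add.1 h1)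
  have hBf : ∀ x ∈ B, x ∈ LemK.fxR R := by
    rintro _ ⟨u, hu, rfl⟩ s hs
    exact bb_fix h hES hE hu.1 hu.2 hs
  have hDf : ∀ y ∈ D, y ∈ LemK.fxR R := by
    rintro _ ⟨v, hv, rfl⟩ s hs
    rw [ff_c1 h (hES hs) hv.1, hv.2 s hs]
  have d1 : Nat.card B * Nat.card D ≤ Nat.card (fx Z E) := by
    refine le_trans ?_ c2f
    rw [← Nat.card_prod]
    refine Nat.card_le_card_of_injective
      (fun x : B × D => (⟨(x.1 : Fin k → F) + x.2, (LemK.fxR R).add_mem (hBf _ x.1.2) (hDf _ x.2.2)⟩ : LemK.fxR R)) ?_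
    rintro ⟨x, y⟩ ⟨x', y'⟩ hxy
    have h1 : (x : Fin k → F) + y = x' + y' := congrArg Subtype.val hxy
    have h2 : (x : Fin k → F) - x' = y' - y := by
      rw [sub_eq_sub_iff_add_eq_add, h1, add_comm]
    have h3 : (x : Fin k → F) - x' = 0 := by
      refine red_R _ ?_
      nth_rewrite 2 [h2]
      exact hBD _ (B.sub_mem x.2 x'.2) _ (D.sub_mem y'.2 y.2)
    have h4 : (y' : Fin k → F) - y = 0 := by rw [← h2, h3]
    exact Prod.ext (Subtype.ext (sub_eq_zero.1 h3)) (Subtype.ext (sub_eq_zero.1 h4).symm)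
  have d2 : Nat.card (ct E Z) ≤ Nat.card (ct E V) * Nat.card B := by
    have key : ∀ a ∈ ct E Z, ∀ b ∈ ct E Z, bb h a = bb h b → b⁻¹ * a ∈ ct E V := by
      intro a ha b hb hab
      have hba := (ct E Z).mul_mem ((ct E Z).inv_mem hb) ha
      have h1 := bb_mul h (hb0 b hb).1 (hb0 b hb).2 (hb0 _ hba).1 (hb0 _ hba).2
      rw [mul_inv_cancel_left] at h1
      have h2 : bb h (b⁻¹ * a) = 0 := by
        rw [hab] at h1
        exact (left_eq_add.1 h1)
      refine ⟨hba.1, fun v hv => ?_⟩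
      have h3 := up' h (hb0 _ hba).1 (hb0 _ hba).2 hv
      rw [h2, zero_mul, add_zero] at h3
      exact ext01 h (h.SV _ (hb0 _ hba).1 v hv) hv h3.1 h3.2
    have hB : ∀ y : B, ∃ u, u ∈ ct E Z ∧ bb h u = y := fun y => by
      obtain ⟨u, hu, huy⟩ := y.2
      exact ⟨u, hu, huy⟩
    choose w hw hwy using hB
    let d : ct E Z → B := fun u => ⟨bb h (u : H), u, u.2, rfl⟩
    rw [← Nat.card_prod]
    refine Nat.card_le_card_of_injective
      (fun u : ct E Z => ((⟨(w (d u))⁻¹ * (u : H), key (u : H) u.2 (w (d u)) (hw (d u)) (hwy (d u)).symm⟩ : ct E V), d u)) ?_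
    intro u u' huu
    have h2 : d u = d u' := (Prod.ext_iff.1 huu).2
    have h1 : (w (d u))⁻¹ * (u : H) = (w (d u'))⁻¹ * (u' : H) := congrArg Subtype.val (Prod.ext_iff.1 huu).1
    rw [h2] at h1
    exact Subtype.ext (mul_left_cancel h1)
  have d3 : Nat.card (fx V E) ≤ Nat.card (fx Z E) * Nat.card D := by
    have hD : ∀ y : D, ∃ v, v ∈ fx V E ∧ c1 e v = y := fun y => by
      obtain ⟨v, hv, hvy⟩ := y.2
      exact ⟨v, hv, hvy⟩
    choose w hw hwy using hD
    let d : fx V E → D := fun v => ⟨c1 e (v : M), v, v.2, rfl⟩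
    rw [← Nat.card_prod]
    refine Nat.card_le_card_of_injective
      (fun v : fx V E => ((⟨(v : M) - w (d v), ?_⟩ : fx Z E), d v)) ?_
    · refine ⟨?_, ((fx V E).sub_mem v.2 (hw _)).2⟩
      rw [mem_Z h (V.sub_mem v.2.1 (hw _).1), c1_sub h v.2.1 (hw _).1, hwy]
      exact sub_self (c1 e (v : M))
    · intro v v' hvv
      have h2 : d v = d v' := (Prod.ext_iff.1 hvv).2
      have h1 : (v : M) - w (d v) = (v' : M) - w (d v') := congrArg Subtype.val (Prod.ext_iff.1 hvv).1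
      rw [h2] at h1
      exact Subtype.ext (sub_left_injective h1)
  have hpos : 0 < Nat.card (fx Z E) := Nat.card_pos
  -- combination
  have k1 : Nat.card E * Nat.card (fx V E) ≤ Nat.card (ct E V) * Nat.card Z * Nat.card (fx Z E) := by
    refine Nat.le_of_mul_le_mul_left ?_ hpos
    calc Nat.card (fx Z E) * (Nat.card E * Nat.card (fx V E))
        = (Nat.card E * Nat.card (fx Z E)) * Nat.card (fx V E) := by ring
      _ ≤ (Nat.card (ct E Z) * Nat.card Z) * (Nat.card (fx Z E) * Nat.card D) := Nat.mul_le_mul hK d3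
      _ ≤ ((Nat.card (ct E V) * Nat.card B) * Nat.card Z) * (Nat.card (fx Z E) * Nat.card D) :=
          Nat.mul_le_mul_right _ (Nat.mul_le_mul_right _ d2)
      _ = (Nat.card (ct E V) * Nat.card Z * Nat.card (fx Z E)) * (Nat.card B * Nat.card D) := by ring
      _ ≤ (Nat.card (ct E V) * Nat.card Z * Nat.card (fx Z E)) * Nat.card (fx Z E) := Nat.mul_le_mul_left _ d1
      _ = Nat.card (fx Z E) * (Nat.card (ct E V) * Nat.card Z * Nat.card (fx Z E)) := by ring
  calc Nat.card E * Nat.card Z * Nat.card (fx V E)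
      = (Nat.card E * Nat.card (fx V E)) * Nat.card Z := by ring
    _ ≤ (Nat.card (ct E V) * Nat.card Z * Nat.card (fx Z E)) * Nat.card Z := Nat.mul_le_mul_right _ k1
    _ = (Nat.card (ct E V) * Nat.card (fx Z E)) * (Nat.card Z * Nat.card Z) := by ring
    _ ≤ Nat.card (ct E V) * Nat.card (fx Z E) * Nat.card V := Nat.mul_le_mul_left _ c5

end Cfsg.Agent.Omega.OM.YThm
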