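import Cfsg.Agent.Omega.OM.YThm.Def
import Cfsg.Agent.Omega.OM.BlockUniq

/-!
# THEOREM Y, plug: the module `W` of the group `C`

`C ≤ N_G(W)`, `W` elementary abelian; `MW h` = `W` written additively, a module for the group `↥C`.

* `vl : MW h → G`, `mk`; `ad X` (a subgroup of `W` as a submodule), `gp Y` (a submodule as a subgroup of `G`);
* `up A` (a subgroup of `↥C` as a subgroup of `G`), `dn A`;
* `YG` : the situation `YS` in terms of subgroups of `G`; **`YG.toYS`**.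
-/

set_option autoImplicit false

namespace Cfsg.Agent.Omega.OM.YThm

open Subgroup Cfsg Cfsg.Agent.ZN Cfsg.Agent.ZN.ChoiceBase Cfsg.Agent.ZN.ChoiceSit
open scoped Pointwise

universe u

variable {G : Type u} [Group G]

/-- `C ≤ N_G(W)`, `W` elementary abelian -/
structure WD (C W : Subgroup G) : Prop where
  nrm : C ≤ normalizer (W : Set G)
  el : IsElementaryAbelian 2 W

variable {C W : Subgroup G}

theorem WD.comm (h : WD C W) {v w : G} (hv : v ∈ W) (hw : w ∈ W) : v * w = w * v :=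
  congrArg Subtype.val (h.el.1.is_comm.comm ⟨v, hv⟩ ⟨w, hw⟩)

theorem WD.sq (h : WD C W) {v : G} (hv : v ∈ W) : v * v = 1 := by
  have := h.el.2 v hv
  rwa [pow_two] at this

theorem WD.cn (h : WD C W) {c v : G} (hc : c ∈ C) (hv : v ∈ W) : c * v * c⁻¹ ∈ W :=
  (mem_normalizer_iff.1 (h.nrm hc) v).1 hv

/-- `W` as a module -/
def MW (_ : WD C W) : Type u := Additive W

namespace MW

variable {h : WD C W}

instance : AddCommGroup (MW h) :=
  { (inferInstance : AddGroup (Additive W)) with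
    add_comm := fun a b => Subtype.ext (h.comm (Additive.toMul a).2 (Additive.toMul b).2) }

/-- the element of `W` -/
def vl (x : MW h) : G := ((Additive.toMul x : W) : G)

/-- an element of `W` as an element of the module -/
def mk (h : WD C W) (v : W) : MW h := Additive.ofMul v

theorem vl_mem (x : MW h) : vl x ∈ W := (Additive.toMul x : W).2

theorem vl_mk (v : W) : vl (mk h v) = v := rfl

theorem vl_add (x y : MW h) : vl (x + y) = vl x * vl y := rfl

theorem vl_zero : vl (0 : MW h) = 1 := rfl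

theorem vl_neg (x : MW h) : vl (-x) = (vl x)⁻¹ := rfl

theorem vl_inj {x y : MW h} (e : vl x = vl y) : x = y := Subtype.ext e

theorem vl_sub (x y : MW h) : vl (x - y) = vl x * (vl y)⁻¹ := by
  rw [sub_eq_add_neg, vl_add, vl_neg]

instance : SMul C (MW h) := ⟨fun c x => mk h ⟨c * vl x * (c : G)⁻¹, h.cn c.2 (vl_mem x)⟩⟩

theorem vl_smul (c : C) (x : MW h) : vl (c • x) = c * vl x * (c : G)⁻¹ := rfl

instance : DistribMulAction C (MW h) where
  one_smul x := vl_inj (by rw [vl_smul, OneMemClass.coe_one, one_mul, inv_one, mul_one])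
  mul_smul a b x := vl_inj (by
    rw [vl_smul, vl_smul, vl_smul, Subgroup.coe_mul]; group)
  smul_zero c := vl_inj (by rw [vl_smul, vl_zero, mul_one, mul_inv_cancel])
  smul_add c x y := vl_inj (by
    rw [vl_smul, vl_add, vl_add, vl_smul, vl_smul]; group)

instance [Finite G] : Finite (MW h) := inferInstanceAs (Finite W)

/-- a subgroup as a submodule -/
def ad (h : WD C W) (X : Subgroup G) : AddSubgroup (MW h) where
  carrier := {x | vl x ∈ X}
  zero_mem' := by
    show vl (0 : MW h) ∈ X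
    rw [vl_zero]; exact one_mem _
  add_mem' := by
    intro x y hx hy
    show vl (x + y) ∈ X
    rw [vl_add]; exact mul_mem hx hy
  neg_mem' := by
    intro x hx
    show vl (-x) ∈ X
    rw [vl_neg]; exact inv_mem hx

theorem mem_ad {X : Subgroup G} {x : MW h} : x ∈ ad h X ↔ vl x ∈ X := Iff.rfl

/-- a submodule as a subgroup -/
def gp (Y : AddSubgroup (MW h)) : Subgroup G where
  carrier := {g | ∃ x ∈ Y, vl x = g}
  one_mem' := ⟨0, Y.zero_mem, vl_zero⟩
  mul_mem' := by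
    rintro _ _ ⟨x, hx, rfl⟩ ⟨y, hy, rfl⟩
    exact ⟨x + y, Y.add_mem hx hy, vl_add _ _⟩
  inv_mem' := by
    rintro _ ⟨x, hx, rfl⟩
    exact ⟨-x, Y.neg_mem hx, vl_neg _⟩

theorem mem_gp {Y : AddSubgroup (MW h)} {g : G} : g ∈ gp Y ↔ ∃ x ∈ Y, vl x = g := Iff.rfl

theorem vl_mem_gp {Y : AddSubgroup (MW h)} {x : MW h} : vl x ∈ gp Y ↔ x ∈ Y :=
  ⟨fun ⟨y, hy, e⟩ => by rwa [← vl_inj e], fun hx => ⟨x, hx, rfl⟩⟩

theorem gp_le (Y : AddSubgroup (MW h)) : gp Y ≤ W := by
  rintro _ ⟨x, -, rfl⟩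
  exact vl_mem x

theorem ad_gp (Y : AddSubgroup (MW h)) : ad h (gp Y) = Y := by
  ext x
  rw [mem_ad, vl_mem_gp]

theorem gp_ad {X : Subgroup G} (hX : X ≤ W) : gp (ad h X) = X := by
  ext g
  rw [mem_gp]
  constructor
  · rintro ⟨x, hx, rfl⟩
    exact hx
  · intro hg
    exact ⟨mk h ⟨g, hX hg⟩, hg, rfl⟩

/-- `X` and `ad X` -/
def adEquiv (h : WD C W) {X : Subgroup G} (hX : X ≤ W) : X ≃ ad h X where
  toFun x := ⟨mk h ⟨x, hX x.2⟩, x.2⟩
  invFun x := ⟨vl x.1, x.2⟩
  left_inv _ := rfl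
  right_inv _ := rfl

theorem card_ad {X : Subgroup G} (hX : X ≤ W) : Nat.card (ad h X) = Nat.card X :=
  (Nat.card_congr (adEquiv h hX)).symm

theorem card_gp (Y : AddSubgroup (MW h)) : Nat.card (gp Y) = Nat.card Y := by
  rw [← card_ad (h := h) (gp_le Y), ad_gp]

theorem ad_le {X Y : Subgroup G} (hX : X ≤ W) : ad h X ≤ ad h Y ↔ X ≤ Y := by
  constructor
  · intro h1 g hg
    exact h1 (show mk h ⟨g, hX hg⟩ ∈ ad h X from hg)
  · exact fun h1 x hx => h1 hx

/-! ### Subgroups of `C` -/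

/-- a subgroup of `↥C` as a subgroup of `G` -/
abbrev upc (A : Subgroup C) : Subgroup G := A.map C.subtype

theorem mem_upc {A : Subgroup C} {g : G} : g ∈ upc A ↔ ∃ hg : g ∈ C, (⟨g, hg⟩ : C) ∈ A := by
  rw [mem_map]
  constructor
  · rintro ⟨x, hx, rfl⟩
    exact ⟨x.2, hx⟩
  · rintro ⟨hg, h1⟩
    exact ⟨⟨g, hg⟩, h1, rfl⟩

theorem coe_mem_upc {A : Subgroup C} {x : C} : (x : G) ∈ upc A ↔ x ∈ A := by
  rw [mem_upc]
  exact ⟨fun ⟨_, h1⟩ => h1, fun h1 => ⟨x.2, h1⟩⟩

theorem upc_le (A : Subgroup C) : upc A ≤ C := map_subtype_le A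

theorem card_upc (A : Subgroup C) : Nat.card (upc A) = Nat.card A :=
  (Nat.card_congr (A.equivMapOfInjective C.subtype C.subtype_injective).toEquiv).symm

theorem upc_subgroupOf {A : Subgroup G} (hA : A ≤ C) : upc (A.subgroupOf C) = A := by
  rw [upc, subgroupOf_map_subtype, inf_eq_left.2 hA]

theorem upc_le_iff {A B : Subgroup C} : upc A ≤ upc B ↔ A ≤ B :=
  map_le_map_iff_of_injective C.subtype_injective

theorem upc_inj {A B : Subgroup C} (e : upc A = upc B) : A = B := map_injective C.subtype_injective e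

theorem upc_cj (g : C) (A : Subgroup C) : upc (cj g A) = cj (g : G) (upc A) := by
  ext x
  rw [mem_upc, mem_cj, mem_upc]
  constructor
  · rintro ⟨hx, h1⟩
    rw [mem_cj] at h1
    exact ⟨mul_mem (mul_mem (inv_mem g.2) hx) g.2, h1⟩
  · rintro ⟨hx, h1⟩
    have hx' : x ∈ C := by
      have := mul_mem (mul_mem g.2 hx) (inv_mem g.2)
      have e : (g : G) * ((g : G)⁻¹ * x * g) * (g : G)⁻¹ = x := by group
      rwa [e] at this
    refine ⟨hx', ?_⟩
    rw [mem_cj]
    exact h1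

theorem isPGroup_upc {A : Subgroup C} : IsPGroup 2 (upc A) ↔ IsPGroup 2 A := by
  have e := A.equivMapOfInjective C.subtype C.subtype_injective
  exact ⟨fun h1 => h1.of_equiv e.symm, fun h1 => h1.of_equiv e⟩

/-! ### The action -/

theorem smul_ad (g : C) {X : Subgroup G} : g • ad h X = ad h (cj (g : G) X) := by
  ext x
  rw [AddSubgroup.mem_pointwise_smul_iff_inv_smul_mem, mem_ad, mem_ad, vl_smul, mem_cj,
    InvMemClass.coe_inv, inv_inv]

theorem smul_ad_eq_iff (g : C) {X Y : Subgroup G} (hX : X ≤ W) (hY : Y ≤ W) :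
    g • ad h X = ad h Y ↔ cj (g : G) X = Y := by
  rw [smul_ad]
  have hgX : cj (g : G) X ≤ W := by
    rintro _ ⟨x, hx, rfl⟩
    exact h.cn g.2 (hX hx)
  constructor
  · intro e
    rw [← gp_ad (h := h) hgX, e, gp_ad hY]
  · rintro rfl
    rfl

theorem smul_eq_iff (g : C) (x : MW h) : g • x = x ↔ (g : G) * vl x = vl x * g := by
  constructor
  · intro e
    have := congrArg vl e
    rw [vl_smul] at this
    exact mul_inv_eq_iff_eq_mul.1 this
  · intro e
    apply vl_inj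
    rw [vl_smul, e]
    group

theorem fx_ad {X : Subgroup G} (A : Subgroup C) :
    fx (ad h X) A = ad h (X ⊓ centralizer (upc A : Set G)) := by
  ext x
  rw [mem_fx, mem_ad, mem_ad, mem_inf, mem_centralizer_iff]
  refine and_congr_right fun _ => ⟨fun h1 g hg => ?_, fun h1 a ha => ?_⟩
  · obtain ⟨hgC, hgA⟩ := mem_upc.1 hg
    exact (smul_eq_iff _ _).1 (h1 _ hgA)
  · exact (smul_eq_iff _ _).2 (h1 _ (coe_mem_upc.2 ha))

theorem upc_ct {X : Subgroup G} (hX : X ≤ W) (A : Subgroup C) :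
    upc (ct A (ad h X)) = upc A ⊓ centralizer (X : Set G) := by
  ext g
  rw [mem_upc, mem_inf, mem_upc, mem_centralizer_iff]
  constructor
  · rintro ⟨hg, h1, h2⟩
    refine ⟨⟨hg, h1⟩, fun v hv => ?_⟩
    exact ((smul_eq_iff _ _).1 (h2 (mk h ⟨v, hX hv⟩) hv)).symm
  · rintro ⟨⟨hg, h1⟩, h2⟩
    refine ⟨hg, h1, fun x hx => (smul_eq_iff _ _).2 (h2 _ hx).symm⟩

theorem gp_fx (Y : AddSubgroup (MW h)) (A : Subgroup C) :
    Nat.card (fx Y A) = Nat.card ↥(gp Y ⊓ centralizer (upc A : Set G)) := by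
  have h1 := fx_ad (h := h) (X := gp Y) A
  rw [ad_gp] at h1
  rw [h1, card_ad (inf_le_left.trans (gp_le Y))]

theorem gp_ct (Y : AddSubgroup (MW h)) (A : Subgroup C) :
    Nat.card (ct A Y) = Nat.card ↥(upc A ⊓ centralizer (gp Y : Set G)) := by
  have h1 := upc_ct (h := h) (gp_le Y) A
  rw [ad_gp] at h1
  rw [← h1, card_upc]

end MW

end Cfsg.Agent.Omega.OM.YThm
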