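import Cfsg.Agent.Omega.OM.YThm.Co

/-!
# THEOREM Y, piece D3: the field `YS0.odd` from the coordinates

`Co.odd` : an odd element of the stabiliser of `Z` which stabilises the component `Z i` and fixes the `S`-fixed vectors of
`Z` (and acts semilinearly) centralises `Z i`.
-/

set_option autoImplicit false

namespace Cfsg.Agent.Omega.OM.YThm

open Subgroup Cfsg.Agent.ZN Cfsg.Agent.ZN.ChoiceBase Cfsg.Agent.ZN.ChoiceSit
open scoped Pointwise

namespace Odd3

/-- Artin: a field automorphism of odd order which fixes the fixed field of a finite 2-group is trivial. -/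
theorem artin {F : Type*} [Field F] (Γ : Subgroup (RingAut F)) [Finite Γ] (hΓ : IsPGroup 2 Γ) (σ : RingAut F)
    (hσ : ∀ c : F, (∀ τ ∈ Γ, τ c = c) → σ c = c) {n : ℕ} (hn : Odd n) (hσn : σ ^ n = 1) : σ = 1 := by
  have hmem : σ ∈ Γ := by
    let σ' : F ≃ₐ[FixedPoints.subfield Γ F] F :=
      { σ with
        commutes' := fun c => by
          show σ (c : F) = (c : F)
          exact hσ _ (fun τ hτ => c.2 ⟨τ, hτ⟩) }
    obtain ⟨γ, hγ⟩ := FixedPoints.toAlgAut_surjective Γ F σ'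
    have : (γ : RingAut F) = σ := by
      ext x
      have := congrArg (fun f : F ≃ₐ[FixedPoints.subfield Γ F] F => f x) hγ
      exact this
    rw [← this]
    exact γ.2
  obtain ⟨m, hm⟩ := hΓ ⟨σ, hmem⟩
  have hm' : σ ^ 2 ^ m = 1 := by
    have := congrArg Subtype.val hm
    simpa using this
  have h1 : orderOf σ ∣ n := orderOf_dvd_of_pow_eq_one hσn
  have h2 : orderOf σ ∣ 2 ^ m := orderOf_dvd_of_pow_eq_one hm'
  have hc : Nat.Coprime n (2 ^ m) := Nat.Coprime.pow_right _ (Nat.coprime_two_right.2 hn)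
  have h3 : orderOf σ = 1 := Nat.eq_one_of_dvd_coprimes hc h1 h2
  exact orderOf_eq_one_iff.1 h3

variable {H : Type*} [Group H] {M : Type*} [AddCommGroup M] [DistribMulAction H M] {F : Type} [Field F]
  {S : Subgroup H} {V Z : AddSubgroup M} {k : ℕ} {e : M → Fin k → Fin 2 → F}

/-- `s` maps the component `i` of `Z` to the component `j` by `τ`. -/
def Mp (Z : AddSubgroup M) (e : M → Fin k → Fin 2 → F) (s : H) (i j : Fin k) (τ : RingAut F) : Prop :=
  ∀ z ∈ Z, e (s • z) j 0 = τ (e z i 0)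

theorem SZ (h : Co F S V Z k e) {s : H} (hs : s ∈ S) {z : M} (hz : z ∈ Z) : s • z ∈ Z := by
  have hzV := h.ZV hz
  obtain ⟨π, σ, h1, _⟩ := h.act s hs
  rw [h.memZ _ (h.SV s hs z hzV)]
  intro j
  have := h1 z hzV (π.symm j)
  rw [Equiv.apply_symm_apply] at this
  rw [this, (h.memZ z hzV).1 hz, map_zero]

theorem exZ (h : Co F S V Z k e) (x : Fin k → F) : ∃ z ∈ Z, ∀ i, e z i 0 = x i := by
  obtain ⟨v, hv, hev⟩ := h.surj (fun i => ![x i, 0])
  refine ⟨v, (h.memZ v hv).2 fun i => by rw [hev]; rfl, fun i => by rw [hev]; rfl⟩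

theorem sub (h : Co F S V Z k e) {v w : M} (hv : v ∈ V) (hw : w ∈ V) : e (v - w) = e v - e w := by
  have := h.add (v - w) (V.sub_mem hv hw) w hw
  rw [sub_add_cancel] at this
  rw [this, add_sub_cancel_right]

theorem extZ (h : Co F S V Z k e) {z w : M} (hz : z ∈ Z) (hw : w ∈ Z) (he : ∀ i, e z i 0 = e w i 0) : z = w := by
  have hzV := h.ZV hz
  have hwV := h.ZV hw
  rw [← sub_eq_zero]
  apply h.inj _ (V.sub_mem hzV hwV)
  rw [sub h hzV hwV]
  funext i j
  show e z i j - e w i j = 0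
  fin_cases j
  · show e z i 0 - e w i 0 = 0
    rw [he i, sub_self]
  · show e z i 1 - e w i 1 = 0
    rw [(h.memZ z hzV).1 hz i, (h.memZ w hwV).1 hw i, sub_self]

theorem Mp.one (i : Fin k) : Mp Z e (1 : H) i i 1 := fun z _ => by rw [one_smul]; rfl

theorem Mp.mul (h : Co F S V Z k e) {s t : H} (ht : t ∈ S) {i j l : Fin k} {τ τ' : RingAut F} (h1 : Mp Z e s j l τ')
    (h2 : Mp Z e t i j τ) : Mp Z e (s * t) i l (τ' * τ) := fun z hz => by
  rw [mul_smul, h1 _ (SZ h ht hz), h2 z hz]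
  rfl

theorem Mp.inv (h : Co F S V Z k e) {s : H} (hs : s ∈ S) {i j : Fin k} {τ : RingAut F} (h1 : Mp Z e s i j τ) :
    Mp Z e s⁻¹ j i τ⁻¹ := fun z hz => by
  have := h1 _ (SZ h (S.inv_mem hs) hz)
  rw [smul_inv_smul] at this
  rw [this]
  exact (τ.symm_apply_apply _).symm

theorem exMp (h : Co F S V Z k e) {s : H} (hs : s ∈ S) :
    ∃ (π : Equiv.Perm (Fin k)) (σ : Fin k → RingAut F), ∀ i, Mp Z e s i (π i) (σ i) := by
  obtain ⟨π, σ, _, h2⟩ := h.act s hs
  exact ⟨π, σ, fun i z hz => h2 z hz i⟩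

theorem Mp.uniq (h : Co F S V Z k e) {s : H} {i j : Fin k} {τ τ' : RingAut F} (h1 : Mp Z e s i j τ)
    (h2 : Mp Z e s i j τ') : τ = τ' := by
  ext x
  obtain ⟨z, hz, hez⟩ := exZ h (fun _ => x)
  rw [← hez i, ← h1 z hz, ← h2 z hz]

/-- the image of the stabiliser of the index `i` in `Aut F` -/
def Gam (h : Co F S V Z k e) (i : Fin k) : Subgroup (RingAut F) where
  carrier := {τ | ∃ s ∈ S, Mp Z e s i i τ}
  one_mem' := ⟨1, S.one_mem, Mp.one i⟩
  mul_mem' := by
    rintro a b ⟨s, hs, h1⟩ ⟨t, ht, h2⟩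
    exact ⟨s * t, S.mul_mem hs ht, Mp.mul h ht h1 h2⟩
  inv_mem' := by
    rintro a ⟨s, hs, h1⟩
    exact ⟨s⁻¹, S.inv_mem hs, Mp.inv h hs h1⟩

theorem Mp.pow (h : Co F S V Z k e) {s : H} (hs : s ∈ S) {i : Fin k} {τ : RingAut F} (h1 : Mp Z e s i i τ) (n : ℕ) :
    Mp Z e (s ^ n) i i (τ ^ n) := by
  induction n with
  | zero => rw [pow_zero, pow_zero]; exact Mp.one i
  | succ n ih => rw [pow_succ, pow_succ]; exact Mp.mul h hs ih h1

theorem gam2 (h : Co F S V Z k e) (hS : IsPGroup 2 S) (i : Fin k) : IsPGroup 2 (Gam h i) := by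
  rintro ⟨τ, s, hs, h1⟩
  obtain ⟨m, hm⟩ := hS ⟨s, hs⟩
  have hm' : s ^ 2 ^ m = 1 := by simpa using congrArg Subtype.val hm
  refine ⟨m, Subtype.ext ?_⟩
  show τ ^ 2 ^ m = 1
  have := Mp.pow h hs h1 (2 ^ m)
  rw [hm'] at this
  exact Mp.uniq h this (Mp.one i)

/-- a fixed vector of `S` with a given coordinate -/
theorem exists_fixed (h : Co F S V Z k e) (i : Fin k) {c : F} (hc : ∀ τ ∈ Gam h i, τ c = c) :
    ∃ z ∈ Z, (∀ s ∈ S, s • z = z) ∧ e z i 0 = c := by
  classical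
  set x : Fin k → F := fun j =>
    if hj : ∃ τ : RingAut F, ∃ s ∈ S, Mp Z e s i j τ then (Classical.choose hj) c else 0 with hx
  have key : ∀ s ∈ S, ∀ j τ, Mp Z e s i j τ → x j = τ c := by
    intro s hs j τ hsj
    have hj : ∃ τ : RingAut F, ∃ s ∈ S, Mp Z e s i j τ := ⟨τ, s, hs, hsj⟩
    have h1 : x j = (Classical.choose hj) c := by
      rw [hx]
      exact dif_pos hj
    rw [h1]
    obtain ⟨t, ht, htj⟩ := Classical.choose_spec hj
    have h2 := hc _ ⟨s⁻¹ * t, S.mul_mem (S.inv_mem hs) ht, Mp.mul h ht (Mp.inv h hs hsj) htj⟩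
    have h3 : τ ((τ⁻¹ * Classical.choose hj) c) = τ c := by rw [h2]
    rw [← h3]
    exact (τ.apply_symm_apply _).symm
  have key0 : ∀ j, (¬ ∃ τ : RingAut F, ∃ s ∈ S, Mp Z e s i j τ) → x j = 0 := by
    intro j hj
    rw [hx]
    exact dif_neg hj
  obtain ⟨z, hz, hez⟩ := exZ h x
  refine ⟨z, hz, ?_, ?_⟩
  · intro s hs
    apply extZ h (SZ h hs hz) hz
    obtain ⟨π, σ, hπ⟩ := exMp h hs
    intro j'
    obtain ⟨j, rfl⟩ := π.surjective j'
    rw [hπ j z hz, hez, hez]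
    by_cases hj : ∃ τ : RingAut F, ∃ s ∈ S, Mp Z e s i j τ
    · obtain ⟨τ, t, ht, htj⟩ := hj
      rw [key t ht j τ htj, key (s * t) (S.mul_mem hs ht) (π j) (σ j * τ) (Mp.mul h ht (hπ j) htj)]
      rfl
    · rw [key0 j hj, key0 (π j), map_zero]
      rintro ⟨τ, t, ht, htj⟩
      exact hj ⟨(σ j)⁻¹ * τ, s⁻¹ * t, S.mul_mem (S.inv_mem hs) ht, Mp.mul h ht (Mp.inv h hs (hπ j)) htj⟩
  · rw [hez, key 1 S.one_mem i 1 (Mp.one i)]
    rfl

end Odd3

open Odd3 in
/-- The field `YS0.odd`. -/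
theorem Co.odd {H : Type*} [Group H] {M : Type*} [AddCommGroup M] [DistribMulAction H M] {F : Type} [Field F]
    [Finite F] {S : Subgroup H} {V Z : AddSubgroup M} {k : ℕ} {e : M → Fin k → Fin 2 → F}
    (h : Co F S V Z k e) (hS : IsPGroup 2 S) {Zi : Fin k → AddSubgroup M}
    (hZi : ∀ i z, z ∈ Zi i ↔ z ∈ Z ∧ ∀ j, j ≠ i → e z j 0 = 0)
    (hsem : ∀ g : H, g • Z = Z → ∃ (π : Equiv.Perm (Fin k)) (a : Fin k → F) (σ : Fin k → F ≃+* F),
      ∀ z ∈ Z, ∀ i, e (g • z) (π i) 0 = a i * σ i (e z i 0))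
    (hfix : ∀ g : H, g • Z = Z → ∀ z ∈ Z, (∀ s ∈ S, s • z = z) → g • z = z) :
    ∀ g : H, g • Z = Z → Odd (orderOf g) → ∀ i, g • Zi i = Zi i → ∀ z ∈ Zi i, g • z = z := by
  classical
  intro g hgZ hodd i hgi
  obtain ⟨π, a, σ, hπ⟩ := hsem g hgZ
  have hgm : ∀ z ∈ Z, g • z ∈ Z := fun z hz => by
    rw [← hgZ]
    exact AddSubgroup.smul_mem_pointwise_smul _ _ _ hz
  have hgmi : ∀ z ∈ Zi i, g • z ∈ Zi i := fun z hz => by
    rw [← hgi]
    exact AddSubgroup.smul_mem_pointwise_smul _ _ _ hz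
  -- `π i = i`
  have hπi : π i = i := by
    obtain ⟨z, hz, hez⟩ := exZ h (fun j => if j = i then (1 : F) else 0)
    have hzi : z ∈ Zi i := (hZi i z).2 ⟨hz, fun j hj => by rw [hez, if_neg hj]⟩
    by_contra hne
    have hgz := (hZi i _).1 (hgmi z hzi)
    have h0 : g • z = 0 := by
      apply extZ h (hgm z hz) Z.zero_mem
      have e0 : e 0 = 0 := by
        have := sub h (V.zero_mem) (V.zero_mem)
        simpa using this
      intro j'
      rw [e0]
      obtain ⟨j, rfl⟩ := π.surjective j'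
      show e (g • z) (π j) 0 = 0
      by_cases hj : j = i
      · subst hj
        exact hgz.2 _ hne
      · rw [hπ z hz j, hez, if_neg hj, map_zero, mul_zero]
    have hz0 : z = 0 := by
      have := congrArg (fun y => g⁻¹ • y) h0
      simpa using this
    have e0 : e 0 = 0 := by
      have := sub h (V.zero_mem) (V.zero_mem)
      simpa using this
    have h1 := hez i
    rw [hz0, e0, if_pos rfl] at h1
    exact zero_ne_one h1
  have hfin : Finite (RingAut F) := Finite.of_injective (fun f : F ≃+* F => (f : F → F)) DFunLike.coe_injective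
  have hA : ∀ c : F, (∀ τ ∈ Gam h i, τ c = c) → a i * σ i c = c := by
    intro c hc
    obtain ⟨z, hz, hzS, hzc⟩ := exists_fixed h i hc
    have h1 := hπ z hz i
    rw [hfix g hgZ z hz hzS, hπi, hzc] at h1
    exact h1.symm
  have ha : a i = 1 := by
    have := hA 1 (fun τ _ => map_one τ)
    rwa [map_one, mul_one] at this
  have hmp : ∀ z ∈ Z, e (g • z) i 0 = σ i (e z i 0) := by
    intro z hz
    have h1 := hπ z hz i
    rwa [hπi, ha, one_mul] at h1
  have hpow : ∀ n : ℕ, ∀ z ∈ Z, g ^ n • z ∈ Z ∧ e (g ^ n • z) i 0 = ((σ i : RingAut F) ^ n) (e z i 0) := by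
    intro n
    induction n with
    | zero =>
      intro z hz
      rw [pow_zero, pow_zero, one_smul]
      exact ⟨hz, rfl⟩
    | succ n ih =>
      intro z hz
      rw [pow_succ, pow_succ, mul_smul]
      obtain ⟨h1, h2⟩ := ih (g • z) (hgm z hz)
      refine ⟨h1, ?_⟩
      rw [h2, hmp z hz]
      rfl
  have hσn : (σ i : RingAut F) ^ orderOf g = 1 := by
    ext x
    obtain ⟨z, hz, hez⟩ := exZ h (fun _ => x)
    have := (hpow (orderOf g) z hz).2
    rw [pow_orderOf_eq_one, one_smul, hez] at this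
    exact this.symm
  have hσ : (σ i : RingAut F) = 1 := by
    refine artin (Gam h i) (gam2 h hS i) (σ i) (fun c hc => ?_) hodd hσn
    have := hA c hc
    rwa [ha, one_mul] at this
  intro z hz
  obtain ⟨hzZ, hz0⟩ := (hZi i z).1 hz
  obtain ⟨_, hgz0⟩ := (hZi i _).1 (hgmi z hz)
  apply extZ h (hgm z hzZ) hzZ
  intro j
  by_cases hj : j = i
  · subst hj
    rw [hmp z hzZ, hσ]
    rfl
  · rw [hgz0 j hj, hz0 j hj]

end Cfsg.Agent.Omega.OM.YThm
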