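import Cfsg.Agent.Omega.OM.YThm.Semi

/-!
# Coordinates without scalars

`Cd.exists_cn` : a 2-group `S₀` which is transitive on the indices acts without scalars in suitable coordinates
`rs z₀ f₀ e`.
-/

set_option autoImplicit false

namespace Cfsg.Agent.Omega.OM.YThm

open Subgroup Cfsg.Agent.ZN Cfsg.Agent.ZN.ChoiceBase Cfsg.Agent.ZN.ChoiceSit
open scoped Pointwise

variable {G : Type*} [Group G] {F : Type} [Field F] {S₀ B V ZJ : Subgroup G} {k : ℕ} {e : G → Fin k → Fin 2 → F}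

/-- rescaled coordinates -/
def rs (z₀ f₀ : Fin k → F) (e : G → Fin k → Fin 2 → F) : G → Fin k → Fin 2 → F :=
  fun v i => ![(z₀ i)⁻¹ * e v i 0, (f₀ i)⁻¹ * e v i 1]

theorem rs_zero (z₀ f₀ : Fin k → F) (v : G) (i : Fin k) : rs z₀ f₀ e v i 0 = (z₀ i)⁻¹ * e v i 0 := rfl

theorem rs_one (z₀ f₀ : Fin k → F) (v : G) (i : Fin k) : rs z₀ f₀ e v i 1 = (f₀ i)⁻¹ * e v i 1 := rfl

theorem rs_eq_zero {z₀ f₀ : Fin k → F} (hz : ∀ i, z₀ i ≠ 0) (hf : ∀ i, f₀ i ≠ 0) (v : G) (i : Fin k) :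
    rs z₀ f₀ e v i = 0 ↔ e v i = 0 := by
  constructor
  · intro h
    have h0 := congrFun h 0
    have h1 := congrFun h 1
    rw [rs_zero] at h0
    rw [rs_one] at h1
    funext m
    fin_cases m
    · exact (mul_eq_zero.1 h0).resolve_left (inv_ne_zero (hz i))
    · exact (mul_eq_zero.1 h1).resolve_left (inv_ne_zero (hf i))
  · intro h
    funext m
    fin_cases m
    · show (z₀ i)⁻¹ * e v i 0 = 0
      rw [h]; simp
    · show (f₀ i)⁻¹ * e v i 1 = 0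
      rw [h]; simp

theorem rs_one_eq_zero {z₀ f₀ : Fin k → F} (hf : ∀ i, f₀ i ≠ 0) (v : G) (i : Fin k) :
    rs z₀ f₀ e v i 1 = 0 ↔ e v i 1 = 0 := by
  rw [rs_one]
  constructor
  · exact fun h => (mul_eq_zero.1 h).resolve_left (inv_ne_zero (hf i))
  · exact fun h => by rw [h, mul_zero]

/-- `S₀` acts without scalars. -/
structure Cn (F : Type) [Field F] (S₀ B V ZJ : Subgroup G) (k : ℕ) (e : G → Fin k → Fin 2 → F) : Prop
    extends Cd F B V ZJ k e where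
  sn : ∀ s ∈ S₀, Nm B V e s
  sact : ∀ s ∈ S₀, ∃ (π : Equiv.Perm (Fin k)) (σ : Fin k → F ≃+* F), Sm V ZJ e s π σ 1 1
  tr : ∀ i j, ∃ s ∈ S₀, ∀ v ∈ V, e (s * v * s⁻¹) j = 0 ↔ e v i = 0

theorem Nm.rsc {g : G} (h : Nm B V e g) {z₀ f₀ : Fin k → F} (hz : ∀ i, z₀ i ≠ 0) (hf : ∀ i, f₀ i ≠ 0) :
    Nm B V (rs z₀ f₀ e) g where
  nV := h.nV
  nB := h.nB
  nW := fun i => by
    obtain ⟨j, h1, h2⟩ := h.nW i
    refine ⟨j, fun z hz' h3 h4 => ?_, fun w hw h3 l hl => ?_⟩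
    · obtain ⟨h5, h6⟩ := h1 z hz' (fun l hl => (rs_eq_zero hz hf z l).1 (h3 l hl)) ((rs_one_eq_zero hf z i).1 h4)
      exact ⟨fun l hl => (rs_eq_zero hz hf _ l).2 (h5 l hl), (rs_one_eq_zero hf _ j).2 h6⟩
    · exact (rs_one_eq_zero hf _ l).2 (h2 w hw (fun l hl => (rs_eq_zero hz hf w l).1 (h3 l hl)) l hl)

theorem Cd.rsc (h : Cd F B V ZJ k e) {z₀ f₀ : Fin k → F} (hz : ∀ i, z₀ i ≠ 0) (hf : ∀ i, f₀ i ≠ 0) :
    Cd F B V ZJ k (rs z₀ f₀ e) where
  VV := h.VV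
  mul := fun v hv w hw => by
    funext i m
    fin_cases m
    · show (z₀ i)⁻¹ * e (v * w) i 0 = (z₀ i)⁻¹ * e v i 0 + (z₀ i)⁻¹ * e w i 0
      rw [h.mul v hv w hw, ← mul_add]; rfl
    · show (f₀ i)⁻¹ * e (v * w) i 1 = (f₀ i)⁻¹ * e v i 1 + (f₀ i)⁻¹ * e w i 1
      rw [h.mul v hv w hw, ← mul_add]; rfl
  surj := fun x => by
    obtain ⟨v, hv, h1⟩ := h.surj fun i => ![z₀ i * x i 0, f₀ i * x i 1]
    refine ⟨v, hv, ?_⟩
    funext i m
    fin_cases m
    · show (z₀ i)⁻¹ * e v i 0 = x i 0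
      rw [h1]
      exact inv_mul_cancel_left₀ (hz i) _
    · show (f₀ i)⁻¹ * e v i 1 = x i 1
      rw [h1]
      exact inv_mul_cancel_left₀ (hf i) _
  inj := fun v hv h1 => h.inj v hv (by
    funext i
    exact (rs_eq_zero hz hf v i).1 (congrFun h1 i))
  ZV := h.ZV
  memZ := fun v hv => by
    rw [h.memZ v hv]
    exact forall_congr' fun i => (rs_one_eq_zero hf v i).symm
  nB := h.nB
  act := fun b hb => by
    obtain ⟨c, hc⟩ := h.act b hb
    refine ⟨fun i => (z₀ i)⁻¹ * c i * f₀ i, fun v hv i => ?_⟩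
    obtain ⟨h1, h2⟩ := hc v hv i
    refine ⟨?_, ?_⟩
    · rw [rs_zero, rs_zero, rs_one, h1]
      have := hf i
      field_simp
    · rw [rs_one, rs_one, h2]
  full := fun c => by
    obtain ⟨b, hb, hc⟩ := h.full fun i => z₀ i * c i * (f₀ i)⁻¹
    refine ⟨b, hb, fun v hv i => ?_⟩
    obtain ⟨h1, h2⟩ := hc v hv i
    refine ⟨?_, ?_⟩
    · rw [rs_zero, rs_zero, rs_one, h1]
      have := hz i
      field_simp
    · rw [rs_one, rs_one, h2]

theorem exists_fix_vec [Finite F] [CharP F 2] (hk : 0 < k) (hS : IsPGroup 2 S₀)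
    (f : S₀ → (Fin k → F) → (Fin k → F)) (h1 : ∀ y, f 1 y = y) (hm : ∀ s t y, f (s * t) y = f s (f t y))
    (h0 : ∀ s, f s 0 = 0) : ∃ y, y ≠ 0 ∧ ∀ s, f s y = y := by
  classical
  letI : MulAction S₀ (Fin k → F) := { smul := f, one_smul := h1, mul_smul := hm }
  have hd : 2 ∣ Nat.card (Fin k → F) := by
    rw [Nat.card_fun, Nat.card_fin]
    refine dvd_pow ?_ hk.ne'
    have := Fintype.ofFinite F
    rw [Nat.card_eq_fintype_card]
    exact (CharP.cast_eq_zero_iff F 2 _).1 (by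
      have := Nat.cast_card_eq_zero F
      simpa using this)
  obtain ⟨b, hb, hne⟩ := hS.exists_fixed_point_of_prime_dvd_card_of_fixed_point (Fin k → F) hd
    (a := 0) (fun s => h0 s)
  exact ⟨b, hne.symm, fun s => hb s⟩

/-- the indices are permuted as the support tells -/
theorem Sm.pi_eq (h : Cd F B V ZJ k e) {g : G} {π : Equiv.Perm (Fin k)} {σ : Fin k → F ≃+* F} {c d : Fin k → F}
    (hg : Sm V ZJ e g π σ c d) {i j : Fin k} (hij : ∀ v ∈ V, e (g * v * g⁻¹) j = 0 ↔ e v i = 0) : π i = j := by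
  by_contra hne
  obtain ⟨v, hv, hve⟩ := h.surj (sg (π.symm j) 0 1)
  have h1 := hg.one v hv (π.symm j)
  have h2 : i ≠ π.symm j := fun h => hne (by rw [h, Equiv.apply_symm_apply])
  have h3 : e (g * v * g⁻¹) j = 0 := (hij v hv).2 (by rw [hve, sg_ne h2])
  rw [Equiv.apply_symm_apply, h3, hve, sg_same] at h1
  have h4 : d (π.symm j) * σ (π.symm j) (1 : F) = 0 := by
    simpa using h1.symm
  rw [_root_.map_one, mul_one] at h4
  exact hg.d0 _ h4

theorem Cd.exists_cn [Finite F] [CharP F 2] (h : Cd F B V ZJ k e) (hk : 0 < k) (hS : IsPGroup 2 S₀)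
    (hn : ∀ s ∈ S₀, Nm B V e s) (tr : ∀ i j, ∃ s ∈ S₀, ∀ v ∈ V, e (s * v * s⁻¹) j = 0 ↔ e v i = 0) :
    ∃ z₀ f₀ : Fin k → F, (∀ i, z₀ i ≠ 0) ∧ (∀ i, f₀ i ≠ 0) ∧ Cn F S₀ B V ZJ k (rs z₀ f₀ e) := by
  classical
  choose f hfV hf using h.surj
  have hs : ∀ s : S₀, ∃ (π : Equiv.Perm (Fin k)) (σ : Fin k → F ≃+* F) (c d : Fin k → F), Sm V ZJ e s π σ c d :=
    fun s => by
      obtain ⟨π, σ, c, d, h1, -⟩ := h.semi (hn s s.2)
      exact ⟨π, σ, c, d, h1⟩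
  choose π σ c d hs using hs
  -- the two actions
  have key1 : ∃ y : Fin k → F, y ≠ 0 ∧ ∀ s : S₀, ∀ i, d s i * σ s i (y i) = y (π s i) := by
    let a : S₀ → (Fin k → F) → (Fin k → F) := fun s y j => e (s * f (fun i => ![0, y i]) * (s : G)⁻¹) j 1
    have a1 : ∀ y, a 1 y = y := by
      intro y
      funext j
      show e (((1 : S₀) : G) * f (fun i => ![0, y i]) * ((1 : S₀) : G)⁻¹) j 1 = y j
      rw [OneMemClass.coe_one, one_mul, inv_one, mul_one, hf]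
      rfl
    have a2 : ∀ s t y, a (s * t) y = a s (a t y) := by
      intro s t y
      funext j
      obtain ⟨i, rfl⟩ := (π s).surjective j
      show e (((s * t : S₀) : G) * f (fun i => ![0, y i]) * ((s * t : S₀) : G)⁻¹) (π s i) 1 =
        e ((s : G) * f (fun i => ![0, e (t * f (fun i => ![0, y i]) * (t : G)⁻¹) i 1]) * (s : G)⁻¹) (π s i) 1
      have hw := (hn t t.2).nV _ (hfV fun i => ![0, y i])
      have e1 : ((s * t : S₀) : G) * f (fun i => ![0, y i]) * ((s * t : S₀) : G)⁻¹ =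
          (s : G) * ((t : G) * f (fun i => ![0, y i]) * (t : G)⁻¹) * (s : G)⁻¹ := by
        rw [Subgroup.coe_mul]; group
      rw [e1, (hs s).one _ hw, (hs s).one _ (hfV _), hf]
      rfl
    have a3 : ∀ s, a s 0 = 0 := by
      intro s
      funext j
      obtain ⟨i, rfl⟩ := (π s).surjective j
      show e ((s : G) * f (fun i => ![0, (0 : Fin k → F) i]) * (s : G)⁻¹) (π s i) 1 = 0
      rw [(hs s).one _ (hfV _), hf]
      simp
    obtain ⟨y, hy, hfix⟩ := exists_fix_vec (k := k) (F := F) hk hS a a1 a2 a3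
    refine ⟨y, hy, fun s i => ?_⟩
    have h1 : e (s * f (fun i => ![0, y i]) * (s : G)⁻¹) (π s i) 1 = y (π s i) := congrFun (hfix s) (π s i)
    have h2 := (hs s).one _ (hfV fun i => ![0, y i]) i
    rw [hf] at h2
    exact h2.symm.trans h1
  have key0 : ∃ y : Fin k → F, y ≠ 0 ∧ ∀ s : S₀, ∀ i, c s i * σ s i (y i) = y (π s i) := by
    have hZ : ∀ y : Fin k → F, f (fun i => ![y i, 0]) ∈ ZJ := fun y => (h.memZ _ (hfV _)).2 fun i => by
      rw [hf]; rfl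
    have hZn : ∀ s : S₀, ∀ z ∈ ZJ, (s : G) * z * (s : G)⁻¹ ∈ ZJ := by
      intro s z hz
      refine (h.memZ _ ((hn s s.2).nV z (h.ZV hz))).2 fun j => ?_
      obtain ⟨i, rfl⟩ := (π s).surjective j
      rw [(hs s).one z (h.ZV hz), (h.memZ z (h.ZV hz)).1 hz i, map_zero, mul_zero]
    let a : S₀ → (Fin k → F) → (Fin k → F) := fun s y j => e (s * f (fun i => ![y i, 0]) * (s : G)⁻¹) j 0
    have a1 : ∀ y, a 1 y = y := by
      intro y
      funext j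
      show e (((1 : S₀) : G) * f (fun i => ![y i, 0]) * ((1 : S₀) : G)⁻¹) j 0 = y j
      rw [OneMemClass.coe_one, one_mul, inv_one, mul_one, hf]
      rfl
    have a2 : ∀ s t y, a (s * t) y = a s (a t y) := by
      intro s t y
      funext j
      obtain ⟨i, rfl⟩ := (π s).surjective j
      show e (((s * t : S₀) : G) * f (fun i => ![y i, 0]) * ((s * t : S₀) : G)⁻¹) (π s i) 0 =
        e ((s : G) * f (fun i => ![e (t * f (fun i => ![y i, 0]) * (t : G)⁻¹) i 0, 0]) * (s : G)⁻¹) (π s i) 0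
      have hw := hZn t _ (hZ y)
      have e1 : ((s * t : S₀) : G) * f (fun i => ![y i, 0]) * ((s * t : S₀) : G)⁻¹ =
          (s : G) * ((t : G) * f (fun i => ![y i, 0]) * (t : G)⁻¹) * (s : G)⁻¹ := by
        rw [Subgroup.coe_mul]; group
      rw [e1, (hs s).zero _ hw, (hs s).zero _ (hZ _), hf]
      rfl
    have a3 : ∀ s, a s 0 = 0 := by
      intro s
      funext j
      obtain ⟨i, rfl⟩ := (π s).surjective j
      show e ((s : G) * f (fun i => ![(0 : Fin k → F) i, 0]) * (s : G)⁻¹) (π s i) 0 = 0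
      rw [(hs s).zero _ (hZ _), hf]
      simp
    obtain ⟨y, hy, hfix⟩ := exists_fix_vec (k := k) (F := F) hk hS a a1 a2 a3
    refine ⟨y, hy, fun s i => ?_⟩
    have h1 : e (s * f (fun i => ![y i, 0]) * (s : G)⁻¹) (π s i) 0 = y (π s i) := congrFun (hfix s) (π s i)
    have h2 := (hs s).zero _ (hZ y) i
    rw [hf] at h2
    exact h2.symm.trans h1
  obtain ⟨f₀, hf0, hfs⟩ := key1
  obtain ⟨z₀, hz0, hzs⟩ := key0
  -- full support
  have full : ∀ (y : Fin k → F) (r : S₀ → Fin k → F), (∀ s i, r s i ≠ 0) → y ≠ 0 →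
      (∀ s : S₀, ∀ i, r s i * σ s i (y i) = y (π s i)) → ∀ j, y j ≠ 0 := by
    intro y r hr hy hys j
    obtain ⟨i, hi⟩ := Function.ne_iff.1 hy
    obtain ⟨s, hsS, hsij⟩ := tr i j
    have h1 := Sm.pi_eq h (hs ⟨s, hsS⟩) hsij
    have h2 := hys ⟨s, hsS⟩ i
    rw [h1] at h2
    rw [← h2]
    exact mul_ne_zero (hr _ _) ((map_ne_zero _).2 hi)
  have hf' := full f₀ d (fun s i => (hs s).d0 i) hf0 hfs
  have hz' := full z₀ c (fun s i => (hs s).c0 i) hz0 hzs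
  refine ⟨z₀, f₀, hz', hf', h.rsc hz' hf', fun s hs' => (hn s hs').rsc hz' hf', fun s hs' => ?_, fun i j => ?_⟩
  · refine ⟨π ⟨s, hs'⟩, σ ⟨s, hs'⟩, fun i => one_ne_zero, fun i => one_ne_zero, fun v hv i => ?_, fun z hz i => ?_⟩
    · rw [rs_one, rs_one, (hs ⟨s, hs'⟩).one v hv i, ← hfs ⟨s, hs'⟩ i, Pi.one_apply, one_mul, map_mul, map_inv₀]
      have h1 := (hs ⟨s, hs'⟩).d0 i
      have h2 : σ ⟨s, hs'⟩ i (f₀ i) ≠ 0 := (map_ne_zero _).2 (hf' i)
      field_simp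
    · rw [rs_zero, rs_zero, (hs ⟨s, hs'⟩).zero z hz i, ← hzs ⟨s, hs'⟩ i, Pi.one_apply, one_mul, map_mul, map_inv₀]
      have h1 := (hs ⟨s, hs'⟩).c0 i
      have h2 : σ ⟨s, hs'⟩ i (z₀ i) ≠ 0 := (map_ne_zero _).2 (hz' i)
      field_simp
  · obtain ⟨s, hsS, hsij⟩ := tr i j
    exact ⟨s, hsS, fun v hv => by rw [rs_eq_zero hz' hf', rs_eq_zero hz' hf', hsij v hv]⟩

end Cfsg.Agent.Omega.OM.YThm
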