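import Cfsg.Agent.Omega.OM.YThm.PlugA
import Cfsg.Agent.Omega.NoFF.LemmaW

/-!
# THEOREM Y, plug: the coordinates of the module `W`

* `wd` : `C = C_G(Z)` acts on `W = ⟨V^C⟩`;
* `Dt.co` : coordinates of `ad V`, `Dt.odd`, `Dt.lemV`, `Dt.dec`, `Dt.uni`, `Dt.prm`.
-/

set_option autoImplicit false
set_option linter.unusedSectionVars false

namespace Cfsg.Agent.Omega.OM.YThm.Plug

open Subgroup Cfsg Cfsg.Agent.ZN.ChoiceBase Cfsg.Agent.ZN.ChoiceSit
open Cfsg.Agent.ZN (jj zj bau zc zl o2)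
open Cfsg.Agent.Lib.SL2Mat Cfsg.Agent.Omega.NatPair
open Cfsg.Agent.Omega.FFThm (NatK SymK ActsSL)
open Cfsg.Agent.Omega.FrameFF (cv)
open Cfsg.Agent.Omega.FrameNOFF (CZ)
open Cfsg.Agent.Omega.NO3S (HypJ Hyp WW)
open Cfsg.Agent.Omega.OM.YThm.MW (vl vl_mem vl_mk vl_add vl_zero vl_inj vl_smul ad mem_ad smul_ad_eq_iff smul_eq_iff)
open scoped Pointwise

universe u

variable {G : Type u} [Group G] [Finite G] {S : Sylow 2 G} {P : Subgroup G}

theorem wd (h : Hyp S P) : WD (CZ (S : Subgroup G)) (WW (S : Subgroup G) P) where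
  nrm := NoFF.Lines.C_le_normalizer_W
  el := Cfsg.Agent.PLocal.ThompsonJ.isElementaryAbelian_iff.2
    ⟨fun a ha _ hb => mem_centralizer_iff.1 (h.W_comm hb) a ha, h.W_sq⟩

theorem S_le_CZ (S : Sylow 2 G) : (S : Subgroup G) ≤ CZ (S : Subgroup G) :=
  Cfsg.Agent.MinSimple.VModule.le_centralizer_zc _

theorem W_le_S (h : Hyp S P) : WW (S : Subgroup G) P ≤ (S : Subgroup G) :=
  h.geo.W_le_o2.trans ((Cfsg.Agent.Omega.MinPar.isLoc_centralizer_zc S (h.ctx.sylow_ne_bot S)).o2_le S)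

theorem V_le_W : zl (S : Subgroup G) P ≤ WW (S : Subgroup G) P := NO3S.zl_le_WW

/-- `S` as a subgroup of `C`. -/
abbrev SC (S : Sylow 2 G) : Subgroup (CZ (S : Subgroup G)) := (S : Subgroup G).subgroupOf (CZ (S : Subgroup G))

variable {F : Type} [Field F] [Finite F] [CharP F 2] {k : ℕ}
  {N : NatK F (S : Subgroup G) P (zl (S : Subgroup G) P) (cv (S : Subgroup G) P) k}
  {L W Z C A : Fin k → Subgroup G} (D : Dt S P N L W Z C A)

/-- the module -/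
abbrev Md (D : Dt S P N L W Z C A) : Type u := MW (wd D.line.hyp.toHyp)

/-- `V` -/
abbrev VV (D : Dt S P N L W Z C A) : AddSubgroup (Md D) := ad (wd D.line.hyp.toHyp) (zl (S : Subgroup G) P)

/-- `Z_J` -/
abbrev ZZ (D : Dt S P N L W Z C A) : AddSubgroup (Md D) := ad (wd D.line.hyp.toHyp) (zj (S : Subgroup G))

/-- `Z i` -/
abbrev ZZi (D : Dt S P N L W Z C A) (i : Fin k) : AddSubgroup (Md D) := ad (wd D.line.hyp.toHyp) (Z i)

include D in
theorem Dt.Z_le_W : zj (S : Subgroup G) ≤ WW (S : Subgroup G) P := D.cd.ZV.trans V_le_W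

theorem Dt.smulZ {g : CZ (S : Subgroup G)} :
    g • ZZ D = ZZ D ↔ cj (g : G) (zj (S : Subgroup G)) = zj (S : Subgroup G) :=
  smul_ad_eq_iff _ D.Z_le_W D.Z_le_W

theorem Dt.co {e : G → Fin k → Fin 2 → F}
    (c : Cn F (S : Subgroup G) (bau (S : Subgroup G)) (zl (S : Subgroup G) P) (zj (S : Subgroup G)) k e) :
    Co F (SC S) (VV D) (ZZ D) k (fun x => e (vl x)) where
  add := fun v hv w hw => c.mul _ hv _ hw
  surj := fun x => by
    obtain ⟨v, hv, hx⟩ := c.surj x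
    exact ⟨MW.mk _ ⟨v, V_le_W hv⟩, hv, hx⟩
  inj := fun v hv h0 => vl_inj (by rw [c.inj _ hv h0]; rfl)
  ZV := fun x hx => c.ZV hx
  memZ := fun v hv => c.memZ _ hv
  SV := fun s hs v hv => (c.sn (s : G) hs).nV _ hv
  act := fun s hs => by
    obtain ⟨π, σ, h1⟩ := c.sact (s : G) hs
    refine ⟨π, σ, fun v hv i => ?_, fun z hz i => ?_⟩
    · have := h1.one _ hv i
      rw [Pi.one_apply, one_mul] at this
      exact this
    · have := h1.zero _ hz i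
      rw [Pi.one_apply, one_mul] at this
      exact this
  up := fun s hs hz => by
    have hb : (s : G) ∈ bau (S : Subgroup G) := by
      rw [mem_bau]
      refine ⟨hs, fun y hy => ?_⟩
      have := (smul_eq_iff s (MW.mk (wd D.line.hyp.toHyp) ⟨y, D.Z_le_W hy⟩)).1 (hz _ hy)
      exact this.symm
    obtain ⟨b, h1⟩ := c.act _ hb
    exact ⟨b, fun v hv i => h1 _ hv i⟩

theorem Dt.mem_ZZi {z₀ f₀ : Fin k → F} (hz : ∀ i, z₀ i ≠ 0) (i : Fin k) (z : Md D) :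
    z ∈ ZZi D i ↔ z ∈ ZZ D ∧ ∀ j, j ≠ i → rs z₀ f₀ N.e (vl z) j 0 = 0 := by
  rw [mem_ad, mem_ad, D.mem_Z']
  refine and_congr_right fun _ => forall_congr' fun j => forall_congr' fun _ => ?_
  rw [rs_zero]
  exact ⟨fun h => by rw [h, mul_zero], fun h => (mul_eq_zero.1 h).resolve_left (inv_ne_zero (hz j))⟩

include D in
theorem Dt.two' (x : Md D) : x + x = 0 :=
  vl_inj (by rw [vl_add, (wd D.line.hyp.toHyp).sq (vl_mem x)]; rfl)

include D in
theorem Dt.isP : IsPGroup 2 (SC S) := S.isPGroup'.comap_subtype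

/-- `YS0.odd` -/
theorem Dt.odd (g : CZ (S : Subgroup G)) (hg : g • ZZ D = ZZ D) (ho : Odd (orderOf g)) (i : Fin k)
    (hi : g • ZZi D i = ZZi D i) : ∀ z ∈ ZZi D i, g • z = z := by
  obtain ⟨z₀, f₀, hz, hf, c⟩ := D.exists_cn
  refine (D.co c).odd D.isP (fun i z => D.mem_ZZi hz i z) (fun g hg => ?_) (fun g hg z hz hs => ?_) g hg ho i hi
  · obtain ⟨n, hn, h1⟩ := Dt.frat (D.smulZ.1 hg)
    obtain ⟨π, σ, a, d, h2, -⟩ := c.toCd.semi ((D.nm hn).rsc hz hf)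
    refine ⟨π, a, σ, fun z hz i => ?_⟩
    have h3 := h2.zero _ hz i
    rw [← h1 _ hz] at h3
    exact h3
  · have h1 : vl z ∈ zc (S : Subgroup G) := by
      rw [mem_zc]
      refine ⟨W_le_S D.line.hyp.toHyp (vl_mem z), D.line.hyp.toHyp.W_sq _ (vl_mem z), fun s hs' => ?_⟩
      exact (smul_eq_iff _ _).1 (hs ⟨s, S_le_CZ S hs'⟩ hs')
    exact (smul_eq_iff _ _).2 (mem_centralizer_iff.1 g.2 _ h1).symm

/-- `YS.lemV` -/
theorem Dt.lemV (E : Subgroup (CZ (S : Subgroup G))) (hES : E ≤ SC S) (hE : El (Md D) E) :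
    Nat.card E * Nat.card (ZZ D) * Nat.card (fx (VV D) E) ≤
      Nat.card (ct E (VV D)) * Nat.card (fx (ZZ D) E) * Nat.card (VV D) := by
  obtain ⟨z₀, f₀, hz, hf, c⟩ := D.exists_cn
  exact (D.co c).lemV D.two' hES hE

/-- `YS0.prm` -/
theorem Dt.prm (g : CZ (S : Subgroup G)) (hg : g • ZZ D = ZZ D) (i : Fin k) : ∃ j, g • ZZi D i = ZZi D j := by
  obtain ⟨n, hn, h1⟩ := Dt.frat (D.smulZ.1 hg)
  obtain ⟨-, h2⟩ := D.line.norm hn
  obtain ⟨j, h3, -⟩ := h2 i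
  have hZ : ∀ i, Z i ≤ zj (S : Subgroup G) := fun i v hv => (D.mem_Z'.1 hv).1
  refine ⟨j, (smul_ad_eq_iff _ ((hZ i).trans D.Z_le_W) ((hZ j).trans D.Z_le_W)).2 ?_⟩
  rw [← h3]
  ext x
  constructor
  · rintro ⟨z, hz, rfl⟩
    exact ⟨z, hz, (h1 z (hZ i hz)).symm⟩
  · rintro ⟨z, hz, rfl⟩
    exact ⟨z, hz, h1 z (hZ i hz)⟩

theorem Dt.ZiZ (i : Fin k) : ZZi D i ≤ ZZ D := fun _ hx => (D.mem_Z'.1 hx).1

theorem Dt.e_sum (f : Fin k → Md D) (hf : ∀ i, f i ∈ ZZi D i) (i : Fin k) :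
    N.e (vl (∑ j, f j)) i = N.e (vl (f i)) i := by
  classical
  have key : ∀ s : Finset (Fin k), (∑ j ∈ s, f j) ∈ VV D ∧
      N.e (vl (∑ j ∈ s, f j)) i = if i ∈ s then N.e (vl (f i)) i else 0 := by
    intro s
    induction s using Finset.induction_on with
    | empty =>
      refine ⟨(VV D).zero_mem, ?_⟩
      rw [Finset.sum_empty, vl_zero, D.cd.map_one, if_neg (Finset.notMem_empty i)]
      rfl
    | insert a s ha ih =>
      obtain ⟨h1, h2⟩ := ih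
      have ha1 : f a ∈ VV D := D.cd.ZV (D.ZiZ a (hf a))
      rw [Finset.sum_insert ha]
      refine ⟨(VV D).add_mem ha1 h1, ?_⟩
      rw [vl_add, D.cd.mul _ ha1 _ h1, Pi.add_apply, h2]
      by_cases hia : i = a
      · subst hia
        rw [if_neg ha, add_zero, if_pos (Finset.mem_insert_self _ _)]
      · have h3 : N.e (vl (f a)) i = 0 := by
          obtain ⟨h4, h5⟩ := D.mem_Z'.1 (hf a)
          funext l
          fin_cases l
          · exact h5 i hia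
          · exact (D.cd.memZ _ ha1).1 h4 i
        rw [h3, zero_add]
        simp only [Finset.mem_insert, hia, false_or]
  have := (key Finset.univ).2
  rwa [if_pos (Finset.mem_univ i)] at this

theorem Dt.sum_mem (f : Fin k → Md D) (hf : ∀ i, f i ∈ ZZi D i) : (∑ j, f j) ∈ VV D :=
  (VV D).sum_mem fun i _ => D.cd.ZV (D.ZiZ i (hf i))

/-- `YS0.dec` -/
theorem Dt.dec (z : Md D) (hz : z ∈ ZZ D) : ∃ f : Fin k → Md D, (∀ i, f i ∈ ZZi D i) ∧ z = ∑ i, f i := by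
  classical
  have h1 : ∀ i, ∃ v ∈ zl (S : Subgroup G) P, N.e v = Pi.single i (N.e (vl z) i) := fun i => D.cd.surj _
  choose v hv hve using h1
  have hzV := D.cd.ZV hz
  have hf : ∀ i, (MW.mk (wd D.line.hyp.toHyp) ⟨v i, V_le_W (hv i)⟩ : Md D) ∈ ZZi D i := by
    intro i
    show v i ∈ Z i
    rw [D.mem_Z', D.cd.memZ _ (hv i)]
    refine ⟨fun l => ?_, fun l hl => ?_⟩
    · rw [hve]
      by_cases hli : l = i
      · subst hli
        rw [Pi.single_eq_same]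
        exact (D.cd.memZ _ hzV).1 hz l
      · rw [Pi.single_eq_of_ne hli]; rfl
    · rw [hve, Pi.single_eq_of_ne hl]; rfl
  refine ⟨fun i => MW.mk _ ⟨v i, V_le_W (hv i)⟩, hf, ?_⟩
  apply vl_inj
  refine D.cd.eq_of hzV (D.sum_mem _ hf) ?_
  funext i
  rw [D.e_sum _ hf i, vl_mk, hve, Pi.single_eq_same]

/-- `YS0.uni` -/
theorem Dt.uni (f : Fin k → Md D) (hf : ∀ i, f i ∈ ZZi D i) (h0 : ∑ i, f i = 0) (i : Fin k) : f i = 0 := by
  have hi : f i ∈ VV D := D.cd.ZV (D.ZiZ i (hf i))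
  have h1 := D.e_sum f hf i
  rw [h0, vl_zero, D.cd.map_one] at h1
  apply vl_inj
  refine D.cd.inj _ hi ?_
  funext l
  by_cases hl : l = i
  · subst hl; exact h1.symm
  · obtain ⟨h4, h5⟩ := D.mem_Z'.1 (hf i)
    funext m
    fin_cases m
    · exact h5 l hl
    · exact (D.cd.memZ _ hi).1 h4 l

end Cfsg.Agent.Omega.OM.YThm.Plug
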