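import Cfsg.Agent.Omega.OM.YThm.PlugB
import Cfsg.Agent.Omega.OM.YThm.FfRep
import Cfsg.Agent.Omega.OM.YThm.Main
import Cfsg.Agent.Omega.OM.UOne

/-!
# THEOREM Y, plug: the family, the situation `YS`

* `Fa S W` : the subgroups `A` of `C` with `A W = A₀ W` for some elementary abelian `A₀ ≤ C` of maximal order;
* `Dt.ys` : the situation `YS`; `Dt.main` : the result in `G`.
-/

set_option autoImplicit false
set_option linter.unusedSectionVars false

namespace Cfsg.Agent.Omega.OM.YThm.Plug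

open Subgroup Cfsg Cfsg.Agent.ZN.ChoiceBase Cfsg.Agent.ZN.ChoiceSit
open Cfsg.Agent.ZN (jj zj bau zc zl o2)
open Cfsg.Agent.Lib.SL2Mat Cfsg.Agent.Omega.NatPair
open Cfsg.Agent.Omega.FFThm (NatK SymK ActsSL)
open Cfsg.Agent.Omega.FrameFF (cv)
open Cfsg.Agent.Omega.FrameNOFF (CZ)
open Cfsg.Agent.Omega.NO3S (HypJ Hyp WW)
open Cfsg.Agent.Omega.OM.YThm.MW
open scoped Pointwise

universe u

section family

variable {G : Type u} [Group G] {C W : Subgroup G}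

/-- `A W = A₀ W`, `A₀` elementary abelian of order `m` -/
def Fa (C W : Subgroup G) (m : ℕ) : Set (Subgroup C) :=
  {A | ∃ A₀ : Subgroup G, IsElementaryAbelian 2 A₀ ∧ Nat.card A₀ = m ∧ A₀ ≤ C ∧ upc A ≤ A₀ ⊔ W ∧ A₀ ≤ upc A ⊔ W}

variable {m : ℕ}

theorem Fa.conj (w : WD C W) {A : Subgroup C} (hA : A ∈ Fa C W m) (g : C) : cj g A ∈ Fa C W m := by
  obtain ⟨A₀, h1, h2, h3, h4, h5⟩ := hA
  have hW : cj (g : G) W = W := cj_eq_of_mem_normalizer (w.nrm g.2)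
  refine ⟨cj (g : G) A₀, isElementaryAbelian_cj _ h1, by rw [card_cj, h2], ?_, ?_, ?_⟩
  · rintro _ ⟨a, ha, rfl⟩
    exact mul_mem (mul_mem g.2 (h3 ha)) (inv_mem g.2)
  · rw [upc_cj]
    refine (cj_mono (g : G) h4).trans (le_of_eq ?_)
    rw [show cj (g : G) (A₀ ⊔ W) = cj (g : G) A₀ ⊔ cj (g : G) W from Subgroup.map_sup _ _ _, hW]
  · rw [upc_cj]
    refine (cj_mono (g : G) h5).trans (le_of_eq ?_)
    rw [show cj (g : G) (upc A ⊔ W) = cj (g : G) (upc A) ⊔ cj (g : G) W from Subgroup.map_sup _ _ _, hW]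

theorem mul_of_sup (w : WD C W) {A₀ : Subgroup G} (hA : A₀ ≤ C) {x : G} (hx : x ∈ A₀ ⊔ W) :
    ∃ a ∈ A₀, ∃ v ∈ W, x = a * v := by
  have h1 : x ∈ ((A₀ ⊔ W : Subgroup G) : Set G) := hx
  rw [coe_mul_of_left_le_normalizer_right _ _ (hA.trans w.nrm)] at h1
  obtain ⟨a, ha, v, hv, e⟩ := h1
  exact ⟨a, ha, v, hv, e.symm⟩

theorem Fa.act (w : WD C W) {A : Subgroup C} {A₀ : Subgroup G} (h3 : A₀ ≤ C) (h4 : upc A ≤ A₀ ⊔ W) {a : C}
    (ha : a ∈ A) : ∃ b ∈ A₀, ∀ v ∈ W, (a : G) * v * (a : G)⁻¹ = b * v * b⁻¹ := by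
  obtain ⟨b, hb, v, hv, e⟩ := mul_of_sup w h3 (h4 (coe_mem_upc.2 ha))
  refine ⟨b, hb, fun x hx => ?_⟩
  rw [e]
  have h1 := w.comm hv hx
  calc b * v * x * (b * v)⁻¹ = b * (v * x) * v⁻¹ * b⁻¹ := by group
    _ = b * (x * v) * v⁻¹ * b⁻¹ := by rw [h1]
    _ = b * x * b⁻¹ := by group

theorem isP_elab {E : Subgroup G} (hE : IsElementaryAbelian 2 E) : IsPGroup 2 E := by
  intro x
  exact ⟨1, by rw [pow_one]; exact Subtype.ext (SQ1.Bau.elem_sq hE x x.2)⟩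

theorem Fa.pg (w : WD C W) {A : Subgroup C} (hA : A ∈ Fa C W m) : IsPGroup 2 A := by
  obtain ⟨A₀, h1, h2, h3, h4, h5⟩ := hA
  rw [← isPGroup_upc]
  exact (IsPGroup.to_sup_of_normal_right' (isP_elab h1) (isP_elab w.el) (h3.trans w.nrm)).to_le h4

theorem Fa.el (w : WD C W) {A : Subgroup C} (hA : A ∈ Fa C W m) : El (MW w) A := by
  have hp := Fa.pg w hA
  obtain ⟨A₀, h1, h2, h3, h4, h5⟩ := hA
  refine ⟨hp, fun a ha b hb x => ?_, fun a ha x => ?_⟩
  · obtain ⟨a₁, ha₁, e1⟩ := Fa.act w h3 h4 ha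
    obtain ⟨b₁, hb₁, e2⟩ := Fa.act w h3 h4 hb
    have hc : a₁ * b₁ = b₁ * a₁ :=
      (Cfsg.Agent.PLocal.ThompsonJ.isElementaryAbelian_iff.1 h1).1 a₁ ha₁ b₁ hb₁
    apply vl_inj
    have k1 := e2 _ (vl_mem x)
    have k2 := e1 _ (vl_mem x)
    have k3 := e1 _ (vl_mem (b • x))
    have k4 := e2 _ (vl_mem (a • x))
    rw [vl_smul, k3, vl_smul, k1, vl_smul, k4, vl_smul, k2]
    calc a₁ * (b₁ * vl x * b₁⁻¹) * a₁⁻¹ = (a₁ * b₁) * vl x * (a₁ * b₁)⁻¹ := by group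
      _ = (b₁ * a₁) * vl x * (b₁ * a₁)⁻¹ := by rw [hc]
      _ = b₁ * (a₁ * vl x * a₁⁻¹) * b₁⁻¹ := by group
  · obtain ⟨a₁, ha₁, e1⟩ := Fa.act w h3 h4 ha
    have hs : a₁ * a₁ = 1 := by
      have := h1.2 a₁ ha₁
      rwa [pow_two] at this
    apply vl_inj
    have k2 := e1 _ (vl_mem x)
    have k3 := e1 _ (vl_mem (a • x))
    rw [vl_smul, k3, vl_smul, k2]
    calc a₁ * (a₁ * vl x * a₁⁻¹) * a₁⁻¹ = (a₁ * a₁) * vl x * (a₁ * a₁)⁻¹ := by group
      _ = vl x := by rw [hs]; group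

theorem upc_nrm [Finite G] {w : WD C W} {A : Subgroup C} {X : AddSubgroup (MW w)}
    (h : ∀ a ∈ A, ∀ x ∈ X, a • x ∈ X) : upc A ≤ normalizer (gp X : Set G) := by
  intro g hg
  obtain ⟨hgC, hgA⟩ := mem_upc.1 hg
  refine mem_normalizer_of_cj_le ?_
  rintro _ ⟨_, ⟨x, hx, rfl⟩, rfl⟩
  exact ⟨(⟨g, hgC⟩ : C) • x, h _ hgA x hx, rfl⟩

theorem Fa.ff [Finite G] (w : WD C W) (hm : ∀ E : Subgroup G, IsElementaryAbelian 2 E → Nat.card E ≤ m)
    {A : Subgroup C} (hA : A ∈ Fa C W m) (X : AddSubgroup (MW w)) (hX : ∀ a ∈ A, ∀ x ∈ X, a • x ∈ X) :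
    Nat.card X * Nat.card (ct A X) ≤ Nat.card A * Nat.card (fx X A) := by
  obtain ⟨A₀, h1, h2, h3, h4, h5⟩ := hA
  rw [gp_ct, gp_fx, ← card_gp, ← card_upc A]
  exact FfRep.ffG hm h1 h2 w.el h4 h5 (gp_le X) (upc_nrm hX)

theorem Fa.rep [Finite G] (w : WD C W) (hWC : W ≤ C)
    (hm : ∀ E : Subgroup G, IsElementaryAbelian 2 E → Nat.card E ≤ m)
    {A : Subgroup C} (hA : A ∈ Fa C W m) (X : AddSubgroup (MW w)) (hX : ∀ a ∈ A, ∀ x ∈ X, a • x ∈ X)
    (hne : ∃ a ∈ A, ∃ x ∈ X, a • x ≠ x) :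
    ∃ A' ∈ Fa C W m, A' ≤ A ∧ (∃ a ∈ A', ∃ x ∈ X, a • x ≠ x) ∧
      ∀ a ∈ A', ∀ b ∈ A', ∀ x ∈ X, a • (b • x - x) = b • x - x := by
  obtain ⟨A₀, h1, h2, h3, h4, h5⟩ := hA
  have hne' : ¬ upc A ≤ centralizer (gp X : Set G) := by
    obtain ⟨a, ha, x, hx, h6⟩ := hne
    intro hc
    apply h6
    rw [smul_eq_iff]
    exact (mem_centralizer_iff.1 (hc (coe_mem_upc.2 ha)) _ (vl_mem_gp.2 hx)).symm
  obtain ⟨A', A₀', r1, r2, r3, r4, r5, r6, r7⟩ :=
    FfRep.repG hm h1 h2 w.el (h3.trans w.nrm) h4 h5 (gp_le X) (upc_nrm hX) hne'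
  have hA'C : A' ≤ C := r1.trans (upc_le A)
  have hu : upc (A'.subgroupOf C) = A' := upc_subgroupOf hA'C
  refine ⟨A'.subgroupOf C, ⟨A₀', r2, r3, r5.trans (sup_le hA'C hWC), by rw [hu]; exact r4, by rw [hu]; exact r5⟩,
    ?_, ?_, ?_⟩
  · rw [← upc_le_iff, hu]; exact r1
  · by_contra hc
    push Not at hc
    apply r6
    intro a ha
    rw [mem_centralizer_iff]
    rintro _ ⟨x, hx, rfl⟩
    exact ((smul_eq_iff _ _).1 (hc ⟨a, hA'C ha⟩ ha x hx)).symm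
  · intro a ha b hb x hx
    apply vl_inj
    rw [vl_smul, vl_sub, vl_smul]
    exact r7 _ ha _ hb _ (vl_mem_gp.2 hx)

end family

/-! ### The situation -/

variable {G : Type u} [Group G] [Finite G] {S : Sylow 2 G} {P : Subgroup G} {F : Type} [Field F] [Finite F]
  [CharP F 2] {k : ℕ} {N : NatK F (S : Subgroup G) P (zl (S : Subgroup G) P) (cv (S : Subgroup G) P) k}
  {L W Z C A : Fin k → Subgroup G} (D : Dt S P N L W Z C A)

/-- the family of `YS` -/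
abbrev FA (S : Sylow 2 G) (P : Subgroup G) : Set (Subgroup (CZ (S : Subgroup G))) :=
  Fa (CZ (S : Subgroup G)) (WW (S : Subgroup G) P) (mm (S : Subgroup G))

theorem W_le_C (h : Hyp S P) : WW (S : Subgroup G) P ≤ CZ (S : Subgroup G) := (W_le_S h).trans (S_le_CZ S)

theorem mem_FA (_ : Hyp S P) {B : Subgroup G} (hB : B ∈ AA (S : Subgroup G)) :
    B.subgroupOf (CZ (S : Subgroup G)) ∈ FA S P := by
  have h1 : B ≤ CZ (S : Subgroup G) := hB.2.1.trans (S_le_CZ S)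
  refine ⟨B, hB.1, (mm_eq hB).symm, h1, ?_, ?_⟩
  · rw [upc_subgroupOf h1]; exact le_sup_left
  · rw [upc_subgroupOf h1]; exact le_sup_left

/-- A conjugate of `S` which contains all members of `AA S` has the same `Z_J`. -/
theorem zj_eq_of (S : Sylow 2 G) {g : G} (h : ∀ B ∈ AA (S : Subgroup G), B ≤ cj g (S : Subgroup G)) :
    cj g (zj (S : Subgroup G)) = zj (S : Subgroup G) := by
  rw [← zj_cj]
  refine zj_congr (Eq.symm ?_)
  refine Subgroup.eq_of_le_of_card_ge ?_ (by rw [jj_cj, card_cj])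
  conv_lhs => rw [jj_eq]
  refine sSup_le fun B hB => le_jj ?_
  rw [mem_AA_iff]
  exact ⟨hB.1, h B hB, by rw [mm_cj]; exact (mm_eq hB).le⟩

theorem syl_SC (S : Sylow 2 G) : Syl (SC S) ⊤ := by
  refine ⟨le_top, S.isPGroup'.comap_subtype, fun Q _ hQ hSQ => ?_⟩
  have h1 : (S : Subgroup G) ≤ upc Q := (upc_subgroupOf (S_le_CZ S)).ge.trans (upc_le_iff.2 hSQ)
  have h2 := S.is_maximal' (isPGroup_upc.2 hQ) h1
  apply upc_inj
  rw [h2, upc_subgroupOf (S_le_CZ S)]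

include D in
/-- **The situation `YS`.** -/
theorem Dt.ys (hq : 4 ≤ Nat.card F) : YS (FA S P) (SC S) (ZZi D) (ZZ D) (VV D) := by
  have H := D.line.hyp.toHyp
  have w := wd H
  have hmx := Uni.mx_sylow S
  exact
    { two := D.two'
      cjA := fun A hA g => Fa.conj w hA g
      el := fun A hA => Fa.el w hA
      ff := fun A hA X hX => Fa.ff w hmx hA X hX
      rep := fun A hA X hX hne => Fa.rep w (W_le_C H) hmx hA X hX hne
      syl := syl_SC S
      det := fun g hg => by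
        rw [D.smulZ]
        refine zj_eq_of S fun B hB => ?_
        have hBC : B ≤ CZ (S : Subgroup G) := hB.2.1.trans (S_le_CZ S)
        have h1 := hg _ (mem_FA H hB) fun x hx => hB.2.1 hx
        rw [← upc_le_iff, upc_cj, upc_subgroupOf hBC, upc_subgroupOf (S_le_CZ S)] at h1
        exact h1
      cen := fun A hA hAS a ha z hz => by
        obtain ⟨A₀, h1, h2, h3, h4, h5⟩ := hA
        have h6 : A₀ ≤ (S : Subgroup G) := by
          exact h5.trans (sup_le ((upc_le_iff.2 hAS).trans (upc_subgroupOf (S_le_CZ S)).le) (W_le_S H))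
        have h7 : A₀ ∈ AA (S : Subgroup G) := mem_AA_iff.2 ⟨h1, h6, h2.ge⟩
        obtain ⟨b, hb, h8⟩ := Fa.act w h3 h4 ha
        have h9 := (mem_zj.1 hz).2.2 b (le_jj h7 hb)
        apply vl_inj
        rw [vl_smul, h8 _ (vl_mem z), h9]
        group
      ZiZ := D.ZiZ
      dec := D.dec
      uni := D.uni
      prm := D.prm
      odd := D.odd
      four := fun i => by
        rw [card_ad (show Z i ≤ WW (S : Subgroup G) P from fun x hx => D.Z_le_W (D.mem_Z'.1 hx).1),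
          D.line.fr.cardZ i]
        exact hq
      ZV := fun x hx => D.cd.ZV hx
      SV := fun s hs => (smul_ad_eq_iff _ V_le_W V_le_W).2 (D.line.norm (Line.S_le S hs)).1
      lemV := D.lemV }

include D in
/-- **THEOREM Y**, before (8). -/
theorem Dt.main (hq : 4 ≤ Nat.card F) :
    CZ (S : Subgroup G) ≤ normalizer (zj (S : Subgroup G) : Set G) ∨
    ∃ R : Subgroup G, zc (S : Subgroup G) ≤ R ∧ R ≤ zj (S : Subgroup G) ∧
      Nat.card (zj (S : Subgroup G)) ≤ 2 * Nat.card R ∧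
      ∃ g ∈ centralizer (R : Set G), g ∉ normalizer (zj (S : Subgroup G) : Set G) := by
  rcases (D.ys hq).main with h | ⟨R, h1, h2, g, h3, h4⟩
  · left
    intro g hg
    rw [mem_normalizer_iff_cj]
    exact D.smulZ.1 (h ⟨g, hg⟩)
  · right
    have hzc : zc (S : Subgroup G) ≤ zj (S : Subgroup G) := zc_le_zj _
    refine ⟨gp R ⊔ zc (S : Subgroup G), le_sup_right, sup_le ?_ hzc, ?_, (g : G), ?_, fun hn => h4 ?_⟩
    · rintro _ ⟨x, hx, rfl⟩
      exact h1 hx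
    · have h5 : Nat.card R ≤ Nat.card ↥(gp R ⊔ zc (S : Subgroup G)) := by
        rw [← card_gp R]
        exact Subgroup.card_le_of_le le_sup_left
      have h6 : Nat.card (zj (S : Subgroup G)) = 2 * Nat.card R := by
        rw [← h2, card_ad D.Z_le_W]
      rw [h6]
      exact Nat.mul_le_mul_left 2 h5
    · have h6 : gp R ⊔ zc (S : Subgroup G) ≤ centralizer ({(g : G)} : Set G) := by
        refine sup_le ?_ ?_
        · rintro _ ⟨x, hx, rfl⟩
          rw [mem_centralizer_singleton_iff]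
          exact ((smul_eq_iff _ _).1 (h3 x hx)).symm
        · intro z hz
          rw [mem_centralizer_singleton_iff]
          exact mem_centralizer_iff.1 g.2 z hz
      rw [mem_centralizer_iff]
      intro r hr
      exact mem_centralizer_singleton_iff.1 (h6 hr)
    · rw [D.smulZ]
      exact cj_eq_of_mem_normalizer hn

end Cfsg.Agent.Omega.OM.YThm.Plug
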