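import Cfsg.Agent.Omega.OM.YThm.Co

/-!
# Semilinearity on `V` (THEOREM Y, #14470 (V))

`semi_abs` : an injective additive map `T` of `(F²)^k` which normalises `∏ {up c}` and permutes the subspaces `Z i`, and the
subspaces `W i + Z`, is semilinear on `Z` and modulo `Z`, with the same field automorphisms.
-/

set_option autoImplicit false

namespace Cfsg.Agent.Omega.OM.YThm

open Subgroup Cfsg.Agent.ZN Cfsg.Agent.ZN.ChoiceBase Cfsg.Agent.ZN.ChoiceSit
open scoped Pointwise

section abs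

variable {F : Type} [Field F] {k : ℕ}

/-- the action of `up (c i)` on the coordinates -/
def UCo (c : Fin k → F) (x : Fin k → Fin 2 → F) : Fin k → Fin 2 → F := fun i => ![x i 0 + c i * x i 1, x i 1]

/-- the vector with coordinates `(a, b)` at the place `i` -/
def sg (i : Fin k) (a b : F) : Fin k → Fin 2 → F := Pi.single i ![a, b]

theorem sg_same (i : Fin k) (a b : F) : sg i a b i = ![a, b] := Pi.single_eq_same _ _

theorem sg_ne {i l : Fin k} (h : l ≠ i) (a b : F) : sg i a b l = 0 := Pi.single_eq_of_ne h _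

theorem sg_add (i : Fin k) (a b a' b' : F) : sg i (a + a') (b + b') = sg i a b + sg i a' b' := by
  rw [sg, sg, sg, ← Pi.single_add]
  congr 1
  funext l
  fin_cases l <;> simp

theorem sum_sg (x : Fin k → Fin 2 → F) : x = ∑ l, sg l (x l 0) (x l 1) := by
  funext i
  rw [Finset.sum_apply, Finset.sum_eq_single i]
  · rw [sg_same]
    funext l
    fin_cases l <;> simp
  · intro l _ hl
    exact sg_ne hl.symm _ _
  · intro h
    exact absurd (Finset.mem_univ i) h

theorem semi_abs [Finite F] (T : (Fin k → Fin 2 → F) →+ (Fin k → Fin 2 → F)) (hT : Function.Injective T)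
    (hU : ∀ c : Fin k → F, ∃ c' : Fin k → F, ∀ x, T (UCo c x) = UCo c' (T x))
    (hZ : ∀ i, ∃ j, (∀ a, ∀ l, l ≠ j → T (sg i a 0) l = 0) ∧ (∀ a, T (sg i a 0) j 1 = 0) ∧
      ∀ a b, ∀ l, l ≠ j → T (sg i a b) l 1 = 0) :
    ∃ (π : Equiv.Perm (Fin k)) (σ : Fin k → F ≃+* F) (c d : Fin k → F), (∀ i, c i ≠ 0) ∧ (∀ i, d i ≠ 0) ∧
      (∀ x i, T x (π i) 1 = d i * σ i (x i 1)) ∧
      (∀ x, (∀ i, x i 1 = 0) → ∀ i, T x (π i) 0 = c i * σ i (x i 0)) ∧
      ∀ i, (∀ a, ∀ l, l ≠ π i → T (sg i a 0) l = 0) := by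
  classical
  choose p hp1 hp2 hp3 using hZ
  -- the maps `φ`, `ψ`
  let φ : Fin k → F → F := fun i a => T (sg i a 0) (p i) 0
  let ψ : Fin k → F → F := fun i a => T (sg i 0 a) (p i) 1
  have hφadd : ∀ i a b, φ i (a + b) = φ i a + φ i b := by
    intro i a b
    show T (sg i (a + b) 0) (p i) 0 = _
    have e : sg i (a + b) 0 = sg i a 0 + sg i b 0 := by rw [← sg_add, add_zero]
    rw [e, map_add]; rfl
  have hφ0 : ∀ i a, φ i a = 0 → a = 0 := by
    intro i a ha
    have h1 : T (sg i a 0) = 0 := by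
      funext l m
      by_cases hl : l = p i
      · subst hl
        fin_cases m
        · exact ha
        · exact hp2 i a
      · rw [hp1 i a l hl]
        rfl
    have h2 : sg i a 0 = 0 := hT (by rw [h1, map_zero])
    have h3 := congrFun (congrFun h2 i) 0
    rw [sg_same] at h3
    simpa using h3
  have hφinj : ∀ i, Function.Injective (φ i) := by
    intro i a b hab
    have h1 : φ i (a - b) = 0 := by
      have h2 := hφadd i (a - b) b
      rw [sub_add_cancel, hab] at h2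
      exact left_eq_add.1 (by rw [add_comm] at h2; exact h2)
    exact sub_eq_zero.1 (hφ0 i _ h1)
  have hφsurj : ∀ i, Function.Surjective (φ i) := fun i => Finite.injective_iff_surjective.1 (hφinj i)
  -- `φ (t a) = χ t ψ a`
  have hχ : ∀ i, ∃ χ : F → F, ∀ t a, φ i (t * a) = χ t * ψ i a := by
    intro i
    have h1 : ∀ t : F, ∃ c' : F, ∀ a, φ i (t * a) = c' * ψ i a := by
      intro t
      obtain ⟨c', hc'⟩ := hU (Pi.single i t)
      refine ⟨c' (p i), fun a => ?_⟩
      have h2 := hc' (sg i 0 a)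
      have e : UCo (Pi.single i t) (sg i 0 a) = sg i (t * a) 0 + sg i 0 a := by
        rw [← sg_add, add_zero, zero_add]
        funext l m
        by_cases hl : l = i
        · subst hl
          fin_cases m <;> simp [UCo, sg]
        · fin_cases m <;> simp [UCo, sg, hl]
      rw [e, map_add] at h2
      have h3 := congrFun (congrFun h2 (p i)) 0
      simp only [UCo, Pi.add_apply, Matrix.cons_val_zero] at h3
      have h4 : T (sg i (t * a) 0) (p i) 0 = c' (p i) * T (sg i 0 a) (p i) 1 := by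
        have := add_right_cancel (h3.trans (add_comm _ _))
        exact this
      exact h4
    choose χ hχ using h1
    exact ⟨χ, fun t a => hχ t a⟩
  choose χ hχ using hχ
  have hmul : ∀ i t a, φ i (t * a) * φ i 1 = φ i t * φ i a := by
    intro i t a
    have h1 := hχ i t a
    have h2 := hχ i t 1
    have h3 := hχ i 1 a
    have h4 := hχ i 1 1
    rw [mul_one] at h2 h4
    rw [one_mul] at h3
    rw [h1, h2, h3, h4]; ring
  have hφ1 : ∀ i, φ i 1 ≠ 0 := fun i h => one_ne_zero (hφ0 i 1 h)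
  have hψ1 : ∀ i, ψ i 1 ≠ 0 := by
    intro i h
    have h4 := hχ i 1 1
    rw [mul_one, h, mul_zero] at h4
    exact hφ1 i h4
  have hχ1 : ∀ i, χ i 1 ≠ 0 := by
    intro i h
    have h4 := hχ i 1 1
    rw [mul_one, h, zero_mul] at h4
    exact hφ1 i h4
  -- the field automorphisms
  let s : Fin k → F →+* F := fun i =>
    { toFun := fun a => φ i a / φ i 1
      map_one' := div_self (hφ1 i)
      map_mul' := fun a b => by
        show φ i (a * b) / φ i 1 = φ i a / φ i 1 * (φ i b / φ i 1)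
        rw [div_mul_div_comm, ← hmul i a b, mul_div_mul_right _ _ (hφ1 i)]
      map_zero' := by
        show φ i 0 / φ i 1 = 0
        have h1 := hφadd i 0 0
        rw [add_zero] at h1
        rw [left_eq_add.1 h1, zero_div]
      map_add' := fun a b => by
        show φ i (a + b) / φ i 1 = φ i a / φ i 1 + φ i b / φ i 1
        rw [hφadd, add_div] }
  have hsb : ∀ i, Function.Bijective (s i) := fun i => Finite.injective_iff_bijective.1 (s i).injective
  let σ : Fin k → F ≃+* F := fun i => RingEquiv.ofBijective (s i) (hsb i)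
  have hσ : ∀ i a, φ i 1 * σ i a = φ i a := fun i a => mul_div_cancel₀ _ (hφ1 i)
  have hψσ : ∀ i a, ψ i 1 * σ i a = ψ i a := by
    intro i a
    have h1 := hχ i 1 a
    have h2 := hχ i 1 1
    rw [one_mul] at h1
    rw [mul_one] at h2
    refine mul_left_cancel₀ (hχ1 i) ?_
    rw [← h1, ← hσ i a, h2]; ring
  -- `p` is a permutation
  have hpinj : Function.Injective p := by
    intro i i' hii
    by_contra hne
    obtain ⟨a', ha'⟩ := hφsurj i' (-(φ i 1))
    have h1 : T (sg i 1 0 + sg i' a' 0) = 0 := by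
      funext l m
      rw [map_add]
      by_cases hl : l = p i
      · have hl' : l = p i' := hl.trans hii
        fin_cases m
        · show T (sg i 1 0) l 0 + T (sg i' a' 0) l 0 = 0
          have h2 : T (sg i' a' 0) l 0 = -(φ i 1) := by rw [hl']; exact ha'
          rw [h2, hl]
          exact add_neg_cancel _
        · show T (sg i 1 0) l 1 + T (sg i' a' 0) l 1 = 0
          have h2 : T (sg i' a' 0) l 1 = 0 := by rw [hl']; exact hp2 i' a'
          have h3 : T (sg i 1 0) l 1 = 0 := by rw [hl]; exact hp2 i 1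
          rw [h2, h3, add_zero]
      · have hl' : l ≠ p i' := fun h => hl (h.trans hii.symm)
        rw [Pi.add_apply, hp1 i 1 l hl, hp1 i' a' l hl', add_zero]
        rfl
    have h2 : sg i 1 0 + sg i' a' 0 = 0 := hT (by rw [h1, map_zero])
    have h3 := congrFun (congrFun h2 i) 0
    rw [Pi.add_apply, sg_same, sg_ne hne] at h3
    simp at h3
  let π : Equiv.Perm (Fin k) := Equiv.ofBijective p (Finite.injective_iff_bijective.1 hpinj)
  have hπ : ∀ i, π i = p i := fun i => rfl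
  refine ⟨π, σ, fun i => φ i 1, fun i => ψ i 1, hφ1, hψ1, ?_, ?_, fun i => hp1 i⟩
  · intro x i
    have e : T x = ∑ l, T (sg l (x l 0) (x l 1)) := by
      conv_lhs => rw [sum_sg x]
      rw [map_sum]
    rw [e, Finset.sum_apply, Finset.sum_apply, Finset.sum_eq_single i]
    · rw [hψσ, hπ]
      have e2 : sg i (x i 0) (x i 1) = sg i (x i 0) 0 + sg i 0 (x i 1) := by rw [← sg_add, add_zero, zero_add]
      rw [e2, map_add]
      show T (sg i (x i 0) 0) (p i) 1 + T (sg i 0 (x i 1)) (p i) 1 = _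
      rw [hp2 i, zero_add]
    · intro l _ hl
      exact hp3 l _ _ _ fun h => hl (hpinj h.symm)
    · intro h
      exact absurd (Finset.mem_univ i) h
  · intro x hx i
    have e : T x = ∑ l, T (sg l (x l 0) 0) := by
      conv_lhs => rw [sum_sg x]
      rw [map_sum]
      exact Finset.sum_congr rfl fun l _ => by rw [hx l]
    rw [e, Finset.sum_apply, Finset.sum_apply, Finset.sum_eq_single i]
    · rw [hσ]; rfl
    · intro l _ hl
      have h1 := hp1 l (x l 0) (π i) fun h => hl (hpinj h.symm)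
      rw [h1]
      rfl
    · intro h
      exact absurd (Finset.mem_univ i) h

end abs

section grp

variable {G : Type*} [Group G] {F : Type} [Field F] {B V ZJ : Subgroup G} {k : ℕ} {e : G → Fin k → Fin 2 → F}

/-- `g` normalises `V` and `B`, permutes the `Z i` and the `W i ZJ`. -/
structure Nm (B V : Subgroup G) {k : ℕ} (e : G → Fin k → Fin 2 → F) (g : G) : Prop where
  nV : ∀ v ∈ V, g * v * g⁻¹ ∈ V
  nB : ∀ b ∈ B, g * b * g⁻¹ ∈ B
  nW : ∀ i, ∃ j, (∀ z ∈ V, (∀ l, l ≠ i → e z l = 0) → e z i 1 = 0 →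
      (∀ l, l ≠ j → e (g * z * g⁻¹) l = 0) ∧ e (g * z * g⁻¹) j 1 = 0) ∧
    ∀ w ∈ V, (∀ l, l ≠ i → e w l = 0) → ∀ l, l ≠ j → e (g * w * g⁻¹) l 1 = 0

/-- `g` acts semilinearly on `ZJ` and on `V / ZJ`. -/
structure Sm (V ZJ : Subgroup G) {k : ℕ} (e : G → Fin k → Fin 2 → F) (g : G) (π : Equiv.Perm (Fin k))
    (σ : Fin k → F ≃+* F) (c d : Fin k → F) : Prop where
  c0 : ∀ i, c i ≠ 0
  d0 : ∀ i, d i ≠ 0
  one : ∀ v ∈ V, ∀ i, e (g * v * g⁻¹) (π i) 1 = d i * σ i (e v i 1)
  zero : ∀ z ∈ ZJ, ∀ i, e (g * z * g⁻¹) (π i) 0 = c i * σ i (e z i 0)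

theorem Cd.map_one (h : Cd F B V ZJ k e) : e 1 = 0 := by
  have h1 := h.mul 1 (one_mem V) 1 (one_mem V)
  rw [one_mul] at h1
  exact left_eq_add.1 h1

theorem Cd.eq_of (h : Cd F B V ZJ k e) {v w : G} (hv : v ∈ V) (hw : w ∈ V) (hvw : e v = e w) : v = w := by
  have h1 : e (w⁻¹) = -e w := by
    have h2 := h.mul w hw w⁻¹ (inv_mem hw)
    rw [mul_inv_cancel, h.map_one] at h2
    exact (neg_eq_of_add_eq_zero_right h2.symm).symm
  have h2 : e (v * w⁻¹) = 0 := by
    rw [h.mul v hv _ (inv_mem hw), h1, hvw, add_neg_cancel]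
  exact mul_inv_eq_one.1 (h.inj _ (mul_mem hv (inv_mem hw)) h2)

/-- **Semilinearity** -/
theorem Cd.semi [Finite F] (h : Cd F B V ZJ k e) {g : G} (hg : Nm B V e g) :
    ∃ (π : Equiv.Perm (Fin k)) (σ : Fin k → F ≃+* F) (c d : Fin k → F), Sm V ZJ e g π σ c d ∧
      ∀ i, ∀ z ∈ V, (∀ l, l ≠ i → e z l = 0) → e z i 1 = 0 → ∀ l, l ≠ π i → e (g * z * g⁻¹) l = 0 := by
  classical
  choose f hfV hf using h.surj
  have hfe : ∀ v ∈ V, f (e v) = v := fun v hv => h.eq_of (hfV _) hv (hf _)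
  let T : (Fin k → Fin 2 → F) →+ (Fin k → Fin 2 → F) :=
    { toFun := fun x => e (g * f x * g⁻¹)
      map_zero' := by
        have h1 : f 0 = 1 := h.inj _ (hfV 0) (hf 0)
        rw [h1, mul_one, mul_inv_cancel, h.map_one]
      map_add' := fun x y => by
        have h1 : f (x + y) = f x * f y := h.eq_of (hfV _) (mul_mem (hfV _) (hfV _)) (by
          rw [hf, h.mul _ (hfV x) _ (hfV y), hf, hf])
        rw [h1, ← h.mul _ (hg.nV _ (hfV x)) _ (hg.nV _ (hfV y))]
        congr 1
        group }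
  have hTe : ∀ v ∈ V, T (e v) = e (g * v * g⁻¹) := fun v hv => by
    show e (g * f (e v) * g⁻¹) = _
    rw [hfe v hv]
  have hTf : ∀ x, T x = e (g * f x * g⁻¹) := fun x => rfl
  have hT : Function.Injective T := by
    intro x y hxy
    rw [hTf, hTf] at hxy
    have h1 := h.eq_of (hg.nV _ (hfV x)) (hg.nV _ (hfV y)) hxy
    have h2 : f x = f y := by simpa using h1
    rw [← hf x, ← hf y, h2]
  have hUe : ∀ (c : Fin k → F) (b : G), (∀ v ∈ V, ∀ i,
      e (b * v * b⁻¹) i 0 = e v i 0 + c i * e v i 1 ∧ e (b * v * b⁻¹) i 1 = e v i 1) →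
      ∀ v ∈ V, e (b * v * b⁻¹) = UCo c (e v) := by
    intro c b hb v hv
    funext i m
    fin_cases m
    · exact (hb v hv i).1
    · exact (hb v hv i).2
  have hU : ∀ c, ∃ c', ∀ x, T (UCo c x) = UCo c' (T x) := by
    intro c
    obtain ⟨b, hb, hbc⟩ := h.full c
    obtain ⟨c', hc'⟩ := h.act (g * b * g⁻¹) (hg.nB b hb)
    refine ⟨c', fun x => ?_⟩
    have e1 : UCo c x = e (b * f x * b⁻¹) := by rw [hUe c b hbc _ (hfV x), hf]
    rw [e1, hTe _ (h.nB b hb _ (hfV x)), hTf, ← hUe c' _ hc' _ (hg.nV _ (hfV x))]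
    congr 1
    group
  have hZ : ∀ i, ∃ j, (∀ a, ∀ l, l ≠ j → T (sg i a 0) l = 0) ∧ (∀ a, T (sg i a 0) j 1 = 0) ∧
      ∀ a b, ∀ l, l ≠ j → T (sg i a b) l 1 = 0 := by
    intro i
    obtain ⟨j, hj1, hj2⟩ := hg.nW i
    refine ⟨j, fun a l hl => ?_, fun a => ?_, fun a b l hl => ?_⟩
    · rw [hTf]
      refine (hj1 _ (hfV _) (fun l hl => ?_) ?_).1 l hl
      · rw [hf, sg_ne hl]
      · rw [hf, sg_same]; rfl
    · rw [hTf]
      refine (hj1 _ (hfV _) (fun l hl => ?_) ?_).2
      · rw [hf, sg_ne hl]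
      · rw [hf, sg_same]; rfl
    · rw [hTf]
      refine hj2 _ (hfV _) (fun l hl => ?_) l hl
      rw [hf, sg_ne hl]
  obtain ⟨π, σ, c, d, h1, h2, h3, h4, h5⟩ := semi_abs T hT hU hZ
  refine ⟨π, σ, c, d, ⟨h1, h2, fun v hv i => ?_, fun z hz i => ?_⟩, fun i z hz hzi hz1 l hl => ?_⟩
  · rw [← hTe v hv]; exact h3 _ _
  · rw [← hTe z (h.ZV hz)]; exact h4 _ ((h.memZ z (h.ZV hz)).1 hz) _
  · rw [← hTe z hz]
    have e1 : e z = sg i (e z i 0) 0 := by
      funext m n
      by_cases hm : m = i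
      · subst hm
        rw [sg_same]
        fin_cases n
        · rfl
        · exact hz1
      · rw [hzi m hm, sg_ne hm]
    rw [e1]
    exact h5 i _ l hl

end grp

end Cfsg.Agent.Omega.OM.YThm
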