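import Cfsg.Agent.Omega.OM.YThm.Def
import Mathlib.GroupTheory.PGroup
import Mathlib.Algebra.BigOperators.Group.Finset.Basic

/-!
# THEOREM Y, part B2: the core facts of (b1)-(b6) and the SUM step (b7)
-/

set_option autoImplicit false

namespace Cfsg.Agent.Omega.OM.YThm.Two

open Subgroup Cfsg.Agent.ZN Cfsg.Agent.ZN.ChoiceBase Cfsg.Agent.ZN.ChoiceSit
open scoped Pointwise

variable {H : Type*} [Group H] {M : Type*} [AddCommGroup M] [DistribMulAction H M]

/-- What is used of steps (b1)-(b6). -/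
structure Core (A L : Subgroup H) (Z₁ U : AddSubgroup M) : Prop where
  two : ∀ x : M, x + x = 0
  el : El M A
  AL : A ≤ L
  cen : ∀ a ∈ A, ∀ z ∈ Z₁, a • z = z
  ne : ∃ l ∈ L, l • Z₁ ≠ Z₁
  pt : ∀ l ∈ L, ∀ z ∈ Z₁, l • z ∈ U
  fixA : ∀ u ∈ U, ∀ x ∈ L, x • Z₁ ≠ Z₁ → (∀ a ∈ A, a • u = u) → (∀ a ∈ A, (x * a * x⁻¹) • u = u) →
    ∀ l ∈ L, l • u = u
  ker : ∀ u ∈ U, (∀ a ∈ A, a • u = u) → (∀ l ∈ L, ∀ m ∈ L, m • (l • u - u) = l • u - u) → ∀ l ∈ L, l • u = u
  inj : ∀ a ∈ A, a ∉ kA A L Z₁ → ∀ u ∈ U, (∀ m ∈ L, m • (a • u - u) = a • u - u) → ∀ b ∈ A, b • u = u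
  ti : ∀ a ∈ A, ∀ x ∈ L, x • Z₁ ≠ Z₁ → a • x • Z₁ = x • Z₁ → a ∈ kA A L Z₁
  sub : ∀ b ∈ kA A L Z₁, ∀ l ∈ L, ∀ z ∈ Z₁, b • l • z - l • z ∈ fx Z₁ L
  quad : ∀ a ∈ A, ∀ b ∈ A, ∀ u ∈ U, a • (b • u - u) = b • u - u

namespace Core

variable {A L : Subgroup H} {Z₁ U : AddSubgroup M}

theorem neg_eq (c : Core A L Z₁ U) (x : M) : -x = x := (eq_neg_of_add_eq_zero_left (c.two x)).symm

theorem sub_eq (c : Core A L Z₁ U) (x y : M) : x - y = x + y := by rw [sub_eq_add_neg, c.neg_eq]

/-- `a • a` is trivial on subgroups, too -/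
theorem sq_smul (c : Core A L Z₁ U) {a : H} (ha : a ∈ A) (P : AddSubgroup M) : a • a • P = P := by
  ext x
  rw [AddSubgroup.mem_pointwise_smul_iff_inv_smul_mem, AddSubgroup.mem_pointwise_smul_iff_inv_smul_mem]
  have h1 : a⁻¹ • a⁻¹ • x = x := c.el.sq _ (A.inv_mem ha) x
  rw [h1]

theorem comm_smul (c : Core A L Z₁ U) {a b : H} (ha : a ∈ A) (hb : b ∈ A) (P : AddSubgroup M) :
    a • b • P = b • a • P := by
  ext x
  rw [AddSubgroup.mem_pointwise_smul_iff_inv_smul_mem, AddSubgroup.mem_pointwise_smul_iff_inv_smul_mem,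
    AddSubgroup.mem_pointwise_smul_iff_inv_smul_mem, AddSubgroup.mem_pointwise_smul_iff_inv_smul_mem,
    c.el.comm _ (A.inv_mem hb) _ (A.inv_mem ha)]

theorem quad' (c : Core A L Z₁ U) {a b : H} (ha : a ∈ A) (hb : b ∈ A) {u : M} (hu : u ∈ U) :
    a • b • u = a • u + b • u + u := by
  have h1 := c.quad a ha b hb u hu
  rw [smul_sub, sub_eq_iff_eq_add] at h1
  rw [h1, c.sub_eq]
  abel

/-- (b7) the SUM step. -/
theorem sum_step [Finite M] (c : Core A L Z₁ U) {a b : H} (ha : a ∈ A) (hb : b ∈ A) (hak : a ∉ kA A L Z₁)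
    (hbk : b ∉ kA A L Z₁) (habk : a * b ∉ kA A L Z₁) {z : M} (hz : z ∈ Z₁)
    (hzL : ∀ l ∈ L, l • Z₁ = Z₁ → l • z - z ∈ fx Z₁ L) : z ∈ fx Z₁ L := by
  classical
  set R := fx Z₁ L with hR
  -- the points
  let isPt : AddSubgroup M → Prop := fun P => ∃ l ∈ L, l • Z₁ = P
  have hpt1 : isPt Z₁ := ⟨1, L.one_mem, one_smul H _⟩
  have hptg : ∀ {P : AddSubgroup M}, isPt P → ∀ {g : H}, g ∈ L → isPt (g • P) := by
    rintro P ⟨l, hl, rfl⟩ g hg
    exact ⟨g * l, L.mul_mem hg hl, mul_smul g l Z₁⟩
  let rep : AddSubgroup M → H := fun P => if h : isPt P then h.choose else 1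
  have hrep : ∀ {P : AddSubgroup M}, isPt P → rep P ∈ L ∧ rep P • Z₁ = P := by
    intro P hP
    have : rep P = hP.choose := dif_pos hP
    rw [this]
    exact hP.choose_spec
  let F : AddSubgroup M → M := fun P => rep P • z
  have hFU : ∀ {P : AddSubgroup M}, isPt P → F P ∈ U := fun hP => c.pt _ (hrep hP).1 z hz
  have hRfix : ∀ {r : M}, r ∈ R → ∀ l ∈ L, l • r = r := fun hr => hr.2
  -- two elements of `L` with the same image of `Z₁`
  have key : ∀ g ∈ L, ∀ k ∈ L, g • Z₁ = k • Z₁ → g • z - k • z ∈ R := by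
    intro g hg k hk hgk
    have hm : (k⁻¹ * g) • Z₁ = Z₁ := by rw [mul_smul, hgk, inv_smul_smul]
    have hmL : k⁻¹ * g ∈ L := L.mul_mem (L.inv_mem hk) hg
    have hr := hzL _ hmL hm
    have h1 := hRfix hr k hk
    rw [smul_sub, ← mul_smul, mul_inv_cancel_left] at h1
    rw [h1]
    exact hr
  have hF : ∀ {P : AddSubgroup M}, isPt P → ∀ {g : H}, g ∈ L → g • F P - F (g • P) ∈ R := by
    intro P hP g hg
    have h1 := hrep hP
    have h2 := hrep (hptg hP hg)
    have h3 := key (g * rep P) (L.mul_mem hg h1.1) (rep (g • P)) h2.1 (by rw [mul_smul, h1.2, h2.2])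
    rwa [mul_smul] at h3
  have := Fintype.ofFinite (AddSubgroup M)
  let Om : Finset (AddSubgroup M) := Finset.univ.filter isPt
  have hOm : ∀ {P : AddSubgroup M}, P ∈ Om ↔ isPt P := by
    intro P; simp [Om]
  let s : M := ∑ P ∈ Om, F P
  -- `s` is fixed modulo `R`
  have hs : ∀ g ∈ L, g • s - s ∈ R := by
    intro g hg
    have h1 : s = ∑ P ∈ Om, F (g • P) := by
      refine (Finset.sum_bij (fun P _ => g • P) ?_ ?_ ?_ ?_).symm
      · intro P hP
        exact hOm.2 (hptg (hOm.1 hP) hg)
      · intro P _ Q _ hPQ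
        exact smul_left_cancel g hPQ
      · intro Q hQ
        refine ⟨g⁻¹ • Q, hOm.2 (hptg (hOm.1 hQ) (L.inv_mem hg)), ?_⟩
        simp
      · intro P _
        rfl
    have h2 : g • s - s = ∑ P ∈ Om, (g • F P - F (g • P)) := by
      rw [Finset.sum_sub_distrib, ← h1, Finset.smul_sum]
    rw [h2]
    exact R.sum_mem fun P hP => hF (hOm.1 hP) hg
  -- the points other than `Z₁`
  have hoth : ∑ P ∈ Om.erase Z₁, F P ∈ R := by
    rw [← QuotientAddGroup.eq_zero_iff]
    have h1 : ((∑ P ∈ Om.erase Z₁, F P : M) : M ⧸ R) = ∑ P ∈ Om.erase Z₁, ((F P : M) : M ⧸ R) :=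
      map_sum (QuotientAddGroup.mk' R) _ _
    rw [h1]
    let rel : Setoid (AddSubgroup M) :=
      { r := fun P Q => Q = P ∨ Q = a • P ∨ Q = b • P ∨ Q = a • b • P
        iseqv :=
          { refl := fun P => Or.inl rfl
            symm := by
              rintro P Q (h | h | h | h)
              · exact Or.inl h.symm
              · exact Or.inr (Or.inl (by rw [h, c.sq_smul ha]))
              · exact Or.inr (Or.inr (Or.inl (by rw [h, c.sq_smul hb])))
              · exact Or.inr (Or.inr (Or.inr (by rw [h, c.comm_smul ha hb, c.sq_smul ha, c.sq_smul hb])))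
            trans := by
              rintro P Q T (rfl | rfl | rfl | rfl) h
              · exact h
              · rcases h with rfl | rfl | rfl | rfl
                · exact Or.inr (Or.inl rfl)
                · exact Or.inl (by rw [c.sq_smul ha])
                · exact Or.inr (Or.inr (Or.inr (by rw [c.comm_smul hb ha])))
                · exact Or.inr (Or.inr (Or.inl (by rw [c.comm_smul hb ha, c.sq_smul ha])))
              · rcases h with rfl | rfl | rfl | rfl
                · exact Or.inr (Or.inr (Or.inl rfl))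
                · exact Or.inr (Or.inr (Or.inr rfl))
                · exact Or.inl (by rw [c.sq_smul hb])
                · exact Or.inr (Or.inl (by rw [c.sq_smul hb]))
              · rcases h with rfl | rfl | rfl | rfl
                · exact Or.inr (Or.inr (Or.inr rfl))
                · exact Or.inr (Or.inr (Or.inl (by rw [c.sq_smul ha])))
                · exact Or.inr (Or.inl (by rw [c.comm_smul hb ha, c.sq_smul hb]))
                · exact Or.inl (by rw [c.comm_smul ha hb, c.sq_smul ha, c.sq_smul hb]) } }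
    refine Finset.sum_cancels_of_partition_cancels rel fun P hP => ?_
    have hPne : P ≠ Z₁ := (Finset.mem_erase.1 hP).1
    have hPt : isPt P := hOm.1 (Finset.mem_erase.1 hP).2
    obtain ⟨x, hxL, hxP⟩ := id hPt
    have hxne : x • Z₁ ≠ Z₁ := by rw [hxP]; exact hPne
    have hti : ∀ {e : H}, e ∈ A → e ∉ kA A L Z₁ → e • P ≠ P := by
      intro e he hek h
      exact hek (c.ti e he x hxL hxne (by rw [hxP]; exact h))
    have hfixZ : ∀ {e : H}, e ∈ A → e • Z₁ = Z₁ := by
      intro e he
      ext y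
      rw [AddSubgroup.mem_pointwise_smul_iff_inv_smul_mem]
      constructor
      · intro hy
        have := c.cen e he _ hy
        rw [smul_inv_smul] at this
        rw [this]
        exact hy
      · intro hy
        rw [c.cen _ (A.inv_mem he) y hy]
        exact hy
    have hneZ : ∀ {e : H}, e ∈ A → e • P ≠ Z₁ := by
      intro e he h
      apply hPne
      have := congrArg (fun Q => e⁻¹ • Q) h
      simp only [inv_smul_smul] at this
      rw [this, hfixZ (A.inv_mem he)]
    have hA := c.AL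
    have haP : a • P ≠ P := hti ha hak
    have hbP : b • P ≠ P := hti hb hbk
    have habP : a • b • P ≠ P := by
      have := hti (A.mul_mem ha hb) habk
      rwa [mul_smul] at this
    have hab1 : a • P ≠ b • P := by
      intro h
      apply habP
      rw [← h, c.sq_smul ha]
    have hab2 : a • P ≠ a • b • P := by
      intro h
      exact hbP (smul_left_cancel a h).symm
    have hab3 : b • P ≠ a • b • P := by
      intro h
      rw [c.comm_smul ha hb] at h
      exact haP (smul_left_cancel b h).symm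
    have hset : (Om.erase Z₁).filter (fun Q => rel Q P) = {P, a • P, b • P, a • b • P} := by
      ext Q
      simp only [Finset.mem_filter, Finset.mem_insert, Finset.mem_singleton]
      constructor
      · exact fun h => rel.symm h.2
      · intro h
        refine ⟨?_, rel.symm h⟩
        rw [Finset.mem_erase]
        rcases h with rfl | rfl | rfl | rfl
        · exact ⟨hPne, hOm.2 hPt⟩
        · exact ⟨hneZ ha, hOm.2 (hptg hPt (hA ha))⟩
        · exact ⟨hneZ hb, hOm.2 (hptg hPt (hA hb))⟩
        · refine ⟨?_, hOm.2 (hptg (hptg hPt (hA hb)) (hA ha))⟩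
          have := hneZ (A.mul_mem ha hb)
          rwa [mul_smul] at this
    rw [hset, Finset.sum_insert, Finset.sum_insert, Finset.sum_insert, Finset.sum_singleton]
    · have e1 : ((F (a • P) : M) : M ⧸ R) = ((a • F P : M) : M ⧸ R) := by
        rw [eq_comm, QuotientAddGroup.eq_iff_sub_mem]
        exact hF hPt (hA ha)
      have e2 : ((F (b • P) : M) : M ⧸ R) = ((b • F P : M) : M ⧸ R) := by
        rw [eq_comm, QuotientAddGroup.eq_iff_sub_mem]
        exact hF hPt (hA hb)
      have e3 : ((F (a • b • P) : M) : M ⧸ R) = ((a • b • F P : M) : M ⧸ R) := by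
        rw [eq_comm, QuotientAddGroup.eq_iff_sub_mem]
        have := hF hPt (g := a * b) (L.mul_mem (hA ha) (hA hb))
        rwa [mul_smul, mul_smul] at this
      rw [e1, e2, e3, ← QuotientAddGroup.mk_add, ← QuotientAddGroup.mk_add, ← QuotientAddGroup.mk_add,
        QuotientAddGroup.eq_zero_iff]
      have h0 : F P + (a • F P + (b • F P + a • b • F P)) = 0 := by
        rw [c.quad' ha hb (hFU hPt)]
        have := c.two (F P + a • F P + b • F P)
        calc F P + (a • F P + (b • F P + (a • F P + b • F P + F P)))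
            = (F P + a • F P + b • F P) + (F P + a • F P + b • F P) := by abel
          _ = 0 := this
      rw [h0]
      exact R.zero_mem
    · simp only [Finset.mem_singleton]; exact hab3
    · simp only [Finset.mem_insert, Finset.mem_singleton, not_or]; exact ⟨hab1, hab2⟩
    · simp only [Finset.mem_insert, Finset.mem_singleton, not_or]
      exact ⟨haP.symm, hbP.symm, habP.symm⟩
  -- so `z` is fixed modulo `R`
  have hzs : s - z ∈ R := by
    have h1 : s = F Z₁ + ∑ P ∈ Om.erase Z₁, F P := (Finset.add_sum_erase Om F (hOm.2 hpt1)).symm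
    have h2 : F Z₁ - z ∈ R := by
      have := key (rep Z₁) (hrep hpt1).1 1 L.one_mem (by rw [(hrep hpt1).2, one_smul])
      rwa [one_smul] at this
    have h3 : s - z = (F Z₁ - z) + ∑ P ∈ Om.erase Z₁, F P := by rw [h1]; abel
    rw [h3]
    exact R.add_mem h2 hoth
  have hzfix : ∀ g ∈ L, g • z - z ∈ R := by
    intro g hg
    have h1 := hRfix hzs g hg
    rw [smul_sub] at h1
    have h2 : g • z - z = g • s - s := by
      have : g • z = g • s - (s - z) := by rw [← h1]; abel
      rw [this]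
      abel
    rw [h2]
    exact hs g hg
  refine ⟨hz, ?_⟩
  have hzU : z ∈ U := by
    have := c.pt 1 L.one_mem z hz
    rwa [one_smul] at this
  exact c.ker z hzU (fun a ha => c.cen a ha z hz) fun l hl m hm => hRfix (hzfix l hl) m hm

end Core

end Cfsg.Agent.Omega.OM.YThm.Two
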